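import Cfsg.Agent.MinSimple.VModule
import Cfsg.Agent.ZN.Map

/-!
# `O₂(C_G(y))` for an involution `y` of a group of characteristic 2 type
-/

set_option autoImplicit false

namespace Cfsg.Agent.Omega.GTwoFour.Cor

open Subgroup Cfsg Cfsg.Agent.ZN Cfsg.Agent.MinSimple.VModule

universe u

variable {G : Type u} [Group G]

/-- `O₂(C_G(y))` -/
def R (y : G) : Subgroup G := o2 (centralizer ({y} : Set G))

theorem R_two (y : G) : IsPGroup 2 (R y) := o2_isPGroup _

theorem R_cen {y r : G} (hr : r ∈ R y) : r * y = y * r :=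
  mem_centralizer_singleton_iff.mp (o2_le _ hr)

theorem R_norm {y g r : G} (hg : g * y = y * g) (hr : r ∈ R y) : g * r * g⁻¹ ∈ R y :=
  (mem_normalizer_iff.mp (le_normalizer_o2 _ (mem_centralizer_singleton_iff.mpr hg)) r).mp hr

theorem le_R {y : G} {N : Subgroup G} (h1 : ∀ n ∈ N, n * y = y * n) (h2 : IsPGroup 2 N)
    (h3 : ∀ g, g * y = y * g → ∀ n ∈ N, g * n * g⁻¹ ∈ N) : N ≤ R y := by
  refine le_o2 (fun n hn => mem_centralizer_singleton_iff.mpr (h1 n hn)) h2 ?_
  intro g hg
  rw [mem_centralizer_singleton_iff] at hg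
  rw [mem_normalizer_iff]
  intro n
  refine ⟨fun hn => h3 g hg n hn, fun hn => ?_⟩
  have h4 : g⁻¹ * y = y * g⁻¹ := by
    rw [inv_mul_eq_iff_eq_mul, ← mul_assoc, hg, mul_inv_cancel_right]
  have h5 := h3 g⁻¹ h4 _ hn
  rwa [show g⁻¹ * (g * n * g⁻¹) * g⁻¹⁻¹ = n by group] at h5

theorem y_mem_R {y : G} (hy : y * y = 1) : y ∈ R y := by
  have h1 : zpowers y ≤ R y := by
    refine le_R ?_ ?_ ?_
    · intro n hn
      obtain ⟨k, rfl⟩ := mem_zpowers_iff.mp hn
      exact (Commute.refl y).zpow_left k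
    · have h2 : y ^ (2 : ℕ) = 1 := by rw [pow_two, hy]
      intro ⟨n, hn⟩
      obtain ⟨k, rfl⟩ := mem_zpowers_iff.mp hn
      refine ⟨1, Subtype.ext ?_⟩
      simp only [pow_one, SubgroupClass.coe_pow, OneMemClass.coe_one]
      rw [← zpow_natCast, ← zpow_mul, mul_comm, zpow_mul, zpow_natCast, h2, one_zpow]
    · intro g hg n hn
      obtain ⟨k, rfl⟩ := mem_zpowers_iff.mp hn
      have h3 : g * y ^ k = y ^ k * g := (show Commute g y from hg).zpow_right k
      rw [h3, mul_inv_cancel_right]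
      exact hn
  exact h1 (mem_zpowers y)

theorem R_self (hG : IsCharacteristicTwoType G) {y g : G} (hy : y * y = 1) (hy1 : y ≠ 1)
    (hg : g * y = y * g) (h : ∀ r ∈ R y, g * r = r * g) : g ∈ R y := by
  have hp : IsPGroup 2 (zpowers y) := by
    have h2 : y ^ (2 : ℕ) = 1 := by rw [pow_two, hy]
    intro ⟨n, hn⟩
    obtain ⟨k, rfl⟩ := mem_zpowers_iff.mp hn
    refine ⟨1, Subtype.ext ?_⟩
    simp only [pow_one, SubgroupClass.coe_pow, OneMemClass.coe_one]
    rw [← zpow_natCast, ← zpow_mul, mul_comm, zpow_mul, zpow_natCast, h2, one_zpow]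
  have hN : normalizer (zpowers y : Set G) = centralizer ({y} : Set G) := by
    ext n
    rw [mem_centralizer_singleton_iff, mem_normalizer_iff]
    constructor
    · intro h1
      have h2 := (h1 y).mp (mem_zpowers y)
      obtain ⟨k, hk⟩ := mem_zpowers_iff.mp h2
      have h3 : y ^ k = 1 ∨ y ^ k = y := by
        rcases Int.even_or_odd k with ⟨m, rfl⟩ | ⟨m, rfl⟩
        · left
          rw [zpow_add, ← (Commute.refl y).mul_zpow, hy, one_zpow]
        · right
          rw [zpow_add, two_mul, zpow_add, ← (Commute.refl y).mul_zpow, hy, one_zpow, one_mul, zpow_one]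
      rcases h3 with h3 | h3
      · exfalso
        rw [h3] at hk
        apply hy1
        have : n * y * n⁻¹ = 1 := hk.symm
        rwa [mul_inv_eq_one, mul_eq_left] at this
      · rw [h3] at hk
        rw [eq_comm, mul_inv_eq_iff_eq_mul] at hk
        exact hk
    · intro h1 m
      have key : ∀ k : ℤ, n * y ^ k * n⁻¹ = y ^ k := by
        intro k
        rw [((show Commute n y from h1).zpow_right k).eq, mul_inv_cancel_right]
      constructor
      · intro hm
        obtain ⟨k, rfl⟩ := mem_zpowers_iff.mp hm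
        rw [key]
        exact hm
      · intro hm
        obtain ⟨k, hk⟩ := mem_zpowers_iff.mp hm
        have : m = y ^ k := by
          have h5 := key k
          rw [hk] at h5
          have h6 : n * (n * m * n⁻¹) * n⁻¹ = n * m * n⁻¹ := h5
          have h7 : n * m * n⁻¹ = m := by
            have := mul_right_cancel (mul_left_cancel (a := n) (by simpa [mul_assoc] using h6) :
              (n * m * n⁻¹) * n⁻¹ = m * n⁻¹)
            exact this
          rw [← h7, hk]
        rw [this]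
        exact zpow_mem (mem_zpowers y) k
  have h1 := hG.2 (zpowers y) hp (fun hc => hy1 (zpowers_eq_bot.mp hc))
  rw [hN] at h1
  have h2 : (⟨g, mem_centralizer_singleton_iff.mpr hg⟩ : ↥(centralizer ({y} : Set G))) ∈
      pCore 2 ↥(centralizer ({y} : Set G)) := by
    refine h1 (mem_centralizer_iff.mpr fun x hx => Subtype.ext ?_)
    exact (h _ ⟨x, hx, rfl⟩).symm
  exact ⟨_, h2, rfl⟩

theorem card_R_conj (g y : G) : Nat.card (R (g * y * g⁻¹)) = Nat.card (R y) := by
  have h1 : centralizer ({g * y * g⁻¹} : Set G) =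
      (centralizer ({y} : Set G)).map (MulAut.conj g).toMonoidHom := by
    ext n
    rw [mem_centralizer_singleton_iff, mem_map]
    constructor
    · intro hn
      refine ⟨g⁻¹ * n * g, ?_, by simp [MulAut.conj_apply, mul_assoc]⟩
      rw [mem_centralizer_singleton_iff]
      calc g⁻¹ * n * g * y = g⁻¹ * (n * (g * y * g⁻¹)) * g := by group
        _ = g⁻¹ * ((g * y * g⁻¹) * n) * g := by rw [hn]
        _ = _ := by group
    · rintro ⟨m, hm, rfl⟩
      rw [mem_centralizer_singleton_iff] at hm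
      simp only [MulEquiv.coe_toMonoidHom, MulAut.conj_apply]
      calc g * m * g⁻¹ * (g * y * g⁻¹) = g * (m * y) * g⁻¹ := by group
        _ = g * (y * m) * g⁻¹ := by rw [hm]
        _ = _ := by group
  have hinj : Function.Injective (MulAut.conj g).toMonoidHom := (MulAut.conj g).injective
  rw [R, h1, o2_map _ hinj, Subgroup.card_map_of_injective hinj]
  rfl

/-- a Sylow 2-subgroup of `C_G(y)` inside a conjugate of `S` -/
theorem extremal [Finite G] (S : Sylow 2 G) {y : G} (hy : y * y = 1) :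
    ∃ g : G, g * y * g⁻¹ ∈ (S : Subgroup G) ∧ ∀ P : Subgroup G, IsPGroup 2 P →
      (∀ p ∈ P, p * y = y * p) →
      Nat.card P ≤ Nat.card ((S : Subgroup G) ⊓ centralizer ({g * y * g⁻¹} : Set G) : Subgroup G) := by
  have h2 : Fact (Nat.Prime 2) := ⟨Nat.prime_two⟩
  set N := centralizer ({y} : Set G) with hN
  obtain ⟨P0⟩ : Nonempty (Sylow 2 N) := inferInstance
  set Q : Subgroup G := (P0 : Subgroup N).map N.subtype with hQ
  have hQ2 : IsPGroup 2 Q := P0.isPGroup'.map _
  have hyQ : y ∈ Q := by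
    have h3 : pCore 2 N ≤ (P0 : Subgroup N) := Lib.Cores.pCore_le_sylow P0
    exact Subgroup.map_mono h3 (y_mem_R hy)
  obtain ⟨Q', hQ'⟩ := hQ2.exists_le_sylow
  obtain ⟨g, hg⟩ := MulAction.exists_smul_eq G Q' S
  have hgQ : ∀ x ∈ Q, g * x * g⁻¹ ∈ (S : Subgroup G) := by
    intro x hx
    rw [← hg]
    exact ⟨x, hQ' hx, rfl⟩
  refine ⟨g, hgQ y hyQ, fun P hP hPy => ?_⟩
  have h4 : P ≤ N := fun p hp => mem_centralizer_singleton_iff.mpr (hPy p hp)
  have h5 : IsPGroup 2 (P.subgroupOf N) := hP.comap_of_injective _ N.subtype_injective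
  obtain ⟨P1, hP1⟩ := h5.exists_le_sylow
  have h6 : Nat.card P ≤ Nat.card Q := by
    rw [← Nat.card_congr (subgroupOfEquivOfLe h4).toEquiv, hQ,
      Subgroup.card_map_of_injective N.subtype_injective]
    exact (Subgroup.card_le_of_le hP1).trans (by rw [Sylow.card_eq_multiplicity, Sylow.card_eq_multiplicity])
  refine h6.trans ?_
  refine Nat.card_le_card_of_injective
    (fun x : Q => (⟨g * x * g⁻¹, hgQ x x.2, mem_centralizer_singleton_iff.mpr ?_⟩ :
      ((S : Subgroup G) ⊓ centralizer ({g * y * g⁻¹} : Set G) : Subgroup G))) ?_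
  · obtain ⟨x, z, hz, rfl⟩ := x
    have h7 := mem_centralizer_singleton_iff.mp z.2
    simp only [Subgroup.coe_subtype]
    calc g * (z : G) * g⁻¹ * (g * y * g⁻¹) = g * ((z : G) * y) * g⁻¹ := by group
      _ = g * (y * z) * g⁻¹ := by rw [h7]
      _ = _ := by group
  · intro a b hab
    have h8 : g * (a : G) * g⁻¹ = g * (b : G) * g⁻¹ := congrArg Subtype.val hab
    exact Subtype.ext (mul_left_cancel (mul_right_cancel h8))

/-- `|O₂(C(y))| |P| ≤ |C(y)|₂` -/
theorem card_mul_le [Finite G] {y : G} {P : Subgroup G} (hP : IsPGroup 2 P) (hPy : ∀ p ∈ P, p * y = y * p)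
    (hd : ∀ x ∈ R y, x ∈ P → x = 1) {n : ℕ}
    (hn : ∀ Q : Subgroup G, IsPGroup 2 Q → (∀ q ∈ Q, q * y = y * q) → Nat.card Q ≤ n) :
    Nat.card (R y) * Nat.card P ≤ n := by
  have h1 : P ≤ normalizer (R y : Set G) := fun p hp => le_normalizer_o2 _
    (mem_centralizer_singleton_iff.mpr (hPy p hp))
  have h2 : IsPGroup 2 (R y ⊔ P : Subgroup G) := (R_two y).to_sup_of_normal_left' hP h1
  have h3 : Nat.card (R y) * Nat.card P ≤ Nat.card (R y ⊔ P : Subgroup G) := by
    rw [← Nat.card_prod]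
    refine Nat.card_le_card_of_injective (fun x : R y × P =>
      (⟨x.1 * x.2, mul_mem (le_sup_left (a := R y) x.1.2) (le_sup_right (a := R y) x.2.2)⟩ :
        (R y ⊔ P : Subgroup G))) ?_
    rintro ⟨a, p⟩ ⟨b, q⟩ hab
    have h4 : (a : G) * p = b * q := congrArg Subtype.val hab
    have h5 : (b : G)⁻¹ * a = q * (p : G)⁻¹ := by
      rw [inv_mul_eq_iff_eq_mul, ← mul_assoc, ← h4, mul_inv_cancel_right]
    have h6 := hd _ (mul_mem (inv_mem b.2) a.2) (h5 ▸ mul_mem q.2 (inv_mem p.2))
    have h7 : (a : G) = b := (inv_mul_eq_one.mp h6).symm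
    rw [h7] at h4
    exact Prod.ext (Subtype.ext h7) (Subtype.ext (mul_left_cancel h4))
  refine h3.trans (hn _ h2 ?_)
  intro q hq
  have h8 : R y ⊔ P ≤ centralizer ({y} : Set G) :=
    sup_le (o2_le _) fun p hp => mem_centralizer_singleton_iff.mpr (hPy p hp)
  exact mem_centralizer_singleton_iff.mp (h8 hq)

end Cfsg.Agent.Omega.GTwoFour.Cor
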