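import Cfsg.Agent.Omega.GTwoFour.Law

/-!
# Coordinates of the pair of type `G₂(4)` compatible with the torus

`Pos24 P₁ P₂ H U R V D W Y X ja jb` is the output of the identification ID24 (files `Id*.lean`):
`X : Tup F F → G`, `|F| = 4`, parametrises `U` with the product law `mu` of the Sylow 2-subgroup of
`G₂(4)`, the torus `H` acts diagonally, `ja ∈ P₂` and `jb ∈ P₁` are the fundamental involutions.
-/

set_option autoImplicit false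

namespace Cfsg.Agent.Omega.GTwoFour

open Cfsg.Agent.HexRec

variable {F : Type*} [Field F]

/-- the diagonal action with parameters `l`, `m` on the coordinates -/
def dg (l m : F) (a : Tup F F) : Tup F F :=
  ⟨l * a.a1, m * a.a2, l ^ 2 * m * a.a3, m ^ 2 * a.a4, l * m * a.a5, m * a.a6⟩

/-- the output of ID24 -/
structure Pos24 {G : Type*} [Group G] (P₁ P₂ H U R V D W Y : Subgroup G) (X : Tup F F → G) (ja jb : G) :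
    Prop where
  card : Nat.card F = 4
  inj : Function.Injective X
  mul : ∀ a b, X a * X b = X (mu a b)
  mem_U : ∀ g, g ∈ U ↔ ∃ a, X a = g
  diag : ∀ h ∈ H, ∃ l m : F, l ≠ 0 ∧ m ≠ 0 ∧ ∀ a, h * X a * h⁻¹ = X (dg l m a)
  diag' : ∀ l m : F, l ≠ 0 → m ≠ 0 → ∃ h ∈ H, ∀ a, h * X a * h⁻¹ = X (dg l m a)
  ja_mem : ja ∈ P₂
  jb_mem : jb ∈ P₁
  ja_sq : ja * ja = 1
  jb_sq : jb * jb = 1
  ja_H : ja ∈ Subgroup.normalizer (H : Set G)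
  jb_H : jb ∈ Subgroup.normalizer (H : Set G)
  nA : ∀ a2 a3 a4 a5 a6 : F, ja * X ⟨0, a2, a3, a4, a5, a6⟩ =
    X ⟨0, a6, a5, a4 + a2 * a6 + a3 * a5, a3, a2⟩ * ja
  nB : ∀ a1 a2 a3 a4 a5 : F, jb * X ⟨a1, a2, a3, a4, a5, 0⟩ =
    X ⟨a5, a4 + a3 * a5 + a1 * a5 ^ 2, a3, a2 + a1 * a3 + a1 ^ 2 * a5, a1, 0⟩ * jb
  mem_R : ∀ a, X a ∈ R ↔ a.a1 = 0 ∧ a.a2 = 0 ∧ a.a3 = 0 ∧ a.a5 = 0 ∧ a.a6 = 0
  mem_V : ∀ a, X a ∈ V ↔ a.a1 = 0 ∧ a.a3 = 0 ∧ a.a5 = 0 ∧ a.a6 = 0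
  mem_D : ∀ a, X a ∈ D ↔ a.a1 = 0 ∧ a.a5 = 0 ∧ a.a6 = 0
  mem_W : ∀ a, X a ∈ W ↔ a.a1 = 0
  mem_Y : ∀ a, X a ∈ Y ↔ a.a6 = 0

end Cfsg.Agent.Omega.GTwoFour
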