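import Cfsg.Agent.Omega.GTwoFour.Main
import Cfsg.Agent.Omega.GTwoFour.Pos

/-!
# The apartment of the pair of type `G₂(4)`: an involution normalising the root groups

`Apt X H T ja jb` : coordinates `X` on the Sylow 2-subgroup, the torus `H` acting diagonally, the
stabiliser `T` of the apartment normalises every root group, `ja`, `jb` are the fundamental
involutions.  If `T` contains an involution, then there is a `Dat` (field involution).
-/

set_option autoImplicit false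

namespace Cfsg.Agent.Omega.GTwoFour

open Cfsg.Agent.HexRec Subgroup Cfsg.Agent.Omega.GTwoFour.Cor Cfsg

universe u v

variable {F : Type v} [Field F]

/-- the apartment -/
structure Apt {G : Type u} [Group G] (X : Tup F F → G) (H T : Subgroup G) (ja jb : G) : Prop where
  card : Nat.card F = 4
  inj : Function.Injective X
  mul : ∀ a b, X a * X b = X (mu a b)
  tor : ∀ t ∈ H, ∃ l m : F, l ≠ 0 ∧ m ≠ 0 ∧ ∀ a, t * X a * t⁻¹ = X (dg l m a)
  surj : ∀ l m : F, l ≠ 0 → m ≠ 0 → ∃ t ∈ H, ∀ a, t * X a * t⁻¹ = X (dg l m a)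
  HT : H ≤ T
  TH : ∀ t ∈ T, ∀ h ∈ H, t * h * t⁻¹ ∈ H
  cen : ∀ t ∈ T, (∀ a, t * X a = X a * t) → t = 1
  T1 : ∀ t ∈ T, ∀ a, ∃ b, t * X (e1 a) * t⁻¹ = X (e1 b)
  T5 : ∀ t ∈ T, ∀ a, ∃ b, t * X (e5 a) * t⁻¹ = X (e5 b)
  T6 : ∀ t ∈ T, ∀ a, ∃ b, t * X (e6 a) * t⁻¹ = X (e6 b)
  jaT : ∀ t ∈ T, ja * t * ja ∈ T
  jbT : ∀ t ∈ T, jb * t * jb ∈ T
  ja_sq : ja * ja = 1
  jb_sq : jb * jb = 1
  nA : ∀ a2 a3 a4 a5 a6 : F, ja * X ⟨0, a2, a3, a4, a5, a6⟩ =
    X ⟨0, a6, a5, a4 + a2 * a6 + a3 * a5, a3, a2⟩ * ja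
  nB : ∀ a1 a2 a3 a4 a5 : F, jb * X ⟨a1, a2, a3, a4, a5, 0⟩ =
    X ⟨a5, a4 + a3 * a5 + a1 * a5 ^ 2, a3, a2 + a1 * a3 + a1 ^ 2 * a5, a1, 0⟩ * jb

/-! ### injective maps of the field with four elements -/

theorem elems (hF : Nat.card F = 4) {w : F} (hw : w ^ 2 + w + 1 = 0) (a : F) :
    a = 0 ∨ a = 1 ∨ a = w ∨ a = w ^ 2 := by
  by_cases h0 : a = 0
  · exact Or.inl h0
  · right
    have h3 := cube hF h0
    have h4 : (a - 1) * ((a - w) * (a - w ^ 2)) = 0 := by
      have hw3 : w ^ 3 = 1 := by linear_combination (w - 1) * hw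
      linear_combination h3 - (a ^ 2 - a) * hw + (a - 1) * hw3
    rcases mul_eq_zero.mp h4 with h5 | h5
    · exact Or.inl (sub_eq_zero.mp h5)
    · right
      rcases mul_eq_zero.mp h5 with h6 | h6
      · exact Or.inl (sub_eq_zero.mp h6)
      · exact Or.inr (sub_eq_zero.mp h6)

/-- an injective map fixing `0` is `a ↦ c a` or `a ↦ c a²` -/
theorem inj_form (hF : Nat.card F = 4) {φ : F → F} (hφ : Function.Injective φ) (h0 : φ 0 = 0) :
    ∃ c : F, c ≠ 0 ∧ ((∀ a, φ a = c * a) ∨ (∀ a, φ a = c * a ^ 2)) := by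
  obtain ⟨w, hw⟩ := exists_w hF
  have h2 := two hF
  have hw3 : w ^ 3 = 1 := by linear_combination (w - 1) * hw
  have hw0 : w ≠ 0 := by rintro rfl; simp at hw
  have hw1 : w ≠ 1 := by
    rintro rfl
    apply one_ne_zero (α := F)
    linear_combination hw - h2
  have hw2 : w ^ 2 ≠ 1 := by
    intro hc
    apply hw1
    rw [pow_succ, hc, one_mul] at hw3
    exact hw3
  have hww : w ^ 2 ≠ w := by
    intro hc
    rw [hc] at hw
    apply one_ne_zero (α := F)
    linear_combination hw - w * h2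
  have c1 : φ 1 ≠ 0 := fun hc => one_ne_zero (hφ (hc.trans h0.symm))
  have cw : φ w ≠ 0 := fun hc => hw0 (hφ (hc.trans h0.symm))
  have cw2 : φ (w ^ 2) ≠ 0 := fun hc => pow_ne_zero 2 hw0 (hφ (hc.trans h0.symm))
  have d1 : φ w ≠ φ 1 := fun hc => hw1 (hφ hc)
  have d2 : φ (w ^ 2) ≠ φ 1 := fun hc => hw2 (hφ hc)
  have d3 : φ (w ^ 2) ≠ φ w := fun hc => hww (hφ hc)
  refine ⟨φ 1, c1, ?_⟩
  -- the quotients
  obtain ⟨r, hr⟩ : ∃ r, φ w = φ 1 * r := ⟨φ w / φ 1, (mul_div_cancel₀ _ c1).symm⟩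
  obtain ⟨s, hs⟩ : ∃ s, φ (w ^ 2) = φ 1 * s := ⟨φ (w ^ 2) / φ 1, (mul_div_cancel₀ _ c1).symm⟩
  rcases elems hF hw r with rfl | rfl | rfl | rfl
  · exact absurd (by rw [hr, mul_zero]) cw
  · exact absurd (by rw [hr, mul_one]) d1
  · left
    have hs' : s = r ^ 2 := by
      rcases elems hF hw s with rfl | rfl | rfl | h
      · exact absurd (by rw [hs, mul_zero]) cw2
      · exact absurd (by rw [hs, mul_one]) d2
      · exact absurd (by rw [hs, hr]) d3
      · exact h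
    intro a
    rcases elems hF hw a with rfl | rfl | rfl | rfl
    · rw [h0, mul_zero]
    · rw [mul_one]
    · exact hr
    · rw [hs, hs']
  · right
    have hs' : s = w := by
      rcases elems hF hw s with rfl | rfl | rfl | h
      · exact absurd (by rw [hs, mul_zero]) cw2
      · exact absurd (by rw [hs, mul_one]) d2
      · rfl
      · exact absurd (by rw [hs, hr, h]) d3
    intro a
    rcases elems hF hw a with rfl | rfl | rfl | rfl
    · rw [h0]; ring
    · rw [one_pow, mul_one]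
    · exact hr
    · rw [hs, hs']
      congr 1
      linear_combination -w * hw3

/-! ### the group -/

section group

variable {G : Type u} [Group G] {X : Tup F F → G} {H T : Subgroup G} {ja jb : G}

/-- the decomposition into root elements -/
theorem decomp (hmul : ∀ a b, X a * X b = X (mu a b)) (a : Tup F F) :
    X a = X (e1 a.a1) * X (e2 a.a2) * X (e3 a.a3) * X (e4 a.a4) * X (e5 a.a5) * X (e6 a.a6) := by
  simp only [hmul]
  congr 1
  ext <;> simp only [mu, e1, e2, e3, e4, e5, e6] <;> ring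

/-- the commutator of `x1 a` and `x6 b` -/
def Pt (a b : F) : Tup F F := ⟨0, b * a ^ 3, b * a ^ 2, b ^ 2 * a ^ 3, b * a, 0⟩

namespace Apt

variable (h : Apt X H T ja jb)
include h

theorem X_one : X one0 = 1 := by
  have h1 := h.mul one0 one0
  rw [one0_mu] at h1
  exact mul_eq_left.mp h1

theorem comm_Pt (a b : F) : X (e1 a) * X (Pt a b) * X (e6 b) = X (e6 b) * X (e1 a) := by
  simp only [h.mul]
  congr 1
  ext <;> simp only [mu, e1, e6, Pt] <;> ring

/-- the form of a map between two root groups -/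
theorem root_form {g : G} {e e' : F → Tup F F} (he : Function.Injective e)
    (he0 : e 0 = one0) (he' : Function.Injective e') (he0' : e' 0 = one0)
    (hg : ∀ a, ∃ b, g * X (e a) * g⁻¹ = X (e' b)) : ∃ c : F, c ≠ 0 ∧
      ((∀ a, g * X (e a) * g⁻¹ = X (e' (c * a))) ∨ (∀ a, g * X (e a) * g⁻¹ = X (e' (c * a ^ 2)))) := by
  choose φ hφ using hg
  have h1 : Function.Injective φ := by
    intro a b hab
    have h2 : g * X (e a) * g⁻¹ = g * X (e b) * g⁻¹ := by rw [hφ, hφ, hab]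
    exact he (h.inj (mul_left_cancel (mul_right_cancel h2)))
  have h0 : φ 0 = 0 := by
    have h2 := hφ 0
    rw [he0, h.X_one, mul_one, mul_inv_cancel, ← h.X_one, ← he0'] at h2
    exact (he' (h.inj h2)).symm
  obtain ⟨c, hc, hc'⟩ := inj_form h.card h1 h0
  refine ⟨c, hc, ?_⟩
  rcases hc' with hc' | hc'
  · exact Or.inl fun a => by rw [hφ, hc']
  · exact Or.inr fun a => by rw [hφ, hc']

/-- `U` is generated by `X₁`, `X₆` -/
theorem gen {K : Subgroup G} (h1 : ∀ a, X (e1 a) ∈ K) (h6 : ∀ a, X (e6 a) ∈ K) : ∀ a, X a ∈ K := by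
  have h2 := two h.card
  obtain ⟨w, hw⟩ := exists_w h.card
  have hw3 : w ^ 3 = 1 := by linear_combination (w - 1) * hw
  -- the commutators
  have hP : ∀ a b : F, X (Pt a b) ∈ K := by
    intro a b
    have k2 : X (Pt a b) = (X (e1 a))⁻¹ * (X (e6 b) * X (e1 a)) * (X (e6 b))⁻¹ := by
      rw [← h.comm_Pt a b]; group
    rw [k2]
    exact mul_mem (mul_mem (inv_mem (h1 a)) (mul_mem (h6 b) (h1 a))) (inv_mem (h6 b))
  have hPP : ∀ a b a' b' a'' b'' : F, X (mu (mu (Pt a b) (Pt a' b')) (Pt a'' b'')) ∈ K := by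
    intro a b a' b' a'' b''
    rw [← h.mul, ← h.mul]
    exact mul_mem (mul_mem (hP _ _) (hP _ _)) (hP _ _)
  -- pure root elements up to `X₄`
  have hQ2 : ∀ b : F, ∃ d, X ⟨0, b, 0, d, 0, 0⟩ ∈ K := by
    intro b
    refine ⟨(mu (mu (Pt 1 b) (Pt w b)) (Pt (w ^ 2) b)).a4, ?_⟩
    convert hPP 1 b w b (w ^ 2) b using 2
    ext
    case a4 => rfl
    all_goals simp only [mu, Pt]
    all_goals grind
  have hQ3 : ∀ b : F, ∃ d, X ⟨0, 0, b, d, 0, 0⟩ ∈ K := by
    intro b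
    refine ⟨(mu (mu (Pt 1 b) (Pt w (w * b))) (Pt (w ^ 2) (w ^ 2 * b))).a4, ?_⟩
    convert hPP 1 b w (w * b) (w ^ 2) (w ^ 2 * b) using 2
    ext
    case a4 => rfl
    all_goals simp only [mu, Pt]
    all_goals grind
  have hQ5 : ∀ b : F, ∃ d, X ⟨0, 0, 0, d, b, 0⟩ ∈ K := by
    intro b
    refine ⟨(mu (mu (Pt 1 b) (Pt w (w ^ 2 * b))) (Pt (w ^ 2) (w * b))).a4, ?_⟩
    convert hPP 1 b w (w ^ 2 * b) (w ^ 2) (w * b) using 2
    ext
    case a4 => rfl
    all_goals simp only [mu, Pt]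
    all_goals grind
  have hQ4 : ∀ b : F, X (e4 b) ∈ K := by
    intro b
    obtain ⟨d, hd⟩ := hQ3 b
    obtain ⟨d', hd'⟩ := hQ5 1
    have k1 : X ⟨0, 0, b, d, 0, 0⟩ * X ⟨0, 0, 0, d', 1, 0⟩ * X (e4 b) =
        X ⟨0, 0, 0, d', 1, 0⟩ * X ⟨0, 0, b, d, 0, 0⟩ := by
      simp only [h.mul]
      congr 1
      ext <;> simp only [mu, e4] <;> ring
    have k2 : X (e4 b) = (X ⟨0, 0, b, d, 0, 0⟩ * X ⟨0, 0, 0, d', 1, 0⟩)⁻¹ *
        (X ⟨0, 0, 0, d', 1, 0⟩ * X ⟨0, 0, b, d, 0, 0⟩) := by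
      rw [← k1]; group
    rw [k2]
    exact mul_mem (inv_mem (mul_mem hd hd')) (mul_mem hd' hd)
  have hR : ∀ {a2 a3 a5 d : F}, X ⟨0, a2, a3, d, a5, 0⟩ ∈ K → X ⟨0, a2, a3, 0, a5, 0⟩ ∈ K := by
    intro a2 a3 a5 d hd
    have k1 : X ⟨0, a2, a3, d, a5, 0⟩ * X (e4 d) = X ⟨0, a2, a3, 0, a5, 0⟩ := by
      simp only [h.mul]
      congr 1
      ext <;> simp only [mu, e4] <;> grind
    rw [← k1]
    exact mul_mem hd (hQ4 d)
  intro a
  rw [decomp h.mul a]
  obtain ⟨d2, hd2⟩ := hQ2 a.a2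
  obtain ⟨d3, hd3⟩ := hQ3 a.a3
  obtain ⟨d5, hd5⟩ := hQ5 a.a5
  exact mul_mem (mul_mem (mul_mem (mul_mem (mul_mem (h1 _) (hR hd2)) (hR hd3)) (hQ4 _)) (hR hd5)) (h6 _)

/-- an element of `T` centralising `X₁`, `X₆` is trivial -/
theorem eq_one_of {t : G} (ht : t ∈ T) (h1 : ∀ a, t * X (e1 a) * t⁻¹ = X (e1 a))
    (h6 : ∀ a, t * X (e6 a) * t⁻¹ = X (e6 a)) : t = 1 := by
  refine h.cen t ht fun a => ?_
  have k := h.gen (K := centralizer ({t} : Set G))
    (fun a => mem_centralizer_singleton_iff.mpr (mul_inv_eq_iff_eq_mul.mp (h1 a)).symm)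
    (fun a => mem_centralizer_singleton_iff.mpr (mul_inv_eq_iff_eq_mul.mp (h6 a)).symm) a
  exact (mem_centralizer_singleton_iff.mp k).symm

end Apt

theorem e1_inj : Function.Injective (e1 : F → Tup F F) := fun _ _ hab => congrArg Tup.a1 hab
theorem e2_inj : Function.Injective (e2 : F → Tup F F) := fun _ _ hab => congrArg Tup.a2 hab
theorem e3_inj : Function.Injective (e3 : F → Tup F F) := fun _ _ hab => congrArg Tup.a3 hab
theorem e4_inj : Function.Injective (e4 : F → Tup F F) := fun _ _ hab => congrArg Tup.a4 hab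
theorem e5_inj : Function.Injective (e5 : F → Tup F F) := fun _ _ hab => congrArg Tup.a5 hab
theorem e6_inj : Function.Injective (e6 : F → Tup F F) := fun _ _ hab => congrArg Tup.a6 hab

namespace Apt

variable (h : Apt X H T ja jb)
include h

/-- an involution of `T` acts by `a ↦ c a²` on `X₁`, `X₆` -/
theorem inv_form {g : G} (hg : g ∈ T) (hgg : g * g = 1) (hg1 : g ≠ 1) :
    ∃ c d : F, c ≠ 0 ∧ d ≠ 0 ∧ (∀ a, g * X (e1 a) * g⁻¹ = X (e1 (c * a ^ 2))) ∧
      (∀ a, g * X (e6 a) * g⁻¹ = X (e6 (d * a ^ 2))) := by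
  have h2 := two h.card
  obtain ⟨w, hw⟩ := exists_w h.card
  have hw3 : w ^ 3 = 1 := by linear_combination (w - 1) * hw
  have hw0 : w ≠ 0 := by rintro rfl; simp at hw
  have hw1 : w ≠ 1 := by
    rintro rfl
    apply one_ne_zero (α := F)
    linear_combination hw - h2
  have hww : w ^ 2 ≠ w := by
    intro hc
    rw [hc] at hw
    apply one_ne_zero (α := F)
    linear_combination hw - w * h2
  have hw2 : w ^ 2 ≠ 1 := by
    intro hc
    apply hw1
    rw [pow_succ, hc, one_mul] at hw3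
    exact hw3
  obtain ⟨c, hc, hc'⟩ := h.root_form e1_inj rfl e1_inj rfl (h.T1 g hg)
  obtain ⟨d, hd, hd'⟩ := h.root_form e6_inj rfl e6_inj rfl (h.T6 g hg)
  obtain ⟨b, hb, hb'⟩ := h.root_form e5_inj rfl e5_inj rfl (h.T5 g hg)
  -- equivariance
  have heq : ∀ t ∈ H, ∀ l m : F, (∀ a, t * X a * t⁻¹ = X (dg l m a)) → ∃ l' m' : F, l' ≠ 0 ∧ m' ≠ 0 ∧
      (∀ a, (g * t * g⁻¹) * X a * (g * t * g⁻¹)⁻¹ = X (dg l' m' a)) := by
    intro t ht l m _
    exact h.tor _ (h.TH g hg t ht)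
  have key1 : ∀ t ∈ H, ∀ l m l' m' : F, (∀ a, t * X a * t⁻¹ = X (dg l m a)) →
      (∀ a, (g * t * g⁻¹) * X a * (g * t * g⁻¹)⁻¹ = X (dg l' m' a)) → ∀ e : F → Tup F F, ∀ φ : F → F,
      (∀ a, g * X (e a) * g⁻¹ = X (e (φ a))) → ∀ x y : F, (dg l m (e 1) = e x) → (dg l' m' (e (φ 1)) = e y) →
      X (e (φ x)) = X (e y) := by
    intro t _ l m l' m' htl htl' e φ hφ x y hx hy
    rw [← hφ, ← hy, ← htl', ← hx, ← htl, ← hφ]
    group
  -- the types of `X₁` and `X₆` agree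
  obtain ⟨t, ht, htw⟩ := h.surj w w hw0 hw0
  obtain ⟨l', m', hl', hm', hlm'⟩ := heq t ht w w htw
  have E1 : ∀ (φ : F → F) (k l l' m m' : F), dg l m (e1 1) = e1 l ∧ dg l' m' (e1 k) = e1 (l' * k) := by
    intro φ k l l' m m'
    constructor <;> ext <;> simp only [dg, e1] <;> ring
  have E6 : ∀ (φ : F → F) (k l l' m m' : F), dg l m (e6 1) = e6 m ∧ dg l' m' (e6 k) = e6 (m' * k) := by
    intro φ k l l' m m'
    constructor <;> ext <;> simp only [dg, e6] <;> ring
  have E5 : ∀ (φ : F → F) (k l l' m m' : F), dg l m (e5 1) = e5 (l * m) ∧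
      dg l' m' (e5 k) = e5 (l' * m' * k) := by
    intro φ k l l' m m'
    constructor <;> ext <;> simp only [dg, e5] <;> ring
  have k1 : ∀ φ : F → F, (∀ a, g * X (e1 a) * g⁻¹ = X (e1 (φ a))) → φ w = l' * φ 1 := fun φ hφ =>
    e1_inj (h.inj (key1 t ht w w l' m' htw hlm' e1 φ hφ w (l' * φ 1) (E1 φ (φ 1) w l' w m').1
      (E1 φ (φ 1) w l' w m').2))
  have k6 : ∀ φ : F → F, (∀ a, g * X (e6 a) * g⁻¹ = X (e6 (φ a))) → φ w = m' * φ 1 := fun φ hφ =>
    e6_inj (h.inj (key1 t ht w w l' m' htw hlm' e6 φ hφ w (m' * φ 1) (E6 φ (φ 1) w l' w m').1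
      (E6 φ (φ 1) w l' w m').2))
  have k5 : ∀ φ : F → F, (∀ a, g * X (e5 a) * g⁻¹ = X (e5 (φ a))) → φ (w * w) = l' * m' * φ 1 := fun φ hφ =>
    e5_inj (h.inj (key1 t ht w w l' m' htw hlm' e5 φ hφ (w * w) (l' * m' * φ 1) (E5 φ (φ 1) w l' w m').1
      (E5 φ (φ 1) w l' w m').2))
  have hgi : g⁻¹ = g := inv_eq_of_mul_eq_one_right hgg
  have hlm5 : l' * m' = w ^ 2 ∨ l' * m' = w := by
    rcases hb' with hb' | hb'
    · left
      have := k5 _ hb'
      apply mul_left_cancel₀ hb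
      linear_combination -this
    · right
      have := k5 _ hb'
      apply mul_left_cancel₀ hb
      linear_combination -this + b * w * hw3
  rcases hc' with hc' | hc' <;> rcases hd' with hd' | hd'
  · -- both linear: `g = 1`
    exfalso
    apply hg1
    have j1 : c * (c * 1) = 1 := by
      apply e1_inj
      apply h.inj
      rw [← hc', ← hc', hgi]
      calc g * (g * X (e1 1) * g) * g = (g * g) * X (e1 1) * (g * g) := by group
        _ = X (e1 1) := by rw [hgg]; group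
    have j6 : d * (d * 1) = 1 := by
      apply e6_inj
      apply h.inj
      rw [← hd', ← hd', hgi]
      calc g * (g * X (e6 1) * g) * g = (g * g) * X (e6 1) * (g * g) := by group
        _ = X (e6 1) := by rw [hgg]; group
    have c1 : c = 1 := by
      have := cube h.card hc
      linear_combination this - c * j1
    have d1 : d = 1 := by
      have := cube h.card hd
      linear_combination this - d * j6
    refine h.eq_one_of hg (fun a => ?_) (fun a => ?_)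
    · rw [hc', c1, one_mul]
    · rw [hd', d1, one_mul]
  · exfalso
    have j1 := k1 _ hc'
    have j6 := k6 _ hd'
    have l1 : l' = w := by
      apply mul_left_cancel₀ hc
      linear_combination -j1
    have m1 : m' = w ^ 2 := by
      apply mul_left_cancel₀ hd
      linear_combination -j6
    rw [l1, m1] at hlm5
    rcases hlm5 with h5 | h5
    · exact hw2 (by rw [← h5]; linear_combination hw3)
    · exact hw1 (by rw [← h5]; linear_combination hw3)
  · exfalso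
    have j1 := k1 _ hc'
    have j6 := k6 _ hd'
    have l1 : l' = w ^ 2 := by
      apply mul_left_cancel₀ hc
      linear_combination -j1
    have m1 : m' = w := by
      apply mul_left_cancel₀ hd
      linear_combination -j6
    rw [l1, m1] at hlm5
    rcases hlm5 with h5 | h5
    · exact hw2 (by rw [← h5]; linear_combination hw3)
    · exact hw1 (by rw [← h5]; linear_combination hw3)
  · exact ⟨c, d, hc, hd, hc', hd'⟩

end Apt

theorem conj_rel {c x p y x' p' y' : G} (hx : c * x * c⁻¹ = x') (hp : c * p * c⁻¹ = p')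
    (hy : c * y * c⁻¹ = y') (hr : x * p * y = y * x) : x' * p' * y' = y' * x' := by
  rw [← hx, ← hp, ← hy]
  calc c * x * c⁻¹ * (c * p * c⁻¹) * (c * y * c⁻¹) = c * (x * p * y) * c⁻¹ := by group
    _ = c * (y * x) * c⁻¹ := by rw [hr]
    _ = _ := by group

theorem fr_mu' (hF : Nat.card F = 4) (a b : Tup F F) : fr (mu a b) = mu (fr a) (fr b) := by
  have h2 := two hF
  ext <;> simp only [mu, fr] <;> grind

theorem fr_iv' (hF : Nat.card F = 4) (a : Tup F F) : fr (iv a) = iv (fr a) := by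
  have h2 := two hF
  ext <;> simp only [iv, fr] <;> grind

namespace Apt

variable (h : Apt X H T ja jb)
include h

theorem inv (a : Tup F F) : (X a)⁻¹ = X (iv a) := by
  rw [inv_eq_iff_mul_eq_one, h.mul, mu_iv h.card, h.X_one]

/-- an element acting as the Frobenius on `X₁` and `X₆` acts as the Frobenius on `U` -/
theorem frob {f : G} (f1 : ∀ a, f * X (e1 a) * f⁻¹ = X (e1 (a ^ 2)))
    (f6 : ∀ a, f * X (e6 a) * f⁻¹ = X (e6 (a ^ 2))) (a : Tup F F) : f * X a * f⁻¹ = X (fr a) := by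
  let K : Subgroup G :=
    { carrier := {g | ∃ a, g = X a ∧ f * g * f⁻¹ = X (fr a)}
      one_mem' := by
        refine ⟨one0, h.X_one.symm, ?_⟩
        have : fr (one0 : Tup F F) = one0 := by ext <;> simp [fr, one0]
        rw [this, h.X_one]; group
      mul_mem' := by
        rintro _ _ ⟨a, rfl, ha⟩ ⟨b, rfl, hb⟩
        refine ⟨mu a b, h.mul a b, ?_⟩
        rw [fr_mu' h.card, ← h.mul, ← ha, ← hb]; group
      inv_mem' := by
        rintro _ ⟨a, rfl, ha⟩
        refine ⟨iv a, h.inv a, ?_⟩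
        rw [fr_iv' h.card, ← h.inv, ← ha]; group }
  have hK : X a ∈ K := by
    refine h.gen (K := K) (fun a => ⟨e1 a, rfl, ?_⟩) (fun a => ⟨e6 a, rfl, ?_⟩) a
    · rw [f1]
      congr 1
      ext <;> simp [fr, e1]
    · rw [f6]
      congr 1
      ext <;> simp [fr, e6]
  obtain ⟨b, hb, hb'⟩ := hK
  rw [hb', h.inj hb]

theorem ja_inv : ja⁻¹ = ja := inv_eq_of_mul_eq_one_right h.ja_sq
theorem jb_inv : jb⁻¹ = jb := inv_eq_of_mul_eq_one_right h.jb_sq

theorem cjA (a2 a3 a4 a5 a6 : F) : ja * X ⟨0, a2, a3, a4, a5, a6⟩ * ja⁻¹ =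
    X ⟨0, a6, a5, a4 + a2 * a6 + a3 * a5, a3, a2⟩ := by
  rw [h.nA, mul_inv_cancel_right]

theorem cjB (a1 a2 a3 a4 a5 : F) : jb * X ⟨a1, a2, a3, a4, a5, 0⟩ * jb⁻¹ =
    X ⟨a5, a4 + a3 * a5 + a1 * a5 ^ 2, a3, a2 + a1 * a3 + a1 ^ 2 * a5, a1, 0⟩ := by
  rw [h.nB, mul_inv_cancel_right]

/-- an involution in the stabiliser of the apartment gives a field involution -/
theorem exists_dat {t : G} (ht : t ∈ T) (htt : t * t = 1) (ht1 : t ≠ 1) : ∃ f ∈ T, Dat X f ja jb := by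
  have h2 := two h.card
  obtain ⟨w, hw⟩ := exists_w h.card
  have hww : w ^ 2 ≠ w := by
    intro hc
    rw [hc] at hw
    apply one_ne_zero (α := F)
    linear_combination hw - w * h2
  obtain ⟨c, d, hc, hd, hc', hd'⟩ := h.inv_form ht htt ht1
  have hc3 := cube h.card hc
  have hd3 := cube h.card hd
  obtain ⟨x, hx, hxX⟩ := h.surj (c ^ 2) (d ^ 2) (pow_ne_zero 2 hc) (pow_ne_zero 2 hd)
  obtain ⟨f, hf⟩ : ∃ f, f = x * t := ⟨_, rfl⟩
  have hfT : f ∈ T := by rw [hf]; exact T.mul_mem (h.HT hx) ht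
  have f1 : ∀ a, f * X (e1 a) * f⁻¹ = X (e1 (a ^ 2)) := by
    intro a
    have : f * X (e1 a) * f⁻¹ = x * (t * X (e1 a) * t⁻¹) * x⁻¹ := by rw [hf]; group
    rw [this, hc', hxX]
    congr 1
    ext <;> simp only [dg, e1] <;> grind
  have f6 : ∀ a, f * X (e6 a) * f⁻¹ = X (e6 (a ^ 2)) := by
    intro a
    have : f * X (e6 a) * f⁻¹ = x * (t * X (e6 a) * t⁻¹) * x⁻¹ := by rw [hf]; group
    rw [this, hd', hxX]
    congr 1
    ext <;> simp only [dg, e6] <;> grind
  have fX := h.frob f1 f6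
  have p4 : ∀ a : F, (a ^ 2) ^ 2 = a := fun a => by
    have := pow4 h.card a
    linear_combination this
  have ff : f * f = 1 := by
    refine h.eq_one_of (T.mul_mem hfT hfT) (fun a => ?_) (fun a => ?_)
    · have : f * f * X (e1 a) * (f * f)⁻¹ = f * (f * X (e1 a) * f⁻¹) * f⁻¹ := by group
      rw [this, f1, f1, p4]
    · have : f * f * X (e6 a) * (f * f)⁻¹ = f * (f * X (e6 a) * f⁻¹) * f⁻¹ := by group
      rw [this, f6, f6, p4]
  have finv : f⁻¹ = f := inv_eq_of_mul_eq_one_right ff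
  -- commutation with `ja`
  have fA : ja * f * ja * f = 1 := by
    have hcT : ja * f * ja * f ∈ T := T.mul_mem (h.jaT f hfT) hfT
    have hW : ∀ a2 a3 a4 a5 a6 : F, (ja * f * ja * f) * X ⟨0, a2, a3, a4, a5, a6⟩ * (ja * f * ja * f)⁻¹ =
        X ⟨0, a2, a3, a4, a5, a6⟩ := by
      intro a2 a3 a4 a5 a6
      have : (ja * f * ja * f) * X ⟨0, a2, a3, a4, a5, a6⟩ * (ja * f * ja * f)⁻¹ =
        ja * (f * (ja * (f * X ⟨0, a2, a3, a4, a5, a6⟩ * f⁻¹) * ja⁻¹) * f⁻¹) * ja⁻¹ := by group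
      rw [this, fX]
      have z : (0 : F) ^ 2 = 0 := by ring
      simp only [fr, z]
      rw [h.cjA, fX]
      simp only [fr, z]
      rw [h.cjA]
      congr 1
      ext <;> simp only [p4] <;> grind
    refine h.eq_one_of hcT (fun a => ?_) (fun a => hW _ _ _ _ _)
    obtain ⟨b, hb⟩ := h.T1 _ hcT a
    have k2 : X (e1 b) * X (Pt a 1) * X (e6 1) = X (e6 1) * X (e1 b) :=
      conj_rel hb (hW _ _ _ _ _) (hW _ _ _ _ _) (h.comm_Pt a 1)
    rw [← h.comm_Pt b 1] at k2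
    have k3 := congrArg Tup.a5 (h.inj (mul_left_cancel (mul_right_cancel k2)))
    simp only [Pt, one_mul] at k3
    rw [hb, k3]
  have fB : jb * f * jb * f = 1 := by
    have hcT : jb * f * jb * f ∈ T := T.mul_mem (h.jbT f hfT) hfT
    have hY : ∀ a1 a2 a3 a4 a5 : F, (jb * f * jb * f) * X ⟨a1, a2, a3, a4, a5, 0⟩ * (jb * f * jb * f)⁻¹ =
        X ⟨a1, a2, a3, a4, a5, 0⟩ := by
      intro a1 a2 a3 a4 a5
      have : (jb * f * jb * f) * X ⟨a1, a2, a3, a4, a5, 0⟩ * (jb * f * jb * f)⁻¹ =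
        jb * (f * (jb * (f * X ⟨a1, a2, a3, a4, a5, 0⟩ * f⁻¹) * jb⁻¹) * f⁻¹) * jb⁻¹ := by group
      rw [this, fX]
      have z : (0 : F) ^ 2 = 0 := by ring
      simp only [fr, z]
      rw [h.cjB, fX]
      simp only [fr, z]
      rw [h.cjB]
      have q1 := pow4 h.card a1
      have q2 := pow4 h.card a2
      have q3 := pow4 h.card a3
      have q4 := pow4 h.card a4
      have q5 := pow4 h.card a5
      congr 1
      ext <;> simp only [p4] <;> grind
    refine h.eq_one_of hcT (fun a => hY _ _ _ _ _) (fun a => ?_)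
    obtain ⟨b, hb⟩ := h.T6 _ hcT a
    have k2 : X (e1 1) * X (Pt 1 a) * X (e6 b) = X (e6 b) * X (e1 1) :=
      conj_rel (hY _ _ _ _ _) (hY _ _ _ _ _) hb (h.comm_Pt 1 a)
    rw [← h.comm_Pt 1 b] at k2
    have k3 := congrArg Tup.a5 (h.inj (mul_left_cancel (mul_right_cancel k2)))
    simp only [Pt, mul_one] at k3
    rw [hb, k3]
  have comm_of : ∀ j : G, j⁻¹ = j → j * f * j * f = 1 → f * j = j * f := by
    intro j hj hjf
    have h3 : (j * f)⁻¹ = j * f := inv_eq_of_mul_eq_one_right (by rw [← mul_assoc]; exact hjf)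
    rw [mul_inv_rev, hj, finv] at h3
    exact h3
  exact ⟨f, hfT,
    { card := h.card
      inj := h.inj
      mul := h.mul
      ff := ff
      fX := fun a => by rw [← fX, finv]
      f_not := by
        intro a ha
        have k1 := mul_inv_eq_iff_eq_mul.mp (f1 w)
        rw [ha, h.mul, h.mul] at k1
        have k2 := congrArg Tup.a1 (h.inj k1)
        simp only [mu, e1] at k2
        exact hww (by linear_combination -k2)
      fA := comm_of ja h.ja_inv fA
      fB := comm_of jb h.jb_inv fB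
      nA := h.nA
      nB := h.nB }⟩

end Apt

end group

end Cfsg.Agent.Omega.GTwoFour
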