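import Cfsg.Agent.Omega.GTwoFour.Long

/-!
# The pair of type `G₂(4)`: `O₂(C(z)) = Q2`
-/

set_option autoImplicit false

namespace Cfsg.Agent.Omega.GTwoFour

open Cfsg.Agent.HexRec Subgroup Cfsg.Agent.Omega.GTwoFour.Cor Cfsg

universe u v

variable {F : Type v} [Field F] {G : Type u} [Group G] {X : Tup F F → G} {f : G} {ja jb : G}

namespace Dat

variable (h : Dat X f ja jb)
include h
variable [Finite G] (S : Sylow 2 G) (hS : (S : Subgroup G) = h.S0)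
include hS

/-- `Z4` is normalised by `C(z)` -/
theorem Z4_norm (hG : IsCharacteristicTwoType G) {g x : G} (hg : g * X (e4 1) = X (e4 1) * g)
    (hx : x ∈ h.Z4) : g * x * g⁻¹ ∈ h.Z4 := by
  have h1 := h.Z4_le S hS hG hx
  have h2 : ∀ m ∈ R (X (e4 1)), x * m = m * x := by
    intro m hm
    obtain ⟨s, rfl⟩ := hx
    obtain ⟨a, -, rfl⟩ := h.N_le_Q2 S hS hm
    exact (h.e4_cen a s).symm
  refine h.cen_le S hS (R_norm hg h1) fun m hm => ?_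
  have h3 : g⁻¹ * X (e4 1) = X (e4 1) * g⁻¹ := by
    rw [inv_mul_eq_iff_eq_mul, ← mul_assoc, hg, mul_inv_cancel_right]
  have h4 := h2 _ (R_norm h3 hm)
  rw [inv_inv] at h4
  calc g * x * g⁻¹ * m = g * (x * (g⁻¹ * m * g)) * g⁻¹ := by group
    _ = g * ((g⁻¹ * m * g) * x) * g⁻¹ := by rw [h4]
    _ = _ := by group

theorem Q2_le_R (hG : IsCharacteristicTwoType G) : h.Q2 ≤ R (X (e4 1)) := by
  have h2 := two h.card
  have hinv : ∀ g : G, g * X (e4 1) = X (e4 1) * g → g⁻¹ * X (e4 1) = X (e4 1) * g⁻¹ := by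
    intro g hg
    rw [inv_mul_eq_iff_eq_mul, ← mul_assoc, hg, mul_inv_cancel_right]
  have hZn : ∀ c ∈ h.Z4, ∀ n ∈ R (X (e4 1)), n * c = c * n := by
    rintro _ ⟨s, rfl⟩ n hn
    obtain ⟨a, -, rfl⟩ := h.N_le_Q2 S hS hn
    exact h.e4_cen a s
  have hz : X (e4 1) ∈ h.Z4 := ⟨1, rfl⟩
  -- the group `D`
  let D : Subgroup G :=
    { carrier := {g | (∀ c ∈ h.Z4, g * c = c * g) ∧ ∀ n ∈ R (X (e4 1)), g * n * g⁻¹ * n⁻¹ ∈ h.Z4}
      one_mem' := by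
        refine ⟨fun c _ => by rw [one_mul, mul_one], fun n _ => ?_⟩
        rw [one_mul, inv_one, mul_one, mul_inv_cancel]
        exact one_mem _
      mul_mem' := by
        rintro a b ⟨ha1, ha2⟩ ⟨hb1, hb2⟩
        refine ⟨fun c hc => by rw [mul_assoc, hb1 c hc, ← mul_assoc, ha1 c hc, mul_assoc], fun n hn => ?_⟩
        have h3 := ha2 n hn
        have h4 := hb2 n hn
        have h5 := ha1 _ h4
        have h6 : a * b * n * (a * b)⁻¹ * n⁻¹ =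
            (a * (b * n * b⁻¹ * n⁻¹)) * (n * a⁻¹ * n⁻¹) := by group
        rw [h6, h5]
        have h7 : b * n * b⁻¹ * n⁻¹ * a * (n * a⁻¹ * n⁻¹) =
          (b * n * b⁻¹ * n⁻¹) * (a * n * a⁻¹ * n⁻¹) := by group
        rw [h7]
        exact mul_mem h4 h3
      inv_mem' := by
        rintro a ⟨ha1, ha2⟩
        have ha3 : ∀ c ∈ h.Z4, a⁻¹ * c = c * a⁻¹ := by
          intro c hc
          rw [inv_mul_eq_iff_eq_mul, ← mul_assoc, ha1 c hc, mul_inv_cancel_right]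
        refine ⟨ha3, fun n hn => ?_⟩
        have h3 := ha2 n hn
        have h4 := ha3 _ h3
        have h5 : a⁻¹ * n * a⁻¹⁻¹ * n⁻¹ = a⁻¹ * (a * n * a⁻¹ * n⁻¹)⁻¹ * a := by group
        have h6 := ha3 _ (inv_mem h3)
        rw [h5, h6, inv_mul_cancel_right]
        exact inv_mem h3 }
  have hD : ∀ {g : G}, g ∈ D ↔ (∀ c ∈ h.Z4, g * c = c * g) ∧
      ∀ n ∈ R (X (e4 1)), g * n * g⁻¹ * n⁻¹ ∈ h.Z4 := Iff.rfl
  have hDz : ∀ g ∈ D, g * X (e4 1) = X (e4 1) * g := fun g hg => (hD.mp hg).1 _ hz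
  have hD2 : IsPGroup 2 D := by
    rintro ⟨g, hg⟩
    have h3 : g * g ∈ R (X (e4 1)) := by
      refine R_self hG h.z_sq h.z_ne ?_ ?_
      · rw [mul_assoc, hDz g hg, ← mul_assoc, hDz g hg, mul_assoc]
      · intro n hn
        obtain ⟨s, hs⟩ := (hD.mp hg).2 n hn
        have h4 := (hD.mp hg).1 _ ⟨s, rfl⟩
        have h5 : g * n = X (e4 s) * n * g := by
          rw [← hs]; group
        have h6 : X (e4 s) * X (e4 s) = 1 := by
          rw [h.mul, ← h.X_one]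
          congr 1
          ext <;> simp only [mu, e4, one0] <;> grind
        calc g * g * n = g * (g * n) := by group
          _ = (g * X (e4 s)) * n * g := by rw [h5]; group
          _ = X (e4 s) * (g * n) * g := by rw [h4]; group
          _ = (X (e4 s) * X (e4 s)) * n * g * g := by rw [h5]; group
          _ = n * (g * g) := by rw [h6]; group
    obtain ⟨k, hk⟩ := R_two _ ⟨g * g, h3⟩
    refine ⟨k + 1, Subtype.ext ?_⟩
    have hk' : (g * g) ^ 2 ^ k = 1 := congrArg Subtype.val hk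
    change g ^ 2 ^ (k + 1) = 1
    rw [pow_succ', pow_mul, pow_two, hk']
  have hDn : ∀ g, g * X (e4 1) = X (e4 1) * g → ∀ n ∈ D, g * n * g⁻¹ ∈ D := by
    intro g hg d hd
    obtain ⟨hd1, hd2⟩ := hD.mp hd
    refine hD.mpr ⟨fun c hc => ?_, fun n hn => ?_⟩
    · have h3 := hd1 _ (h.Z4_norm S hS hG (hinv g hg) hc)
      rw [inv_inv] at h3
      calc g * d * g⁻¹ * c = g * (d * (g⁻¹ * c * g)) * g⁻¹ := by group
        _ = g * ((g⁻¹ * c * g) * d) * g⁻¹ := by rw [h3]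
        _ = _ := by group
    · have h3 := hd2 _ (R_norm (hinv g hg) hn)
      have h4 := h.Z4_norm S hS hG hg h3
      convert h4 using 1
      group
  have hDR : D ≤ R (X (e4 1)) := le_R hDz hD2 hDn
  refine le_trans ?_ hDR
  rintro _ ⟨a, ha, rfl⟩
  refine hD.mpr ⟨?_, ?_⟩
  · rintro _ ⟨s, rfl⟩
    exact h.e4_cen a s
  · intro n hn
    obtain ⟨b, hb, rfl⟩ := h.N_le_Q2 S hS hn
    refine ⟨(mu (mu (mu a b) (iv a)) (iv b)).a4, ?_⟩
    rw [h.mul, h.inv, h.inv, h.mul, h.mul]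
    congr 1
    ext <;> simp only [mu, iv, e4, ha, hb] <;> grind

/-- `|O₂(C(z))| ≥ 256` -/
theorem card_R_z (hG : IsCharacteristicTwoType G) : 256 ≤ Nat.card (R (X (e4 1))) := by
  have h1 : Nat.card (F × F × F × F) = 256 := by
    simp only [Nat.card_prod, h.card]
  rw [← h1]
  refine Nat.card_le_card_of_injective (fun p : F × F × F × F =>
    (⟨X ⟨0, p.1, p.2.1, 0, p.2.2.1, p.2.2.2⟩, h.Q2_le_R S hS hG ⟨_, rfl, rfl⟩⟩ : R (X (e4 1)))) ?_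
  rintro ⟨p1, p2, p3, p4⟩ ⟨q1, q2, q3, q4⟩ hpq
  have h2 := h.inj (congrArg Subtype.val hpq)
  have k1 := congrArg Tup.a2 h2
  have k2 := congrArg Tup.a3 h2
  have k3 := congrArg Tup.a5 h2
  have k4 := congrArg Tup.a6 h2
  simp only at k1 k2 k3 k4
  rw [k1, k2, k3, k4]

omit [Finite G] hS in
/-- a long root element is conjugate to `x4(1)` -/
theorem ZT_one {x : G} (hx : ZT X x) : ∃ g : G, g * x * g⁻¹ = X (e4 1) := by
  have h2 := two h.card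
  obtain ⟨g, s, hs, hg⟩ := hx
  have hi : s⁻¹ * s = 1 := inv_mul_cancel₀ hs
  have k1 := h.cB 0 0 0 s 0
  have k2 := h.cj6 s⁻¹ 0 s 0 0 0 0
  have k3 := h.cB 0 s 0 1 0
  have k4 := h.cj6 s 0 1 0 s 0 0
  have k5 := h.cB 0 1 0 0 0
  have q1 : (⟨0, s + 0 * 0 + 0 * 0 ^ 2, 0, 0 + 0 * 0 + 0 ^ 2 * 0, 0, 0⟩ : Tup F F) = ⟨0, s, 0, 0, 0, 0⟩ := by
    ext <;> simp only <;> ring
  have q2 : (⟨0, s + s⁻¹ * 0 ^ 3, 0 + s⁻¹ * 0 ^ 2, 0 + s⁻¹ ^ 2 * 0 ^ 3 + s⁻¹ * s + s⁻¹ * 0 * 0,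
      0 + s⁻¹ * 0, 0⟩ : Tup F F) = ⟨0, s, 0, 1, 0, 0⟩ := by
    rw [hi]
    ext <;> simp only <;> ring
  have q3 : (⟨0, 1 + 0 * 0 + 0 * 0 ^ 2, 0, s + 0 * 0 + 0 ^ 2 * 0, 0, 0⟩ : Tup F F) = ⟨0, 1, 0, s, 0, 0⟩ := by
    ext <;> simp only <;> ring
  have q4 : (⟨0, 1 + s * 0 ^ 3, 0 + s * 0 ^ 2, s + s ^ 2 * 0 ^ 3 + s * 1 + s * 0 * 0,
      0 + s * 0, 0⟩ : Tup F F) = ⟨0, 1, 0, 0, 0, 0⟩ := by
    ext <;> simp only <;> grind
  have q5 : (⟨0, 0 + 0 * 0 + 0 * 0 ^ 2, 0, 1 + 0 * 0 + 0 ^ 2 * 0, 0, 0⟩ : Tup F F) = e4 1 := by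
    ext <;> simp only [e4] <;> ring
  rw [q1] at k1
  rw [q2] at k2
  rw [q3] at k3
  rw [q4] at k4
  rw [q5] at k5
  exact ⟨_, trans_conj hg (trans_conj (trans_conj (trans_conj (trans_conj k1 k2) k3) k4) k5)⟩

end Dat

end Cfsg.Agent.Omega.GTwoFour
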