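import Cfsg.Agent.Omega.GTwoFour.InstFourOf
import Cfsg.Agent.HexGlob.GlobFrame

/-!
# The pair of type `G₂(4)`: closing

`close`: a simple group of characteristic 2 type with the pair data `Hex`, `Four` is known (`≅ G₂(4)`).
-/

set_option autoImplicit false

namespace Cfsg.Agent.Omega.GTwoFour

open Cfsg.Agent.HexRec Subgroup Cfsg Cfsg.Agent.Omega.BTwo Cfsg.Agent.Omega.Hex Cfsg.Agent.Hex.Defs
  Cfsg.Agent.HexGlob

universe u v

/-- **closing of the pair of type `G₂(4)`** -/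
theorem close {G : Type u} [Group G] [Finite G] [IsSimpleGroup G] (hG : IsCharacteristicTwoType G)
    (S : Sylow 2 G) {F : Type v} [Field F] {X₁ X₂ P₁ P₂ B U V R W Y D : Subgroup G} {h₁ h₂ n₁ n₂ : G} {q r : ℕ}
    (h : Hex P₁ P₂ B U (zpowers h₁ ⊔ zpowers h₂) V R W Y D n₁ n₂ q r)
    (hc : B ⊓ centralizer (U : Set G) ≤ U) (hUS : U ≤ S) (hSB : (S : Subgroup G) ≤ B)
    (f : Id.Four F X₁ X₂ U V R W Y D h₁ h₂) (hX₁ : X₁ ≤ P₁) (hX₂ : X₂ ≤ P₂) : IsKnownSimple' G :=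
  close_of GlobFrame.globalFrame instFour hG S h hc hUS hSB f hX₁ hX₂

end Cfsg.Agent.Omega.GTwoFour
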