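import Cfsg.Agent.Omega.GTwoFour.Join
import Cfsg.Agent.HexGlob.FinalS
import Cfsg.Prelude.Def_Classification2

/-!
# The pair of type `G₂(4)`: closing, from the two inputs of S1770
-/

set_option autoImplicit false

namespace Cfsg.Agent.Omega.GTwoFour

open Cfsg.Agent.HexRec Subgroup Cfsg Cfsg.Agent.Omega.BTwo Cfsg.Agent.Omega.Hex Cfsg.Agent.Hex.Defs
  Cfsg.Agent.HexGlob

universe u v

/-- the model side for `|F| = 4` -/
def InstFour : Prop := ∀ (F : Type) [Field F] [Fintype F], Fintype.card F = 4 → ∀ h2 : (2 : F) = 0,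
  FinalS.Inst.{u} (OfPair.cubic (OfPair.pair_one h2 : CubicPair (AlgEquiv.refl : F ≃ₐ[F] F)))
    ↥(Cfsg.Lie.chevG2.group F)

theorem two_of_card {F : Type*} [Field F] [Fintype F] (hF : Fintype.card F = 4) : (2 : F) = 0 :=
  two (by rw [Nat.card_eq_fintype_card, hF])

/-- `G ≅ G₂(4)` -/
theorem nonempty_mulEquiv_of (hglob : FinalS.GlobalFrame.{u}) (hinst : InstFour.{u})
    {G : Type u} [Group G] [Finite G] [IsSimpleGroup G]
    (S : Sylow 2 G) (F₀ : Type) [Field F₀] [Fintype F₀] (h0 : Fintype.card F₀ = 4)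
    (hco : Nonempty (Coord (OfPair.cubic (OfPair.pair_one (two_of_card h0) :
      CubicPair (AlgEquiv.refl : F₀ ≃ₐ[F₀] F₀))) (S : Subgroup G))) :
    Nonempty (G ≃* ↥(Cfsg.Lie.chevG2.group F₀)) := by
  obtain ⟨co⟩ := hco
  obtain ⟨hd, -, hi⟩ := hinst F₀ h0 (two_of_card h0)
  obtain ⟨Φ, hΦ⟩ := hglob hd S co
  exact hi Φ hΦ

/-- `G` is known -/
theorem known_of (hglob : FinalS.GlobalFrame.{u}) (hinst : InstFour.{u})
    {G : Type u} [Group G] [Finite G] [IsSimpleGroup G]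
    (S : Sylow 2 G) (hco : ∀ (F₀ : Type) [Field F₀] [Fintype F₀] (h0 : Fintype.card F₀ = 4),
      Nonempty (Coord (OfPair.cubic (OfPair.pair_one (two_of_card h0) :
        CubicPair (AlgEquiv.refl : F₀ ≃ₐ[F₀] F₀))) (S : Subgroup G))) :
    IsKnownSimple' G := by
  have : Fact (Nat.Prime 2) := ⟨Nat.prime_two⟩
  let F₀ := GaloisField 2 2
  have hfin : Finite F₀ := inferInstance
  let ft : Fintype F₀ := Fintype.ofFinite F₀
  have h0 : Fintype.card F₀ = 4 := by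
    rw [← Nat.card_eq_fintype_card, GaloisField.card 2 2 (by norm_num)]
    norm_num
  obtain ⟨e⟩ := nonempty_mulEquiv_of hglob hinst S F₀ h0 (hco F₀ h0)
  refine Or.inr (Or.inr (Or.inr (Or.inr (Or.inr (Or.inr (Or.inr (Or.inr (Or.inl (Or.inl ?_)))))))))
  exact ⟨F₀, inferInstance, ft, by rw [h0]; norm_num, ⟨e⟩⟩

/-- **closing of the pair of type `G₂(4)`** -/
theorem close_of (hglob : FinalS.GlobalFrame.{u}) (hinst : InstFour.{u})
    {G : Type u} [Group G] [Finite G] [IsSimpleGroup G] (hG : IsCharacteristicTwoType G) (S : Sylow 2 G)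
    {F : Type v} [Field F] {X₁ X₂ P₁ P₂ B U V R W Y D : Subgroup G} {h₁ h₂ n₁ n₂ : G} {q r : ℕ}
    (h : Hex P₁ P₂ B U (zpowers h₁ ⊔ zpowers h₂) V R W Y D n₁ n₂ q r)
    (hc : B ⊓ centralizer (U : Set G) ≤ U) (hUS : U ≤ S) (hSB : (S : Subgroup G) ≤ B)
    (f : Id.Four F X₁ X₂ U V R W Y D h₁ h₂) (hX₁ : X₁ ≤ P₁) (hX₂ : X₂ ≤ P₂) : IsKnownSimple' G :=
  known_of hglob hinst S fun _ _ _ h0 =>
    exists_coord_sylow hG S h hc hUS hSB f hX₁ hX₂ h0 (two_of_card h0)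

end Cfsg.Agent.Omega.GTwoFour
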