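import Cfsg.Agent.Omega.GTwoFour.IdTools

/-!
# The pair of type `G₂(4)`: the input of the identification ID24

`Four` = the output of the pair theorem for `q = 4`, `c = 1` ((H1) - (H5) of
`blueprints/OMEGA-EH5-b2-helper195.md`), stated elementwise.  `X₁` is `X` (normal in the normaliser of
`V`, `X₁/Y = SL₂(4)` on `V`), `X₂/W = SL₂(4)`, `[X₂, R] = 1`; `h₁ ∈ X₁`, `h₂ ∈ X₂` are commuting elements of
order three normalising everything.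
-/

set_option autoImplicit false
set_option linter.unusedSectionVars false

namespace Cfsg.Agent.Omega.GTwoFour.Id

open Subgroup
open scoped MatrixGroups

/-- The pair of type `G₂(4)`. -/
structure Four (F : Type*) [Field F] {G : Type*} [Group G] (X₁ X₂ U V R W Y D : Subgroup G) (h₁ h₂ : G) :
    Prop where
  cF : Nat.card F = 4
  UX₁ : U ≤ X₁
  UX₂ : U ≤ X₂
  /- `X₁/Y = SL₂(4)`, `X₂/W = SL₂(4)` -/
  sl₁ : ∃ π : X₁ →* SL(2, F), Function.Surjective π ∧ ∀ x, π x = 1 ↔ (x : G) ∈ Y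
  sl₂ : ∃ π : X₂ →* SL(2, F), Function.Surjective π ∧ ∀ x, π x = 1 ↔ (x : G) ∈ W
  nV : ∀ x ∈ X₁, ∀ v ∈ V, x * v * x⁻¹ ∈ V
  nD : ∀ x ∈ X₁, ∀ v ∈ D, x * v * x⁻¹ ∈ D
  cR : ∀ x ∈ X₂, ∀ r ∈ R, x * r = r * x
  /- `R` is not normal in `X₁` -/
  Rn : ∃ x ∈ X₁, ∃ r ∈ R, x * r * x⁻¹ ∉ R
  RV : R ≤ V
  VD : V ≤ D
  DW : D ≤ W
  DY : D ≤ Y
  WU : W ≤ U
  YU : Y ≤ U
  UWY : ∀ u ∈ U, ∃ a ∈ W, ∃ b ∈ Y, u = a * b
  /- `W ∩ W^g ≤ D` for the other points `R^g` of `V` -/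
  D_of : ∀ g ∈ X₁, (∃ r ∈ R, g * r * g⁻¹ ∉ R) → ∀ d ∈ W, g⁻¹ * d * g ∈ W → d ∈ D
  kR : Nat.card R = 4
  kV : Nat.card V = 16
  kD : Nat.card D = 64
  kWY : Nat.card (W ⊓ Y : Subgroup G) = 256
  kW : Nat.card W = 1024
  kY : Nat.card Y = 1024
  kU : Nat.card U = 4096
  V_sq : ∀ v ∈ V, v * v = 1
  YV : ∀ y ∈ Y, ∀ v ∈ V, y * v = v * y
  /- `W' ≤ R` -/
  WW : ∀ a ∈ W, ∀ b ∈ W, a * b * a⁻¹ * b⁻¹ ∈ R
  /- `W` is generated by the conjugates of `V` under `X₂` -/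
  gen : ∀ K : Subgroup G, (∀ x ∈ X₂, ∀ v ∈ V, x * v * x⁻¹ ∈ K) → W ≤ K
  /- the torus -/
  h₁X : h₁ ∈ X₁
  h₂X : h₂ ∈ X₂
  h₁ne : h₁ ≠ 1
  h₂ne : h₂ ≠ 1
  h₁3 : h₁ * h₁ * h₁ = 1
  h₂3 : h₂ * h₂ * h₂ = 1
  hh : h₁ * h₂ = h₂ * h₁
  h₁X₂ : ∀ x ∈ X₂, h₁ * x * h₁⁻¹ ∈ X₂
  h₁U : ∀ x ∈ U, h₁ * x * h₁⁻¹ ∈ U
  h₁W : ∀ x ∈ W, h₁ * x * h₁⁻¹ ∈ W
  h₁R : ∀ x ∈ R, h₁ * x * h₁⁻¹ ∈ R
  h₂X₁ : ∀ x ∈ X₁, h₂ * x * h₂⁻¹ ∈ X₁
  h₂U : ∀ x ∈ U, h₂ * x * h₂⁻¹ ∈ U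
  h₂Y : ∀ x ∈ Y, h₂ * x * h₂⁻¹ ∈ Y
  h₂V : ∀ x ∈ V, h₂ * x * h₂⁻¹ ∈ V
  h₂D : ∀ x ∈ D, h₂ * x * h₂⁻¹ ∈ D

namespace Four

variable {F : Type*} [Field F] {G : Type*} [Group G] [Finite G] {X₁ X₂ U V R W Y D : Subgroup G} {h₁ h₂ : G}

section basic

variable (f : Four F X₁ X₂ U V R W Y D h₁ h₂)
include f

theorem not3 {S : Subgroup G} (hS : S ≤ U) : ¬ 3 ∣ Nat.card S := by
  intro h
  have h1 := h.trans (card_dvd_of_le hS)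
  rw [f.kU] at h1
  omega

theorem not_mem_U {g : G} (hg : g ≠ 1) (h3 : g * g * g = 1) : g ∉ U := by
  intro h
  apply hg
  have h1 : g ^ 4096 = 1 := by
    have := pow_card_eq_one' (x := (⟨g, h⟩ : U))
    rw [f.kU] at this
    exact congrArg Subtype.val this
  have h2 : g ^ 3 = 1 := by rw [pow_succ, pow_two, h3]
  have h4 : g ^ 4096 = (g ^ 3) ^ 1365 * g := by rw [← pow_mul, ← pow_succ]
  rw [h2, one_pow, one_mul] at h4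
  rw [← h4, h1]

theorem two_U : IsPGroup 2 U := IsPGroup.of_card (n := 12) (by rw [f.kU]; norm_num)

theorem exists_c₁ : ∃ (w : F) (ρ : G → SL(2, F)), Ch X₁ Y U h₁ w ρ :=
  exists_chart f.cF f.YU f.UX₁ f.two_U (by rw [f.kU, f.kY]) f.h₁X
    (fun h => f.not_mem_U f.h₁ne f.h₁3 (f.YU h)) f.h₁3 f.h₁U f.sl₁

theorem exists_c₂ : ∃ (w : F) (ρ : G → SL(2, F)), Ch X₂ W U h₂ w ρ :=
  exists_chart f.cF f.WU f.UX₂ f.two_U (by rw [f.kU, f.kW]) f.h₂X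
    (fun h => f.not_mem_U f.h₂ne f.h₂3 (f.WU h)) f.h₂3 f.h₂U f.sl₂

theorem conj_R {x : G} (hx : x ∈ X₂) {r : G} (hr : r ∈ R) : x * r * x⁻¹ = r := by
  rw [f.cR x hx r hr, mul_inv_cancel_right]

theorem conj_YV {y : G} (hy : y ∈ Y) {v : G} (hv : v ∈ V) : y * v * y⁻¹ = v := by
  rw [f.YV y hy v hv, mul_inv_cancel_right]

theorem VW : V ≤ W := f.VD.trans f.DW
theorem VY : V ≤ Y := f.VD.trans f.DY
theorem VU : V ≤ U := f.VW.trans f.WU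
theorem RU : R ≤ U := f.RV.trans f.VU
theorem DU : D ≤ U := f.DW.trans f.WU
theorem RX₂ : R ≤ X₂ := f.RU.trans f.UX₂

theorem V_comm {a b : G} (ha : a ∈ V) (hb : b ∈ V) : a * b = b * a := f.YV a (f.VD.trans f.DY ha) b hb

theorem V_inv {a : G} (ha : a ∈ V) : a⁻¹ = a := inv_eq_of_mul_eq_one_right (f.V_sq a ha)

end basic

/-- the set stabiliser, finite case -/
theorem mem_norm {g : G} {A : Subgroup G} (h : ∀ x ∈ A, g * x * g⁻¹ ∈ A) : g ∈ normalizer (A : Set G) := by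
  have h1 : A.map (MulAut.conj g).toMonoidHom ≤ A := by
    rintro _ ⟨x, hx, rfl⟩
    exact h x hx
  have h2 : Nat.card A ≤ Nat.card (A.map (MulAut.conj g).toMonoidHom) :=
    (Nat.card_congr (A.equivMapOfInjective _ (MulAut.conj g).injective).toEquiv).le
  have h3 := eq_of_le_of_card_ge h1 h2
  rw [mem_normalizer_iff]
  intro x
  refine ⟨h x, fun hx => ?_⟩
  rw [← h3] at hx
  obtain ⟨y, hy, hy2⟩ := hx
  have : y = x := (MulAut.conj g).injective hy2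
  rwa [← this]

section chart

variable (f : Four F X₁ X₂ U V R W Y D h₁ h₂) {w₁ w₂ : F} {ρ₁ ρ₂ : G → SL(2, F)}
  (c₁ : Ch X₁ Y U h₁ w₁ ρ₁) (c₂ : Ch X₂ W U h₂ w₂ ρ₂)

include f c₁ in
/-- an element over `jj` moves `R` -/
theorem j_R {j : G} (hj : j ∈ X₁) (hj1 : ρ₁ j = jj) : ∃ r ∈ R, j * r * j⁻¹ ∉ R := by
  by_contra hcon
  push Not at hcon
  have h1 : X₁ ≤ normalizer (R : Set G) := by
    refine c₁.le_of_mem ?_ hj hj1 (mem_norm hcon)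
    intro u hu
    refine mem_norm fun r hr => ?_
    rw [f.conj_R (f.UX₂ hu) hr]
    exact hr
  obtain ⟨x, hx, r, hr, hxr⟩ := f.Rn
  exact hxr ((mem_normalizer_iff.1 (h1 hx) r).1 hr)

include f c₁ in
/-- elements of `X₁` acting trivially on `V` do not contain `U` -/
theorem V_nontriv (h : ∀ u ∈ U, ∀ v ∈ V, u * v = v * u) : False := by
  let K : Subgroup G := centralizer (V : Set G)
  have hK : ∀ x, x ∈ K ↔ ∀ v ∈ V, x * v = v * x := by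
    intro x
    change x ∈ centralizer (V : Set G) ↔ _
    rw [mem_centralizer_iff]
    exact ⟨fun h v hv => (h v hv).symm, fun h v hv => (h v hv).symm⟩
  have h1 : X₁ ≤ X₁ ⊓ K := by
    refine c₁.le_of_normal (K := X₁ ⊓ K) (fun u hu => ⟨f.UX₁ hu, (hK u).2 (h u hu)⟩) ?_
    rintro x hx y ⟨hy, hyK⟩
    refine ⟨X₁.mul_mem (X₁.mul_mem hx hy) (X₁.inv_mem hx), (hK _).2 fun v hv => ?_⟩
    have h2 := (hK y).1 hyK (x⁻¹ * v * x) (by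
      have := f.nV x⁻¹ (X₁.inv_mem hx) v hv
      rwa [inv_inv] at this)
    calc x * y * x⁻¹ * v = x * (y * (x⁻¹ * v * x)) * x⁻¹ := by group
      _ = v * (x * y * x⁻¹) := by rw [h2]; group
  obtain ⟨x, hx, r, hr, hxr⟩ := f.Rn
  apply hxr
  rw [(hK x).1 (h1 hx).2 r (f.RV hr), mul_inv_cancel_right]
  exact hr

include f c₁ in
/-- an element over `jj` commuting with `g` and inverting `h₁` -/
theorem exists_n {g : G} (g3 : g * g * g = 1) (gh : g * h₁ = h₁ * g) (gX : ∀ x ∈ X₁, ρ₁ (g * x * g⁻¹) = ρ₁ x)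
    (gX' : ∀ x ∈ X₁, g * x * g⁻¹ ∈ X₁) :
    ∃ n ∈ X₁, ρ₁ n = jj ∧ g * n = n * g ∧ n * h₁ * n⁻¹ = h₁⁻¹ := by
  have gY : ∀ y ∈ Y, g * y * g⁻¹ ∈ Y := by
    intro y hy
    have hyX := f.UX₁ (f.YU hy)
    rw [← c₁.ker _ (gX' y hyX), gX y hyX, c₁.ker y hyX]
    exact hy
  obtain ⟨j, hj, hj1⟩ := c₁.surj jj
  obtain ⟨b, hb, hb1⟩ := lift g3 (f.not3 f.YU) gY (x := j) ((c₁.eq_iff hj (gX' j hj)).1 (gX j hj).symm)
  set n₀ := j * b with hn₀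
  have hbX := f.UX₁ (f.YU hb)
  have hn₀X : n₀ ∈ X₁ := X₁.mul_mem hj hbX
  have hn₀1 : ρ₁ n₀ = jj := by
    rw [hn₀, c₁.mul _ hj _ hbX, hj1, (c₁.ker b hbX).2 hb, mul_one]
  -- the fixed points of `g` in `Y`
  set N : Subgroup G := Y ⊓ centralizer ({g} : Set G) with hN
  have hNm : ∀ x, x ∈ N ↔ x ∈ Y ∧ g * x = x * g := by
    intro x
    rw [hN, mem_inf, mem_centralizer_singleton_iff]
    exact ⟨fun h => ⟨h.1, h.2.symm⟩, fun h => ⟨h.1, h.2.symm⟩⟩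
  have h1 : n₀ * h₁ * n₀⁻¹ * (n₀ * h₁ * n₀⁻¹) * (n₀ * h₁ * n₀⁻¹) = 1 := by
    calc n₀ * h₁ * n₀⁻¹ * (n₀ * h₁ * n₀⁻¹) * (n₀ * h₁ * n₀⁻¹) = n₀ * (h₁ * h₁ * h₁) * n₀⁻¹ := by group
      _ = 1 := by rw [f.h₁3]; group
  have h2 : h₁⁻¹ * h₁⁻¹ * h₁⁻¹ = 1 := by
    calc h₁⁻¹ * h₁⁻¹ * h₁⁻¹ = (h₁ * h₁ * h₁)⁻¹ := by group
      _ = 1 := by rw [f.h₁3, inv_one]
  have hNU : N ≤ U := inf_le_left.trans f.YU
  obtain ⟨y, hy, hy1⟩ := exists_fix (f.not3 hNU) h1 h2 (by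
    intro y hy
    rw [hNm] at hy ⊢
    rw [inv_inv]
    have hyX := f.UX₁ (f.YU hy.1)
    have hc := X₁.mul_mem (X₁.mul_mem hn₀X f.h₁X) (X₁.inv_mem hn₀X)
    refine ⟨?_, ?_⟩
    · rw [← c₁.ker _ (X₁.mul_mem (X₁.mul_mem hc hyX) f.h₁X), c₁.mul _ (X₁.mul_mem hc hyX) _ f.h₁X,
        c₁.mul _ hc _ hyX, c₁.conj hn₀X f.h₁X, hn₀1, (c₁.ker y hyX).2 hy.1, jj_IsD c₁.dg]
      group
    · have hgn : g * n₀⁻¹ = n₀⁻¹ * g := by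
        calc g * n₀⁻¹ = n₀⁻¹ * (n₀ * g) * n₀⁻¹ := by group
          _ = _ := by rw [← hb1]; group
      calc g * (n₀ * h₁ * n₀⁻¹ * y * h₁) = (g * n₀) * h₁ * n₀⁻¹ * y * h₁ := by group
        _ = n₀ * (g * h₁) * n₀⁻¹ * y * h₁ := by rw [hb1]; group
        _ = n₀ * h₁ * (g * n₀⁻¹) * y * h₁ := by rw [gh]; group
        _ = n₀ * h₁ * n₀⁻¹ * (g * y) * h₁ := by rw [hgn]; group
        _ = n₀ * h₁ * n₀⁻¹ * y * (g * h₁) := by rw [hy.2]; group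
        _ = _ := by rw [gh]; group)
  rw [hNm] at hy
  have hyX := f.UX₁ (f.YU hy.1)
  refine ⟨y⁻¹ * n₀, X₁.mul_mem (X₁.inv_mem hyX) hn₀X, ?_, ?_, ?_⟩
  · rw [c₁.mul _ (X₁.inv_mem hyX) _ hn₀X, c₁.inv hyX, (c₁.ker y hyX).2 hy.1, hn₀1]
    group
  · have hgy : g * y⁻¹ = y⁻¹ * g := by
      calc g * y⁻¹ = y⁻¹ * (y * g) * y⁻¹ := by group
        _ = _ := by rw [← hy.2]; group
    calc g * (y⁻¹ * n₀) = (g * y⁻¹) * n₀ := by group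
      _ = y⁻¹ * (g * n₀) := by rw [hgy]; group
      _ = _ := by rw [hb1]; group
  · calc y⁻¹ * n₀ * h₁ * (y⁻¹ * n₀)⁻¹ = y⁻¹ * (n₀ * h₁ * n₀⁻¹ * y) := by group
      _ = _ := by rw [hy1]; group

end chart

end Four

end Cfsg.Agent.Omega.GTwoFour.Id
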