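import Cfsg.Agent.Omega.GTwoFour.Law

/-!
# The pair of type `G₂(4)`: calculation in the group
-/

set_option autoImplicit false

namespace Cfsg.Agent.Omega.GTwoFour

open Cfsg.Agent.HexRec Subgroup

variable {F : Type*} [Field F]

/-- the neutral element -/
def one0 : Tup F F := ⟨0, 0, 0, 0, 0, 0⟩

/-- the inverse -/
def iv (a : Tup F F) : Tup F F where
  a1 := a.a1
  a2 := a.a2 + a.a6 * a.a1 ^ 3 + a.a1 * a.a3 + a.a1 ^ 2 * a.a5
  a3 := a.a3 + a.a6 * a.a1 ^ 2
  a4 := a.a4 + a.a6 ^ 2 * a.a1 ^ 3 + a.a1 * a.a5 ^ 2 +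
    a.a6 * (a.a2 + a.a6 * a.a1 ^ 3 + a.a1 * a.a3 + a.a1 ^ 2 * a.a5) +
    a.a6 * (a.a1 ^ 2 * a.a5) + (a.a3 + a.a6 * a.a1 ^ 2) * a.a5 + a.a6 * ((a.a3 + a.a6 * a.a1 ^ 2) * a.a1)
  a5 := a.a5 + a.a6 * a.a1
  a6 := a.a6

theorem mu_iv (hF : Nat.card F = 4) (a : Tup F F) : mu a (iv a) = one0 := by
  have h2 := two hF
  ext <;> simp only [mu, iv, one0] <;> grind

theorem one0_mu (a : Tup F F) : mu one0 a = a := by
  ext <;> simp only [mu, one0] <;> ring

variable {G : Type*} [Group G] {X : Tup F F → G} {f : G} {ja jb : G}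

namespace Dat

variable (h : Dat X f ja jb)
include h

theorem X_one : X one0 = 1 := by
  have h1 := h.mul one0 one0
  rw [one0_mu] at h1
  exact mul_eq_left.mp h1

theorem inv (a : Tup F F) : (X a)⁻¹ = X (iv a) := by
  rw [inv_eq_iff_mul_eq_one, h.mul, mu_iv h.card, h.X_one]

theorem eq_one {a : Tup F F} (ha : X a = 1) : a = one0 := h.inj (ha.trans h.X_one.symm)

/-- the Sylow 2-subgroup of `G₂(4)` -/
def T : Subgroup G where
  carrier := {g | ∃ a, g = X a}
  one_mem' := ⟨one0, h.X_one.symm⟩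
  mul_mem' := by
    rintro _ _ ⟨a, rfl⟩ ⟨b, rfl⟩
    exact ⟨mu a b, h.mul a b⟩
  inv_mem' := by
    rintro _ ⟨a, rfl⟩
    exact ⟨iv a, h.inv a⟩

theorem mem_T {g : G} : g ∈ h.T ↔ ∃ a, g = X a := Iff.rfl

theorem X_mem (a : Tup F F) : X a ∈ h.T := ⟨a, rfl⟩

theorem conj_X {a b c : Tup F F} (he : mu b a = mu c b) : X b * X a * (X b)⁻¹ = X c := by
  rw [h.mul, he, ← h.mul, mul_inv_cancel_right]

theorem fX' (a : Tup F F) : f * X a = X (fr a) * f := by
  rw [← h.fX a, mul_assoc _ f f, h.ff, mul_one]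

theorem Xf (a : Tup F F) : X a * f = f * X (fr a) := by
  have h1 := h.fX a
  rw [← h1, ← mul_assoc, ← mul_assoc, h.ff, one_mul]

theorem f_inv : f⁻¹ = f := inv_eq_of_mul_eq_one_right h.ff

theorem f_not_mem : f ∉ h.T := fun ⟨a, ha⟩ => h.f_not a ha

theorem f_norm {g : G} (hg : g ∈ h.T) : f * g * f ∈ h.T := by
  obtain ⟨a, rfl⟩ := hg
  exact ⟨fr a, h.fX a⟩

/-- `T ∪ f T` -/
def S0 : Subgroup G where
  carrier := {g | g ∈ h.T ∨ f * g ∈ h.T}
  one_mem' := Or.inl (one_mem _)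
  mul_mem' := by
    rintro a b (ha | ha) (hb | hb)
    · exact Or.inl (mul_mem ha hb)
    · right
      have h1 : f * (a * b) = (f * a * f) * (f * b) := by
        calc f * (a * b) = f * a * (f * f) * b := by rw [h.ff]; group
          _ = _ := by group
      rw [h1]
      exact mul_mem (h.f_norm ha) hb
    · right
      rw [← mul_assoc]
      exact mul_mem ha hb
    · left
      have h1 : a * b = (f * (f * a) * f) * (f * b) := by
        calc a * b = (f * f) * a * (f * f) * b := by rw [h.ff]; group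
          _ = _ := by group
      rw [h1]
      exact mul_mem (h.f_norm ha) hb
  inv_mem' := by
    rintro a (ha | ha)
    · exact Or.inl (inv_mem ha)
    · right
      have h1 : f * a⁻¹ = f * (f * a)⁻¹ * f := by
        rw [mul_inv_rev, h.f_inv]
        calc f * a⁻¹ = f * a⁻¹ * (f * f) := by rw [h.ff, mul_one]
          _ = _ := by group
      rw [h1]
      exact h.f_norm (inv_mem ha)

theorem mem_S0 {g : G} : g ∈ h.S0 ↔ g ∈ h.T ∨ f * g ∈ h.T := Iff.rfl

theorem T_le_S0 : h.T ≤ h.S0 := fun _ hg => Or.inl hg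

theorem f_mem_S0 : f ∈ h.S0 := Or.inr (by rw [h.ff]; exact one_mem _)

/-! ### orders -/

theorem card_T : Nat.card h.T = 4096 := by
  have e : Tup F F ≃ h.T := Equiv.ofBijective (fun a => ⟨X a, h.X_mem a⟩)
    ⟨fun a b hab => h.inj (congrArg Subtype.val hab), fun ⟨g, a, ha⟩ => ⟨a, Subtype.ext ha.symm⟩⟩
  have e2 : Tup F F ≃ F × F × F × F × F × F :=
    { toFun := fun a => (a.a1, a.a2, a.a3, a.a4, a.a5, a.a6)
      invFun := fun p => ⟨p.1, p.2.1, p.2.2.1, p.2.2.2.1, p.2.2.2.2.1, p.2.2.2.2.2⟩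
      left_inv := fun a => rfl
      right_inv := fun p => rfl }
  rw [← Nat.card_congr e, Nat.card_congr e2]
  simp only [Nat.card_prod, h.card]

theorem relIndex_T : h.T.relIndex h.S0 = 2 := by
  rw [Subgroup.relIndex, Subgroup.index_eq_two_iff]
  refine ⟨⟨f, h.f_mem_S0⟩, fun b => ?_⟩
  rw [mem_subgroupOf, mem_subgroupOf]
  simp only [Subgroup.coe_mul]
  rcases b.2 with hb | hb
  · refine Or.inr ⟨hb, fun hc => h.f_not_mem ?_⟩
    have h1 := mul_mem (inv_mem hb) hc
    rwa [inv_mul_cancel_left] at h1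
  · left
    refine ⟨?_, fun hc => h.f_not_mem ?_⟩
    · have h1 : (b : G) * f = f * (f * (b : G)) * f := by
        rw [← mul_assoc f f, h.ff, one_mul]
      rw [h1]
      exact h.f_norm hb
    · have h1 := mul_mem hb (inv_mem hc)
      rwa [mul_inv_cancel_right] at h1

theorem card_S0 : Nat.card h.S0 = 8192 := by
  have h1 := Subgroup.card_mul_index (h.T.subgroupOf h.S0)
  have h2 : (h.T.subgroupOf h.S0).index = 2 := h.relIndex_T
  rw [h2, Nat.card_congr (subgroupOfEquivOfLe h.T_le_S0).toEquiv, h.card_T] at h1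
  omega

theorem two_S0 : IsPGroup 2 h.S0 := IsPGroup.of_card (n := 13) (by rw [h.card_S0]; norm_num)

theorem two_T : IsPGroup 2 h.T := h.two_S0.to_le h.T_le_S0

/-- the centraliser of `f` in `T` -/
theorem comm_iff {a : Tup F F} : f * X a = X a * f ↔ fr a = a := by
  rw [h.fX', mul_left_inj]
  exact ⟨fun he => h.inj he, fun he => by rw [he]⟩

end Dat

end Cfsg.Agent.Omega.GTwoFour
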