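import Cfsg.Agent.Omega.GTwoFour.Four

/-!
# The torus of the pair of type `G₂(4)`, I: fixed points of `h₁` and of the element centralising `X₂/W`
-/

set_option autoImplicit false
set_option linter.unusedSectionVars false

namespace Cfsg.Agent.Omega.GTwoFour.Id

open Subgroup
open scoped MatrixGroups

namespace Four

variable {F : Type*} [Field F] {G : Type*} [Group G] [Finite G] {X₁ X₂ U V R W Y D : Subgroup G} {h₁ h₂ : G}

section chart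

variable (f : Four F X₁ X₂ U V R W Y D h₁ h₂) {w₁ w₂ : F} {ρ₁ ρ₂ : G → SL(2, F)}
  (c₁ : Ch X₁ Y U h₁ w₁ ρ₁) (c₂ : Ch X₂ W U h₂ w₂ ρ₂)

theorem bot_card : Nat.card (⊥ : Subgroup G) = 1 := by simp

theorem up_inv {F : Type*} [Field F] (hF : Nat.card F = 4) (t : F) : (up t)⁻¹ = up t := by
  rw [inv_eq_iff_mul_eq_one, ← up_add, addself hF, up_zero]

include f c₁ in
theorem h₁V : ¬ ∀ v ∈ V, h₁ * v = v * h₁ := by
  intro hV
  refine f.V_nontriv c₁ fun u hu v hv => ?_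
  have huX := f.UX₁ hu
  obtain ⟨t, ht⟩ := (c₁.up u huX).1 hu
  obtain ⟨u₀, hu₀, hu₀1⟩ := c₁.exists_up (w₁ * t)
  have hu₀X := f.UX₁ hu₀
  set z := h₁ * u₀ * h₁⁻¹ * u₀⁻¹ with hz
  have hzX : z ∈ X₁ := X₁.mul_mem (X₁.mul_mem (X₁.mul_mem f.h₁X hu₀X) (X₁.inv_mem f.h₁X)) (X₁.inv_mem hu₀X)
  have hz1 : ρ₁ z = up t := by
    rw [hz, c₁.mul _ (X₁.mul_mem (X₁.mul_mem f.h₁X hu₀X) (X₁.inv_mem f.h₁X)) _ (X₁.inv_mem hu₀X),
      c₁.conj_h hu₀X hu₀1, c₁.inv hu₀X, hu₀1, up_inv f.cF, ← up_add]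
    congr 1
    linear_combination t * c₁.w2 - t * two f.cF
  have h1 : z⁻¹ * u ∈ Y := (c₁.eq_iff hzX huX).1 (hz1.trans ht.symm)
  have h2 : z * v = v * z := by
    have h3 : u₀⁻¹ * v * u₀ ∈ V := by
      have := f.nV _ (X₁.inv_mem hu₀X) v hv
      rwa [inv_inv] at this
    have h4 := hV _ h3
    have h4' : h₁⁻¹ * (u₀⁻¹ * v * u₀) = (u₀⁻¹ * v * u₀) * h₁⁻¹ := by
      calc h₁⁻¹ * (u₀⁻¹ * v * u₀) = h₁⁻¹ * ((u₀⁻¹ * v * u₀) * h₁) * h₁⁻¹ := by group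
        _ = _ := by rw [← h4]; group
    have h5 : u₀ * (u₀⁻¹ * v * u₀ * h₁⁻¹) * u₀⁻¹ = v * (u₀ * h₁⁻¹ * u₀⁻¹) := by group
    calc z * v = h₁ * (u₀ * (h₁⁻¹ * (u₀⁻¹ * v * u₀)) * u₀⁻¹) := by rw [hz]; group
      _ = h₁ * v * (u₀ * h₁⁻¹ * u₀⁻¹) := by rw [h4', h5]; exact (mul_assoc _ _ _).symm
      _ = v * h₁ * (u₀ * h₁⁻¹ * u₀⁻¹) := by rw [hV v hv]
      _ = v * z := by rw [hz]; group
  have h6 := f.YV _ h1 v hv
  calc u * v = z * (z⁻¹ * u * v) := by group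
    _ = z * v * (z⁻¹ * u) := by rw [h6, ← mul_assoc]
    _ = v * u := by rw [h2]; group

include f c₁ in
/-- an element over `jj` inverting `h₁` -/
theorem exists_n₁ : ∃ n ∈ X₁, ρ₁ n = jj ∧ n * h₁ * n⁻¹ = h₁⁻¹ := by
  obtain ⟨n, hn, hn1, -, hn2⟩ := f.exists_n c₁ (g := 1) (by group) (by group)
    (fun x _ => by rw [one_mul, inv_one, mul_one]) (fun x hx => by rwa [one_mul, inv_one, mul_one])
  exact ⟨n, hn, hn1, hn2⟩

include f c₁ in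
theorem fp_h₁R : Fp h₁ R ⊥ := by
  rcases tr_or_fp f.h₁3 (A := R) (B := ⊥) bot_le (by rw [f.kR, bot_card]) (f.not3 f.RU) f.h₁R
    (by rintro x hx; rw [mem_bot] at hx ⊢; rw [hx]; group)
    (by rintro x _ y hy; rw [mem_bot] at hy ⊢; rw [hy]; group) with hT | hF
  swap
  · exact hF
  exfalso
  have hR : ∀ r ∈ R, h₁ * r = r * h₁ := by
    intro r hr
    have h1 := hT r hr
    rw [mem_bot] at h1
    calc h₁ * r = r * (r⁻¹ * (h₁ * r * h₁⁻¹)) * h₁ := by group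
      _ = _ := by rw [h1]; group
  obtain ⟨n, hn, hn1, hn2⟩ := f.exists_n₁ c₁
  obtain ⟨r₀, hr₀, hr₀1⟩ := f.j_R c₁ hn hn1
  have hv : n * r₀ * n⁻¹ ∈ V := f.nV n hn _ (f.RV hr₀)
  have hv1 : h₁ * (n * r₀ * n⁻¹) = (n * r₀ * n⁻¹) * h₁ := by
    have e1 : h₁ * n = n * h₁⁻¹ := by
      have h5 : n * h₁ = h₁⁻¹ * n := by
        calc n * h₁ = n * h₁ * n⁻¹ * n := by group
          _ = _ := by rw [hn2]
      calc h₁ * n = h₁ * (n * h₁) * h₁⁻¹ := by group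
        _ = _ := by rw [h5]; group
    have e2 : n⁻¹ * h₁ = h₁⁻¹ * n⁻¹ := by
      calc n⁻¹ * h₁ = n⁻¹ * (h₁ * n) * n⁻¹ := by group
        _ = _ := by rw [e1]; group
    have e3 : h₁⁻¹ * r₀ = r₀ * h₁⁻¹ := by
      calc h₁⁻¹ * r₀ = h₁⁻¹ * (r₀ * h₁) * h₁⁻¹ := by group
        _ = _ := by rw [← hR r₀ hr₀]; group
    calc h₁ * (n * r₀ * n⁻¹) = (h₁ * n) * r₀ * n⁻¹ := by group
      _ = n * (h₁⁻¹ * r₀) * n⁻¹ := by rw [e1]; group
      _ = n * r₀ * (h₁⁻¹ * n⁻¹) := by rw [e3]; group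
      _ = _ := by rw [← e2]; group
  rcases tr_or_fp f.h₁3 (A := V) (B := R) f.RV (by rw [f.kR, f.kV]) (f.not3 f.VU) (f.nV h₁ f.h₁X) f.h₁R
    (fun x hx y hy => by
      rw [f.V_comm (V.inv_mem hx) (f.RV hy)]; rwa [inv_mul_cancel_right]) with hT' | hF'
  · refine f.h₁V c₁ fun v hv => ?_
    obtain ⟨r, hr, hr1⟩ := lift f.h₁3 (f.not3 f.RU) f.h₁R (hT' v hv)
    have h5 := hR r hr
    calc h₁ * v = h₁ * (v * r) * r⁻¹ := by group
      _ = v * (r * h₁) * r⁻¹ := by rw [hr1]; group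
      _ = v * h₁ := by rw [← h5]; group
  · exact hr₀1 (hF' _ hv (Tr.of_commute hv1))

include f c₁ in
/-- `R ∩ R^n = 1` -/
theorem R_inter {n : G} (hn : n ∈ X₁) (hn1 : ρ₁ n = jj) (hn2 : n * h₁ * n⁻¹ = h₁⁻¹) {r : G} (hr : r ∈ R)
    (hr' : n * r * n⁻¹ ∈ R) : r = 1 := by
  let S : Subgroup G :=
    { carrier := {r | r ∈ R ∧ n * r * n⁻¹ ∈ R}
      one_mem' := ⟨R.one_mem, by rw [mul_one, mul_inv_cancel]; exact R.one_mem⟩
      mul_mem' := by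
        rintro x y ⟨hx, hx'⟩ ⟨hy, hy'⟩
        refine ⟨R.mul_mem hx hy, ?_⟩
        have e : n * (x * y) * n⁻¹ = (n * x * n⁻¹) * (n * y * n⁻¹) := by group
        rw [e]; exact R.mul_mem hx' hy'
      inv_mem' := by
        rintro x ⟨hx, hx'⟩
        refine ⟨R.inv_mem hx, ?_⟩
        have e : n * x⁻¹ * n⁻¹ = (n * x * n⁻¹)⁻¹ := by group
        rw [e]; exact R.inv_mem hx' }
  have hSR : S ≤ R := fun x hx => hx.1
  have hSh : ∀ x ∈ S, h₁ * x * h₁⁻¹ ∈ S := by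
    rintro x ⟨hx, hx'⟩
    refine ⟨f.h₁R x hx, ?_⟩
    have e1 : n * h₁ = h₁⁻¹ * n := by
      calc n * h₁ = n * h₁ * n⁻¹ * n := by group
        _ = _ := by rw [hn2]
    have e2 : n * (h₁ * x * h₁⁻¹) * n⁻¹ = h₁⁻¹ * (n * x * n⁻¹) * h₁ := by
      calc n * (h₁ * x * h₁⁻¹) * n⁻¹ = (n * h₁) * x * (n * h₁)⁻¹ := by group
        _ = _ := by rw [e1]; group
    rw [e2]
    exact inv_conj f.h₁3 f.h₁R hx'
  by_contra hne
  have h1 := le_of_fp (h := h₁) (A := R) (B := ⊥) (S := S) bot_le hSR (by rw [f.kR, bot_card]) hSh f.h₁3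
    (by rintro x hx; rw [mem_bot] at hx ⊢; rw [hx]; group) (f.fp_h₁R c₁)
    (fun hle => hne (mem_bot.1 (hle ⟨hr, hr'⟩)))
  obtain ⟨r₀, hr₀, hr₀1⟩ := f.j_R c₁ hn hn1
  exact hr₀1 (h1 hr₀).2

include f in
theorem exists_R : ∃ r ∈ R, r ≠ 1 := by
  by_contra hcon
  push Not at hcon
  have h1 : R = ⊥ := (eq_bot_iff_forall R).2 hcon
  have h2 := f.kR
  rw [h1, bot_card] at h2
  omega

include f c₁ in
theorem fp_h₁VR : Fp h₁ V R := by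
  rcases tr_or_fp f.h₁3 (A := V) (B := R) f.RV (by rw [f.kR, f.kV]) (f.not3 f.VU) (f.nV h₁ f.h₁X) f.h₁R
    (fun x hx y hy => by
      rw [f.V_comm (V.inv_mem hx) (f.RV hy)]; rwa [inv_mul_cancel_right]) with hT | hF
  swap
  · exact hF
  exfalso
  obtain ⟨n, hn, hn1, hn2⟩ := f.exists_n₁ c₁
  obtain ⟨r, hr, hr1⟩ := f.exists_R
  have h1 := hT _ (f.nV n hn r (f.RV hr))
  have e0 : n⁻¹ * h₁ * n = h₁⁻¹ := by
    have h5 : n * h₁⁻¹ * n⁻¹ = h₁ := by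
      calc n * h₁⁻¹ * n⁻¹ = (n * h₁ * n⁻¹)⁻¹ := by group
        _ = _ := by rw [hn2, inv_inv]
    calc n⁻¹ * h₁ * n = n⁻¹ * (n * h₁⁻¹ * n⁻¹) * n := by rw [h5]
      _ = _ := by group
  have e1 : (n * r * n⁻¹)⁻¹ * (h₁ * (n * r * n⁻¹) * h₁⁻¹) = n * (r⁻¹ * (h₁⁻¹ * r * h₁)) * n⁻¹ := by
    calc (n * r * n⁻¹)⁻¹ * (h₁ * (n * r * n⁻¹) * h₁⁻¹) =
        n * (r⁻¹ * ((n⁻¹ * h₁ * n) * r * (n⁻¹ * h₁ * n)⁻¹)) * n⁻¹ := by group
      _ = _ := by rw [e0, inv_inv]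
  rw [e1] at h1
  have h2 : r⁻¹ * (h₁⁻¹ * r * h₁) ∈ R := R.mul_mem (R.inv_mem hr) (inv_conj f.h₁3 f.h₁R hr)
  have h3 := f.R_inter c₁ hn hn1 hn2 h2 h1
  have h4 : h₁ * r = r * h₁ := by
    calc h₁ * r = h₁ * r * (r⁻¹ * (h₁⁻¹ * r * h₁)) := by rw [h3, mul_one]
      _ = _ := by group
  exact hr1 (mem_bot.1 (f.fp_h₁R c₁ r hr (Tr.of_commute h4)))

include f c₁ in
theorem fp_h₁V {v : G} (hv : v ∈ V) (h : h₁ * v = v * h₁) : v = 1 :=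
  mem_bot.1 (f.fp_h₁R c₁ v (f.fp_h₁VR c₁ v hv (Tr.of_commute h)) (Tr.of_commute h))

/-! ### the element centralising `X₂/W` -/

include f in
theorem UV {u v : G} (hu : u ∈ U) (hv : v ∈ V) : u * v * u⁻¹ * v⁻¹ ∈ R := by
  obtain ⟨a, ha, b, hb, rfl⟩ := f.UWY u hu
  have e : a * b * v * (a * b)⁻¹ * v⁻¹ = a * (b * v * b⁻¹) * a⁻¹ * v⁻¹ := by group
  rw [e, f.conj_YV hb hv]
  exact f.WW a ha v (f.VW hv)

include f c₂ in
/-- conjugation by `t` and `x` commute modulo `R` -/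
theorem key {t : G} (tX : ∀ x ∈ X₂, t * x * t⁻¹ ∈ X₂) (tW : ∀ x ∈ W, t * x * t⁻¹ ∈ W)
    (tρ : ∀ x ∈ X₂, ρ₂ (t * x * t⁻¹) = ρ₂ x) {x z : G} (hx : x ∈ X₂) (hz : z ∈ W) :
    ∃ r ∈ R, t * (x * z * x⁻¹) * t⁻¹ = r * (x * (t * z * t⁻¹) * x⁻¹) := by
  have ha : x⁻¹ * (t * x * t⁻¹) ∈ W := (c₂.eq_iff hx (tX x hx)).1 (tρ x hx).symm
  set a := x⁻¹ * (t * x * t⁻¹) with hae
  set y := t * z * t⁻¹ with hy
  have hyW : y ∈ W := tW z hz
  have hr : a * y * a⁻¹ * y⁻¹ ∈ R := f.WW a ha y hyW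
  refine ⟨_, hr, ?_⟩
  have h1 := f.conj_R hx hr
  calc t * (x * z * x⁻¹) * t⁻¹ = x * (a * y * a⁻¹ * y⁻¹) * x⁻¹ * (x * y * x⁻¹) := by rw [hae, hy]; group
    _ = _ := by rw [h1]

include f c₁ c₂ in
theorem fp_tVR {t : G} (t3 : t * t * t = 1) (tX : ∀ x ∈ X₂, t * x * t⁻¹ ∈ X₂)
    (tW : ∀ x ∈ W, t * x * t⁻¹ ∈ W) (tV : ∀ x ∈ V, t * x * t⁻¹ ∈ V)
    (tR : ∀ x ∈ R, t * x * t⁻¹ ∈ R) (tρ : ∀ x ∈ X₂, ρ₂ (t * x * t⁻¹) = ρ₂ x) (tf : Fp t R ⊥) : Fp t V R := by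
  rcases tr_or_fp t3 (A := V) (B := R) f.RV (by rw [f.kR, f.kV]) (f.not3 f.VU) tV tR
    (fun x hx y hy => by
      rw [f.V_comm (V.inv_mem hx) (f.RV hy)]; rwa [inv_mul_cancel_right]) with hT | hF
  swap
  · exact hF
  exfalso
  have hWR : ∀ x ∈ W, ∀ y ∈ R, x⁻¹ * y * x ∈ R := by
    intro x hx y hy
    have h1 := f.conj_R (X₂.inv_mem (f.UX₂ (f.WU hx))) hy
    rw [inv_inv] at h1
    rwa [h1]
  have hTW : W ≤ fixMod t W R hWR := by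
    refine f.gen _ fun x hx v hv => ?_
    have hvW := f.VW hv
    refine ⟨c₂.nN hx hvW, ?_⟩
    obtain ⟨r, hr, hr1⟩ := f.key c₂ tX tW tρ hx hvW
    have h1 := hT v hv
    have h2 := f.conj_R hx h1
    have h3 := f.conj_R (X₂.mul_mem (X₂.mul_mem hx (f.UX₂ (f.VU (V.inv_mem hv)))) (X₂.inv_mem hx)) hr
    have e : (x * v * x⁻¹)⁻¹ * (t * (x * v * x⁻¹) * t⁻¹) = r * (v⁻¹ * (t * v * t⁻¹)) := by
      rw [hr1]
      calc (x * v * x⁻¹)⁻¹ * (r * (x * (t * v * t⁻¹) * x⁻¹)) =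
          (x * v⁻¹ * x⁻¹) * r * (x * v⁻¹ * x⁻¹)⁻¹ * (x * (v⁻¹ * (t * v * t⁻¹)) * x⁻¹) := by group
        _ = _ := by rw [h3, h2]
    rw [e]
    exact R.mul_mem hr h1
  refine f.V_nontriv c₁ fun u hu v hv => ?_
  -- fixed elements
  obtain ⟨a, ha, ha1⟩ := lift t3 (f.not3 f.WU) tW (x := u)
    ((c₂.eq_iff (f.UX₂ hu) (tX u (f.UX₂ hu))).1 (tρ u (f.UX₂ hu)).symm)
  obtain ⟨r, hr, hr1⟩ := lift t3 (f.not3 f.RU) tR (hTW ha).2
  obtain ⟨s, hs, hs1⟩ := lift t3 (f.not3 f.RU) tR (hT v hv)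
  set d := u * a * (a * r)⁻¹ with hd
  have hdU : d ∈ U := U.mul_mem (U.mul_mem hu (f.WU ha)) (U.inv_mem (U.mul_mem (f.WU ha) (f.RU hr)))
  have hdt : t * d = d * t := by
    have e1 : t * (a * r)⁻¹ = (a * r)⁻¹ * t := by
      calc t * (a * r)⁻¹ = (a * r)⁻¹ * (a * r * t) * (a * r)⁻¹ := by group
        _ = _ := by rw [← hr1]; group
    calc t * d = t * (u * a) * (a * r)⁻¹ := by rw [hd]; group
      _ = u * a * (t * (a * r)⁻¹) := by rw [ha1]; group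
      _ = _ := by rw [e1, hd]; group
  have hvs : v * s ∈ V := V.mul_mem hv (f.RV hs)
  have hcR := f.UV hdU hvs
  have hct : t * (d * (v * s) * d⁻¹ * (v * s)⁻¹) = (d * (v * s) * d⁻¹ * (v * s)⁻¹) * t := by
    have e1 : t * d⁻¹ = d⁻¹ * t := by
      calc t * d⁻¹ = d⁻¹ * (d * t) * d⁻¹ := by group
        _ = _ := by rw [← hdt]; group
    have e2 : t * (v * s)⁻¹ = (v * s)⁻¹ * t := by
      calc t * (v * s)⁻¹ = (v * s)⁻¹ * (v * s * t) * (v * s)⁻¹ := by group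
        _ = _ := by rw [← hs1]; group
    calc t * (d * (v * s) * d⁻¹ * (v * s)⁻¹) = (t * d) * (v * s) * d⁻¹ * (v * s)⁻¹ := by group
      _ = d * (t * (v * s)) * d⁻¹ * (v * s)⁻¹ := by rw [hdt]; group
      _ = d * (v * s) * (t * d⁻¹) * (v * s)⁻¹ := by rw [hs1]; group
      _ = d * (v * s) * d⁻¹ * (t * (v * s)⁻¹) := by rw [e1]; group
      _ = _ := by rw [e2]; group
  have h1 := mem_bot.1 (tf _ hcR (Tr.of_commute hct))
  have h2 : d * (v * s) = (v * s) * d := by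
    calc d * (v * s) = d * (v * s) * d⁻¹ * (v * s)⁻¹ * ((v * s) * d) := by group
      _ = _ := by rw [h1, one_mul]
  -- `u = d r`, `r`, `s` central
  have hud : u = d * r := by
    have h3 : a * r = r * a := (f.cR a (f.UX₂ (f.WU ha)) r hr)
    rw [hd, h3]; group
  have h3 := f.cR u (f.UX₂ hu) s hs
  have h4 := f.cR v (f.UX₂ (f.VU hv)) r hr
  have h5 := f.cR s (f.UX₂ (f.RU hs)) r hr
  calc u * v = u * (v * s) * s⁻¹ := by group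
    _ = d * (r * (v * s)) * s⁻¹ := by rw [hud]; group
    _ = d * (v * s) * r * s⁻¹ := by
        rw [show r * (v * s) = v * s * r by rw [mul_assoc, h5, ← mul_assoc, ← h4, mul_assoc]]; group
    _ = v * s * (d * r) * s⁻¹ := by rw [h2]; group
    _ = v * (s * u) * s⁻¹ := by rw [← hud]; group
    _ = v * u := by rw [← h3]; group

include f c₁ c₂ in
/-- **`C_W(t) = 1`** -/
theorem fp_tW {t : G} (t3 : t * t * t = 1) (tX : ∀ x ∈ X₂, t * x * t⁻¹ ∈ X₂)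
    (tW : ∀ x ∈ W, t * x * t⁻¹ ∈ W) (tV : ∀ x ∈ V, t * x * t⁻¹ ∈ V)
    (tR : ∀ x ∈ R, t * x * t⁻¹ ∈ R) (tρ : ∀ x ∈ X₂, ρ₂ (t * x * t⁻¹) = ρ₂ x) (tf : Fp t R ⊥) {z : G}
    (hz : z ∈ W) (htz : t * z = z * t) : z = 1 := by
  have hF := f.fp_tVR c₁ c₂ t3 tX tW tV tR tρ tf
  have hn : (R.subgroupOf W).Normal := by
    refine ⟨fun r hr x => ?_⟩
    rw [mem_subgroupOf] at hr ⊢
    have := f.conj_R (f.UX₂ (f.WU x.2)) hr
    change (x : G) * r * (x : G)⁻¹ ∈ R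
    rwa [this]
  let inst : CommGroup (W ⧸ R.subgroupOf W) :=
    { (inferInstance : Group (W ⧸ R.subgroupOf W)) with
      mul_comm := by
        intro a b
        induction a using QuotientGroup.induction_on with
        | H a =>
          induction b using QuotientGroup.induction_on with
          | H b =>
            rw [← QuotientGroup.mk_mul, ← QuotientGroup.mk_mul, QuotientGroup.eq, mem_subgroupOf]
            have := f.WW (b : G)⁻¹ (W.inv_mem b.2) (a : G)⁻¹ (W.inv_mem a.2)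
            have e : ((a * b)⁻¹ * (b * a) : W) = (b : G)⁻¹ * (a : G)⁻¹ * (b : G)⁻¹⁻¹ * (a : G)⁻¹⁻¹ := by
              push_cast; group
            rw [e]; exact this }
  let φ : W →* W ⧸ R.subgroupOf W := QuotientGroup.mk' _
  have hφ : ∀ a b : W, φ a = φ b ↔ (a : G)⁻¹ * b ∈ R := fun a b => by
    change (QuotientGroup.mk a : W ⧸ R.subgroupOf W) = QuotientGroup.mk b ↔ _
    rw [QuotientGroup.eq, mem_subgroupOf]
    rfl
  let τ : W →* W :=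
    { toFun := fun x => ⟨t * x * t⁻¹, tW x x.2⟩
      map_one' := Subtype.ext (by change t * 1 * t⁻¹ = 1; group)
      map_mul' := fun x y => Subtype.ext (by
        change t * (x * y) * t⁻¹ = t * x * t⁻¹ * (t * y * t⁻¹); group) }
  let N : W →* W ⧸ R.subgroupOf W := φ * φ.comp τ * φ.comp (τ.comp τ)
  have hN : ∀ x, N x = φ (x * τ x * τ (τ x)) := fun x => by
    rw [map_mul, map_mul]; rfl
  let K : Subgroup G := N.ker.map W.subtype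
  have hW : W ≤ K := by
    refine f.gen _ fun x hx v hv => ?_
    have hvW := f.VW hv
    have hxW := c₂.nN hx hvW
    refine ⟨⟨x * v * x⁻¹, hxW⟩, ?_, rfl⟩
    have hkey : ∀ z (hz : z ∈ W), φ (τ ⟨x * z * x⁻¹, c₂.nN hx hz⟩) =
        φ ⟨x * (t * z * t⁻¹) * x⁻¹, c₂.nN hx (tW z hz)⟩ := by
      intro z hz
      obtain ⟨r, hr, hr1⟩ := f.key c₂ tX tW tρ hx hz
      rw [hφ]
      change (t * (x * z * x⁻¹) * t⁻¹)⁻¹ * (x * (t * z * t⁻¹) * x⁻¹) ∈ R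
      rw [hr1]
      have hyW : x * (t * z * t⁻¹) * x⁻¹ ∈ W := c₂.nN hx (tW z hz)
      set y := x * (t * z * t⁻¹) * x⁻¹
      have h1 := f.conj_R (X₂.inv_mem (f.UX₂ (f.WU hyW))) (R.inv_mem hr)
      have e : (r * y)⁻¹ * y = y⁻¹ * r⁻¹ * y⁻¹⁻¹ := by group
      rw [e, h1]
      exact R.inv_mem hr
    have hτφ : ∀ a b : W, φ a = φ b → φ (τ a) = φ (τ b) := by
      intro a b hab
      rw [hφ] at hab ⊢
      change (t * a * t⁻¹)⁻¹ * (t * b * t⁻¹) ∈ R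
      have e : (t * a * t⁻¹)⁻¹ * (t * b * t⁻¹) = t * ((a : G)⁻¹ * b) * t⁻¹ := by group
      rw [e]
      exact tR _ hab
    rw [SetLike.mem_coe, MonoidHom.mem_ker, hN, map_mul, map_mul]
    have e1 := hkey v hvW
    have e2 := hτφ _ _ e1
    rw [hkey _ (tW v hvW)] at e2
    rw [e2, e1, ← map_mul, ← map_mul]
    rw [show (1 : W ⧸ R.subgroupOf W) = φ 1 from (map_one φ).symm]
    rw [eq_comm, hφ]
    change (1 : G)⁻¹ * (x * v * x⁻¹ * (x * (t * v * t⁻¹) * x⁻¹) * (x * (t * (t * v * t⁻¹) * t⁻¹) * x⁻¹)) ∈ R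
    set y := v * (t * v * t⁻¹) * (t * (t * v * t⁻¹) * t⁻¹) with hy
    have htv := tV v hv
    have httv := tV _ htv
    have hyV : y ∈ V := V.mul_mem (V.mul_mem hv htv) httv
    have hyR : y ∈ R := by
      refine hF y hyV ?_
      have h5 : t * y * t⁻¹ = y := by
        have h6 : t * (t * (t * v * t⁻¹) * t⁻¹) * t⁻¹ = v := by
          calc t * (t * (t * v * t⁻¹) * t⁻¹) * t⁻¹ = (t * t * t) * v * (t * t * t)⁻¹ := by group
            _ = v := by rw [t3]; group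
        calc t * y * t⁻¹ = (t * v * t⁻¹) * (t * (t * v * t⁻¹) * t⁻¹) * (t * (t * (t * v * t⁻¹) * t⁻¹) * t⁻¹) := by
              rw [hy]; group
          _ = (t * v * t⁻¹) * (t * (t * v * t⁻¹) * t⁻¹) * v := by rw [h6]
          _ = v * ((t * v * t⁻¹) * (t * (t * v * t⁻¹) * t⁻¹)) := f.V_comm (V.mul_mem htv httv) hv
          _ = y := by rw [hy]; group
      rw [h5, inv_mul_cancel]
      exact R.one_mem
    have e5 : (1 : G)⁻¹ * (x * v * x⁻¹ * (x * (t * v * t⁻¹) * x⁻¹) * (x * (t * (t * v * t⁻¹) * t⁻¹) * x⁻¹)) =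
        x * y * x⁻¹ := by rw [hy]; group
    rw [e5, f.conj_R hx hyR]
    exact hyR
  obtain ⟨z', hz', hz'1⟩ := hW hz
  have hzz : z' = ⟨z, hz⟩ := Subtype.ext hz'1
  rw [hzz, SetLike.mem_coe, MonoidHom.mem_ker, hN, show (1 : W ⧸ R.subgroupOf W) = φ 1 from (map_one φ).symm,
    eq_comm, hφ] at hz'
  have h7 : t * z * t⁻¹ = z := by rw [htz, mul_inv_cancel_right]
  have h8 : (1 : G)⁻¹ * (z * (t * z * t⁻¹) * (t * (t * z * t⁻¹) * t⁻¹)) ∈ R := hz'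
  rw [h7, h7, inv_one, one_mul] at h8
  have h9 : z * z * z = 1 := by
    have hc : Commute t z := htz
    exact mem_bot.1 (tf _ h8 (Tr.of_commute ((hc.mul_right hc).mul_right hc).eq))
  by_contra hne
  exact f.not_mem_U hne h9 (f.WU hz)

end chart

end Four

end Cfsg.Agent.Omega.GTwoFour.Id
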