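import Cfsg.Agent.HexRec.Coord

/-!
# The pair of type `G₂(4)`: input structure, coordinates

`X : Tup F F → G` : the Sylow 2-subgroup `T` of `G₂(F)`, `|F| = 4`, in hexagonal coordinates
(`x1 .. x6`, odd roots short, even roots long; `x4` = highest root); `ja`, `jb` : the two fundamental
Weyl elements (`ja` at `x1`, `jb` at `x6`); `f` : the field involution.
-/

set_option autoImplicit false

namespace Cfsg.Agent.Omega.GTwoFour

open Cfsg.Agent.HexRec

variable {F : Type*} [Field F]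

/-- product law of the Sylow 2-subgroup of `G₂(F)` in characteristic two -/
def mu (a b : Tup F F) : Tup F F where
  a1 := a.a1 + b.a1
  a2 := a.a2 + b.a2 + a.a6 * b.a1 ^ 3 + b.a1 * a.a3 + b.a1 ^ 2 * a.a5
  a3 := a.a3 + b.a3 + a.a6 * b.a1 ^ 2
  a4 := a.a4 + b.a4 + a.a6 ^ 2 * b.a1 ^ 3 + b.a1 * a.a5 ^ 2 + a.a6 * b.a2 +
    a.a6 * (b.a1 ^ 2 * a.a5) + b.a3 * a.a5 + a.a6 * (b.a3 * b.a1)
  a5 := a.a5 + b.a5 + a.a6 * b.a1
  a6 := a.a6 + b.a6

/-- Frobenius on the coordinates -/
def fr (a : Tup F F) : Tup F F := ⟨a.a1 ^ 2, a.a2 ^ 2, a.a3 ^ 2, a.a4 ^ 2, a.a5 ^ 2, a.a6 ^ 2⟩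

/-- the element with a single coordinate -/
def e1 (t : F) : Tup F F := ⟨t, 0, 0, 0, 0, 0⟩
def e2 (t : F) : Tup F F := ⟨0, t, 0, 0, 0, 0⟩
def e3 (t : F) : Tup F F := ⟨0, 0, t, 0, 0, 0⟩
def e4 (t : F) : Tup F F := ⟨0, 0, 0, t, 0, 0⟩
def e5 (t : F) : Tup F F := ⟨0, 0, 0, 0, t, 0⟩
def e6 (t : F) : Tup F F := ⟨0, 0, 0, 0, 0, t⟩

/-- The pair of type `G₂(4)` with a field involution `f`. -/
structure Dat {G : Type*} [Group G] (X : Tup F F → G) (f ja jb : G) : Prop where
  card : Nat.card F = 4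
  inj : Function.Injective X
  mul : ∀ a b, X a * X b = X (mu a b)
  ff : f * f = 1
  fX : ∀ a, f * X a * f = X (fr a)
  f_not : ∀ a, f ≠ X a
  fA : f * ja = ja * f
  fB : f * jb = jb * f
  nA : ∀ a2 a3 a4 a5 a6 : F, ja * X ⟨0, a2, a3, a4, a5, a6⟩ =
    X ⟨0, a6, a5, a4 + a2 * a6 + a3 * a5, a3, a2⟩ * ja
  nB : ∀ a1 a2 a3 a4 a5 : F, jb * X ⟨a1, a2, a3, a4, a5, 0⟩ =
    X ⟨a5, a4 + a3 * a5 + a1 * a5 ^ 2, a3, a2 + a1 * a3 + a1 ^ 2 * a5, a1, 0⟩ * jb

/-! ### the field with four elements -/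

section field

variable (hF : Nat.card F = 4)
include hF

omit [Field F] in
theorem fin : Finite F := Nat.finite_of_card_ne_zero (by rw [hF]; norm_num)

theorem pow4 (t : F) : t ^ 4 = t := by
  have := fin hF
  have := Fintype.ofFinite F
  have h := FiniteField.pow_card t
  rwa [← Nat.card_eq_fintype_card, hF] at h

theorem two : (2 : F) = 0 := by
  have := fin hF
  have := Fintype.ofFinite F
  have h3 : (4 : F) = 0 := by
    have := Nat.cast_card_eq_zero F
    rw [← Nat.card_eq_fintype_card, hF] at this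
    exact_mod_cast this
  have h4 : (2 : F) * 2 = 0 := by rw [← h3]; norm_num
  exact mul_self_eq_zero.mp h4

theorem addself (t : F) : t + t = 0 := by linear_combination t * two hF

theorem eqadd {s t : F} (h : s + t = 0) : s = t := by linear_combination h - t * two hF

theorem cube {t : F} (ht : t ≠ 0) : t ^ 3 = 1 := by
  have h := pow4 hF t
  have h2 : t * (t ^ 3 - 1) = 0 := by linear_combination h
  rcases mul_eq_zero.mp h2 with h3 | h3
  · exact absurd h3 ht
  · linear_combination h3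

theorem exists_w : ∃ w : F, w ^ 2 + w + 1 = 0 := by
  have := fin hF
  have := Fintype.ofFinite F
  classical
  have h : ∃ w : F, w ∉ ({0, 1} : Finset F) := by
    by_contra hcon
    push Not at hcon
    have h1 : (Finset.univ : Finset F) ⊆ {0, 1} := fun x _ => hcon x
    have h2 := Finset.card_le_card h1
    have h3 : ({0, 1} : Finset F).card ≤ 2 := Finset.card_le_two
    rw [Finset.card_univ, ← Nat.card_eq_fintype_card, hF] at h2
    omega
  obtain ⟨w, hw⟩ := h
  simp only [Finset.mem_insert, Finset.mem_singleton, not_or] at hw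
  refine ⟨w, ?_⟩
  have h1 := cube hF hw.1
  have h2 : (w - 1) * (w ^ 2 + w + 1) = 0 := by linear_combination h1
  rcases mul_eq_zero.mp h2 with h3 | h3
  · exact absurd (sub_eq_zero.mp h3) hw.2
  · exact h3

/-- an element `c` of the prime field is `s ^ 2 + s` -/
theorem exists_tr {c : F} (h : c ^ 2 + c = 0) : ∃ s : F, s ^ 2 + s = c := by
  have h1 : c * (c + 1) = 0 := by linear_combination h
  rcases mul_eq_zero.mp h1 with h2 | h2
  · exact ⟨0, by rw [h2]; ring⟩
  · obtain ⟨w, hw⟩ := exists_w hF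
    refine ⟨w, ?_⟩
    linear_combination hw - h2

end field

end Cfsg.Agent.Omega.GTwoFour
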