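import Cfsg.Agent.HexRec.OfHexRel
import Cfsg.Agent.Omega.GTwoFour.Law

/-!
# The pair of type `G₂(4)`: root groups with a torus give the relations

`RD`: six root maps `F → G` (`|F| = 4`), the action of the torus and of the two fundamental involutions,
the commuting pairs, the form of the commutators and two relations of `SL₂(4)`.  All structure constants
are then `1` and the relations are those of `G₂(4)`.
-/

set_option autoImplicit false

namespace Cfsg.Agent.Omega.GTwoFour.Id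

open Cfsg.Agent.HexRec Cfsg.Agent.HexRec.OfHexRel Cfsg.Agent.Hex.Defs

variable {F G : Type*} [Field F] [Group G]

/-- root data of type `G₂(4)` -/
structure RD (x1 x2 x3 x4 x5 x6 : F → G) (h : F → F → G) (na nb : G) : Prop where
  card : Nat.card F = 4
  add1 : ∀ s t, x1 (s + t) = x1 s * x1 t
  add2 : ∀ s t, x2 (s + t) = x2 s * x2 t
  add3 : ∀ s t, x3 (s + t) = x3 s * x3 t
  add4 : ∀ s t, x4 (s + t) = x4 s * x4 t
  add5 : ∀ s t, x5 (s + t) = x5 s * x5 t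
  add6 : ∀ s t, x6 (s + t) = x6 s * x6 t
  t1 : ∀ s t, s ≠ 0 → t ≠ 0 → ∀ a, h s t * x1 a = x1 (s * a) * h s t
  t2 : ∀ s t, s ≠ 0 → t ≠ 0 → ∀ a, h s t * x2 a = x2 (t * a) * h s t
  t3 : ∀ s t, s ≠ 0 → t ≠ 0 → ∀ a, h s t * x3 a = x3 (s⁻¹ * t * a) * h s t
  t4 : ∀ s t, s ≠ 0 → t ≠ 0 → ∀ a, h s t * x4 a = x4 (t⁻¹ * a) * h s t
  t5 : ∀ s t, s ≠ 0 → t ≠ 0 → ∀ a, h s t * x5 a = x5 (s * t * a) * h s t
  t6 : ∀ s t, s ≠ 0 → t ≠ 0 → ∀ a, h s t * x6 a = x6 (t * a) * h s t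
  na2 : na * na = 1
  nb2 : nb * nb = 1
  a2 : ∀ a, na * x2 a * na = x6 a
  a3 : ∀ a, na * x3 a * na = x5 a
  a4 : ∀ a, na * x4 a * na = x4 a
  b1 : ∀ a, nb * x1 a * nb = x5 a
  b2 : ∀ a, nb * x2 a * nb = x4 a
  b3 : ∀ a, nb * x3 a * nb = x3 a
  ra : na * x1 1 * na = x1 1 * na * x1 1
  rb : nb * x6 1 * nb = x6 1 * nb * x6 1
  r21 : ∀ t a, x2 t * x1 a = x1 a * x2 t
  r41 : ∀ t a, x4 t * x1 a = x1 a * x4 t
  r32 : ∀ b t, x3 b * x2 t = x2 t * x3 b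
  r42 : ∀ b t, x4 b * x2 t = x2 t * x4 b
  r52 : ∀ b t, x5 b * x2 t = x2 t * x5 b
  r43 : ∀ b t, x4 b * x3 t = x3 t * x4 b
  r63 : ∀ b t, x6 b * x3 t = x3 t * x6 b
  r54 : ∀ b t, x5 b * x4 t = x4 t * x5 b
  r64 : ∀ b t, x6 b * x4 t = x4 t * x6 b
  r65 : ∀ b t, x6 b * x5 t = x5 t * x6 b
  e31 : ∃ u, x3 1 * x1 1 = x1 1 * (x2 u * x3 1)
  e51 : ∃ u v w, x5 1 * x1 1 = x1 1 * (x2 u * (x3 v * (x4 w * x5 1)))
  e61 : ∃ u v w y, x6 1 * x1 1 = x1 1 * (x2 u * (x3 v * (x4 w * (x5 y * x6 1))))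
  e62 : ∀ a, ∃ w, x6 1 * x2 a = x2 a * (x4 w * x6 1)
  e53 : ∃ w, x5 1 * x3 1 = x3 1 * (x4 w * x5 1)
  inj : Function.Injective (PosRel.pm x1 x2 x3 x4 x5 x6)

namespace RD

variable {x1 x2 x3 x4 x5 x6 : F → G} {h : F → F → G} {na nb : G}

section

variable (D : RD x1 x2 x3 x4 x5 x6 h na nb)
include D

theorem z1 : x1 0 = 1 := left_eq_mul.1 (by rw [← D.add1, add_zero] : x1 0 = x1 0 * x1 0)
theorem z2 : x2 0 = 1 := left_eq_mul.1 (by rw [← D.add2, add_zero] : x2 0 = x2 0 * x2 0)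
theorem z3 : x3 0 = 1 := left_eq_mul.1 (by rw [← D.add3, add_zero] : x3 0 = x3 0 * x3 0)
theorem z4 : x4 0 = 1 := left_eq_mul.1 (by rw [← D.add4, add_zero] : x4 0 = x4 0 * x4 0)
theorem z5 : x5 0 = 1 := left_eq_mul.1 (by rw [← D.add5, add_zero] : x5 0 = x5 0 * x5 0)
theorem z6 : x6 0 = 1 := left_eq_mul.1 (by rw [← D.add6, add_zero] : x6 0 = x6 0 * x6 0)

theorem inj6 {a1 a2 a3 a4 a5 a6 b1 b2 b3 b4 b5 b6 : F}
    (e : x1 a1 * (x2 a2 * (x3 a3 * (x4 a4 * (x5 a5 * x6 a6)))) =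
      x1 b1 * (x2 b2 * (x3 b3 * (x4 b4 * (x5 b5 * x6 b6))))) :
    a1 = b1 ∧ a2 = b2 ∧ a3 = b3 ∧ a4 = b4 ∧ a5 = b5 ∧ a6 = b6 := by
  have h1 := @D.inj ⟨a1, a2, a3, a4, a5, a6⟩ ⟨b1, b2, b3, b4, b5, b6⟩ e
  simpa only [Tup.mk.injEq] using h1

theorem sq1 (a : F) : x1 a * x1 a = 1 := by rw [← D.add1, addself D.card, D.z1]
theorem sq4 (a : F) : x4 a * x4 a = 1 := by rw [← D.add4, addself D.card, D.z4]
theorem sq6 (a : F) : x6 a * x6 a = 1 := by rw [← D.add6, addself D.card, D.z6]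

/-! ### the structure constants are monomials -/

theorem f31 {k : F} (hk : x3 1 * x1 1 = x1 1 * (x2 k * x3 1)) (b a : F) :
    x3 b * x1 a = x1 a * (x2 (k * (a * b)) * x3 b) := by
  by_cases ha : a = 0
  · subst ha; simp [D.z1, D.z2]
  by_cases hb : b = 0
  · subst hb; simp [D.z3, D.z2]
  have hs : a * b ≠ 0 := mul_ne_zero ha hb
  have e := congrArg (fun z => h a (a * b) * z * (h a (a * b))⁻¹) hk
  have e1 : h a (a * b) * (x3 1 * x1 1) * (h a (a * b))⁻¹ = x3 b * x1 a := by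
    rw [← mul_assoc, D.t3 _ _ ha hs, mul_assoc (x3 _), D.t1 _ _ ha hs, mul_one, mul_one, ← mul_assoc,
      mul_inv_cancel_right]
    congr 2
    field_simp
  have e2 : h a (a * b) * (x1 1 * (x2 k * x3 1)) * (h a (a * b))⁻¹ =
      x1 a * (x2 (k * (a * b)) * x3 b) := by
    rw [← mul_assoc, D.t1 _ _ ha hs, mul_assoc (x1 _), ← mul_assoc (h _ _), D.t2 _ _ ha hs,
      mul_assoc (x2 _), D.t3 _ _ ha hs, mul_one, mul_one, ← mul_assoc, ← mul_assoc, mul_inv_cancel_right,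
      mul_assoc]
    congr 3
    · ring
    · field_simp
  exact e1.symm.trans (e.trans e2)

theorem f53 {g : F} (hg : x5 1 * x3 1 = x3 1 * (x4 g * x5 1)) (b a : F) :
    x5 b * x3 a = x3 a * (x4 (g * (a * b)) * x5 b) := by
  by_cases ha : a = 0
  · subst ha; simp [D.z3, D.z4]
  by_cases hb : b = 0
  · subst hb; simp [D.z5, D.z4]
  have h3a := cube D.card ha
  have h3b := cube D.card hb
  have hs : a * b ^ 2 ≠ 0 := mul_ne_zero ha (pow_ne_zero 2 hb)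
  have ht : (a * b) ^ 2 ≠ 0 := pow_ne_zero 2 (mul_ne_zero ha hb)
  have q5 : a * b ^ 2 * (a * b) ^ 2 * 1 = b := by linear_combination b * h3a * b ^ 3 + b * h3b
  have q3 : (a * b ^ 2)⁻¹ * (a * b) ^ 2 * 1 = a := by field_simp
  have q4 : ((a * b) ^ 2)⁻¹ * g = g * (a * b) := by
    rw [inv_mul_eq_iff_eq_mul₀ ht]
    linear_combination -g * (h3a * b ^ 3 + h3b)
  have e := congrArg (fun z => h (a * b ^ 2) ((a * b) ^ 2) * z * (h (a * b ^ 2) ((a * b) ^ 2))⁻¹) hg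
  have e1 : h (a * b ^ 2) ((a * b) ^ 2) * (x5 1 * x3 1) * (h (a * b ^ 2) ((a * b) ^ 2))⁻¹ = x5 b * x3 a := by
    rw [← mul_assoc, D.t5 _ _ hs ht, mul_assoc (x5 _), D.t3 _ _ hs ht, ← mul_assoc,
      mul_inv_cancel_right, q5, q3]
  have e2 : h (a * b ^ 2) ((a * b) ^ 2) * (x3 1 * (x4 g * x5 1)) * (h (a * b ^ 2) ((a * b) ^ 2))⁻¹ =
      x3 a * (x4 (g * (a * b)) * x5 b) := by
    rw [← mul_assoc, D.t3 _ _ hs ht, mul_assoc (x3 _), ← mul_assoc (h _ _), D.t4 _ _ hs ht,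
      mul_assoc (x4 _), D.t5 _ _ hs ht, ← mul_assoc, ← mul_assoc, mul_inv_cancel_right,
      mul_assoc, q3, q4, q5]
  exact e1.symm.trans (e.trans e2)

theorem f51 {d2 d3 d4 : F} (hd : x5 1 * x1 1 = x1 1 * (x2 d2 * (x3 d3 * (x4 d4 * x5 1)))) (b a : F) :
    x5 b * x1 a = x1 a * (x2 (d2 * (a ^ 2 * b)) * (x3 (d3 * (a * b)) * (x4 (d4 * (a * b ^ 2)) * x5 b))) := by
  by_cases ha : a = 0
  · subst ha; simp [D.z1, D.z2, D.z3, D.z4]
  by_cases hb : b = 0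
  · subst hb; simp [D.z5, D.z2, D.z3, D.z4]
  have h3a := cube D.card ha
  have h3b := cube D.card hb
  have ht : a ^ 2 * b ≠ 0 := mul_ne_zero (pow_ne_zero 2 ha) hb
  have q5 : a * (a ^ 2 * b) * 1 = b := by linear_combination b * h3a
  have q1 : a * 1 = a := mul_one a
  have q2 : a ^ 2 * b * d2 = d2 * (a ^ 2 * b) := mul_comm _ _
  have q3 : a⁻¹ * (a ^ 2 * b) * d3 = d3 * (a * b) := by field_simp
  have q4 : (a ^ 2 * b)⁻¹ * d4 = d4 * (a * b ^ 2) := by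
    rw [inv_mul_eq_iff_eq_mul₀ ht]
    linear_combination -d4 * (h3a * b ^ 3 + h3b)
  have e := congrArg (fun z => h a (a ^ 2 * b) * z * (h a (a ^ 2 * b))⁻¹) hd
  have e1 : h a (a ^ 2 * b) * (x5 1 * x1 1) * (h a (a ^ 2 * b))⁻¹ = x5 b * x1 a := by
    rw [← mul_assoc, D.t5 _ _ ha ht, mul_assoc (x5 _), D.t1 _ _ ha ht, ← mul_assoc,
      mul_inv_cancel_right, q5, q1]
  have e2 : h a (a ^ 2 * b) * (x1 1 * (x2 d2 * (x3 d3 * (x4 d4 * x5 1)))) * (h a (a ^ 2 * b))⁻¹ =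
      x1 a * (x2 (d2 * (a ^ 2 * b)) * (x3 (d3 * (a * b)) * (x4 (d4 * (a * b ^ 2)) * x5 b))) := by
    rw [← mul_assoc, D.t1 _ _ ha ht, mul_assoc (x1 _), ← mul_assoc (h _ _), D.t2 _ _ ha ht,
      mul_assoc (x2 _), ← mul_assoc (h _ _), D.t3 _ _ ha ht, mul_assoc (x3 _), ← mul_assoc (h _ _),
      D.t4 _ _ ha ht, mul_assoc (x4 _), D.t5 _ _ ha ht, q1, q2, q3, q4, q5]
    group
  exact e1.symm.trans (e.trans e2)

theorem f61 {c2 c3 c4 c5 : F}
    (hc : x6 1 * x1 1 = x1 1 * (x2 c2 * (x3 c3 * (x4 c4 * (x5 c5 * x6 1))))) (b a : F) :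
    x6 b * x1 a = x1 a * (x2 (c2 * (b * a ^ 3)) * (x3 (c3 * (b * a ^ 2)) * (x4 (c4 * (b ^ 2 * a ^ 3)) *
      (x5 (c5 * (b * a)) * x6 b)))) := by
  by_cases ha : a = 0
  · subst ha; simp [D.z1, D.z2, D.z3, D.z4, D.z5]
  by_cases hb : b = 0
  · subst hb; simp [D.z6, D.z5, D.z2, D.z3, D.z4]
  have h3a := cube D.card ha
  have h3b := cube D.card hb
  have q1 : a * 1 = a := mul_one a
  have q2 : b * c2 = c2 * (b * a ^ 3) := by linear_combination -c2 * b * h3a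
  have q3 : a⁻¹ * b * c3 = c3 * (b * a ^ 2) := by
    field_simp
    linear_combination -c3 * h3a
  have q4 : b⁻¹ * c4 = c4 * (b ^ 2 * a ^ 3) := by
    rw [inv_mul_eq_iff_eq_mul₀ hb]
    linear_combination -c4 * (h3a * b ^ 3 + h3b)
  have q5 : a * b * c5 = c5 * (b * a) := by ring
  have q6 : b * 1 = b := mul_one b
  have e := congrArg (fun z => h a b * z * (h a b)⁻¹) hc
  have e1 : h a b * (x6 1 * x1 1) * (h a b)⁻¹ = x6 b * x1 a := by
    rw [← mul_assoc, D.t6 _ _ ha hb, mul_assoc (x6 _), D.t1 _ _ ha hb, ← mul_assoc,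
      mul_inv_cancel_right, q6, q1]
  have e2 : h a b * (x1 1 * (x2 c2 * (x3 c3 * (x4 c4 * (x5 c5 * x6 1))))) * (h a b)⁻¹ =
      x1 a * (x2 (c2 * (b * a ^ 3)) * (x3 (c3 * (b * a ^ 2)) * (x4 (c4 * (b ^ 2 * a ^ 3)) *
      (x5 (c5 * (b * a)) * x6 b)))) := by
    rw [← mul_assoc, D.t1 _ _ ha hb, mul_assoc (x1 _), ← mul_assoc (h _ _), D.t2 _ _ ha hb,
      mul_assoc (x2 _), ← mul_assoc (h _ _), D.t3 _ _ ha hb, mul_assoc (x3 _), ← mul_assoc (h _ _),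
      D.t4 _ _ ha hb, mul_assoc (x4 _), ← mul_assoc (h _ _), D.t5 _ _ ha hb, mul_assoc (x5 _),
      D.t6 _ _ ha hb, q1, q2, q3, q4, q5, q6]
    group
  exact e1.symm.trans (e.trans e2)

theorem f62 (b a : F) : x6 b * x2 a = x2 a * (x4 (b * a) * x6 b) := by
  -- first for `b = 1`
  have key : ∀ u, x6 1 * x2 u = x2 u * (x4 u * x6 1) := by
    intro u
    obtain ⟨w, hw⟩ := D.e62 u
    have e : (nb * x6 1 * nb) * x4 u * (nb * x6 1 * nb) = (x6 1 * nb * x6 1) * x4 u * (x6 1 * nb * x6 1) := by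
      rw [D.rb]
    have hb2 : ∀ a, nb * x4 a * nb = x2 a := fun a => by
      rw [← D.b2 a]
      calc nb * (nb * x2 a * nb) * nb = (nb * nb) * x2 a * (nb * nb) := by group
        _ = _ := by rw [D.nb2, one_mul, mul_one]
    have e1 : (nb * x6 1 * nb) * x4 u * (nb * x6 1 * nb) = x4 u * x2 w := by
      calc (nb * x6 1 * nb) * x4 u * (nb * x6 1 * nb) = nb * (x6 1 * (nb * x4 u * nb) * x6 1) * nb := by group
        _ = nb * (x2 u * x4 w * (x6 1 * x6 1)) * nb := by rw [hb2, hw]; group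
        _ = (nb * x2 u * nb) * (nb⁻¹ * x4 w * nb) := by rw [D.sq6]; group
        _ = (nb * x2 u * nb) * (nb * x4 w * nb) := by rw [inv_eq_of_mul_eq_one_right D.nb2]
        _ = x4 u * x2 w := by rw [hb2, D.b2]
    have e2 : (x6 1 * nb * x6 1) * x4 u * (x6 1 * nb * x6 1) = x2 u * x4 w := by
      calc (x6 1 * nb * x6 1) * x4 u * (x6 1 * nb * x6 1)
          = x6 1 * nb * (x6 1 * x4 u) * x6 1 * nb * x6 1 := by group
        _ = x6 1 * nb * x4 u * (x6 1 * x6 1) * nb * x6 1 := by rw [D.r64]; group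
        _ = x6 1 * (nb * x4 u * nb) * x6 1 := by rw [D.sq6]; group
        _ = x2 u * x4 w * (x6 1 * x6 1) := by rw [hb2, hw]; group
        _ = _ := by rw [D.sq6, mul_one]
    rw [e1, e2] at e
    have e3 : x1 0 * (x2 w * (x3 0 * (x4 u * (x5 0 * x6 0)))) =
        x1 0 * (x2 u * (x3 0 * (x4 w * (x5 0 * x6 0)))) := by
      rw [D.z1, D.z3, D.z5, D.z6]
      simp only [one_mul, mul_one]
      rw [← D.r42, e]
    obtain ⟨-, h2, -⟩ := D.inj6 e3
    rw [h2] at hw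
    exact hw
  by_cases hb : b = 0
  · subst hb; simp [D.z6, D.z4]
  have h3b := cube D.card hb
  have q4 : b⁻¹ * (b⁻¹ * a) = b * a := by
    field_simp
    linear_combination -a * h3b
  have q2 : b * (b⁻¹ * a) = a := by field_simp
  have q6 : b * 1 = b := mul_one b
  have e := congrArg (fun z => h 1 b * z * (h 1 b)⁻¹) (key (b⁻¹ * a))
  have e1 : h 1 b * (x6 1 * x2 (b⁻¹ * a)) * (h 1 b)⁻¹ = x6 b * x2 a := by
    rw [← mul_assoc, D.t6 _ _ one_ne_zero hb, mul_assoc (x6 _), D.t2 _ _ one_ne_zero hb, ← mul_assoc,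
      mul_inv_cancel_right, q6, q2]
  have e2 : h 1 b * (x2 (b⁻¹ * a) * (x4 (b⁻¹ * a) * x6 1)) * (h 1 b)⁻¹ =
      x2 a * (x4 (b * a) * x6 b) := by
    rw [← mul_assoc, D.t2 _ _ one_ne_zero hb, mul_assoc (x2 _), ← mul_assoc (h _ _),
      D.t4 _ _ one_ne_zero hb, mul_assoc (x4 _), D.t6 _ _ one_ne_zero hb, q2, q4, q6]
    group
  exact e1.symm.trans (e.trans e2)

/-- all structure constants are `1` -/
theorem consts {k g d2 d3 d4 c2 c3 c4 c5 : F} (hk : x3 1 * x1 1 = x1 1 * (x2 k * x3 1))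
    (hg : x5 1 * x3 1 = x3 1 * (x4 g * x5 1))
    (hd : x5 1 * x1 1 = x1 1 * (x2 d2 * (x3 d3 * (x4 d4 * x5 1))))
    (hc : x6 1 * x1 1 = x1 1 * (x2 c2 * (x3 c3 * (x4 c4 * (x5 c5 * x6 1))))) :
    k = 1 ∧ g = 1 ∧ d2 = 1 ∧ d3 = 0 ∧ d4 = 1 ∧ c2 = 1 ∧ c3 = 1 ∧ c4 = 1 ∧ c5 = 1 := by
  have s1 : ∀ s t w, x1 s * (x1 t * w) = x1 (s + t) * w := fun s t w => by rw [D.add1, mul_assoc]
  have s2 : ∀ s t w, x2 s * (x2 t * w) = x2 (s + t) * w := fun s t w => by rw [D.add2, mul_assoc]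
  have s3 : ∀ s t w, x3 s * (x3 t * w) = x3 (s + t) * w := fun s t w => by rw [D.add3, mul_assoc]
  have s4 : ∀ s t w, x4 s * (x4 t * w) = x4 (s + t) * w := fun s t w => by rw [D.add4, mul_assoc]
  have s5 : ∀ s t w, x5 s * (x5 t * w) = x5 (s + t) * w := fun s t w => by rw [D.add5, mul_assoc]
  have s6 : ∀ s t w, x6 s * (x6 t * w) = x6 (s + t) * w := fun s t w => by rw [D.add6, mul_assoc]
  have r21 : ∀ t a w, x2 t * (x1 a * w) = x1 a * (x2 t * w) := fun t a w => by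
    rw [← mul_assoc, D.r21, mul_assoc]
  have r31 : ∀ b a w, x3 b * (x1 a * w) = x1 a * (x2 (k * (a * b)) * (x3 b * w)) := fun b a w => by
    rw [← mul_assoc, D.f31 hk]; simp only [mul_assoc]
  have r41 : ∀ t a w, x4 t * (x1 a * w) = x1 a * (x4 t * w) := fun t a w => by
    rw [← mul_assoc, D.r41, mul_assoc]
  have r51 : ∀ b a w, x5 b * (x1 a * w) = x1 a * (x2 (d2 * (a ^ 2 * b)) * (x3 (d3 * (a * b)) *
      (x4 (d4 * (a * b ^ 2)) * (x5 b * w)))) := fun b a w => by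
    rw [← mul_assoc, D.f51 hd]; simp only [mul_assoc]
  have r61 : ∀ b a w, x6 b * (x1 a * w) = x1 a * (x2 (c2 * (b * a ^ 3)) * (x3 (c3 * (b * a ^ 2)) *
      (x4 (c4 * (b ^ 2 * a ^ 3)) * (x5 (c5 * (b * a)) * (x6 b * w))))) := fun b a w => by
    rw [← mul_assoc, D.f61 hc]; simp only [mul_assoc]
  have r32 : ∀ b t w, x3 b * (x2 t * w) = x2 t * (x3 b * w) := fun b t w => by
    rw [← mul_assoc, D.r32, mul_assoc]
  have r42 : ∀ b t w, x4 b * (x2 t * w) = x2 t * (x4 b * w) := fun b t w => by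
    rw [← mul_assoc, D.r42, mul_assoc]
  have r52 : ∀ b t w, x5 b * (x2 t * w) = x2 t * (x5 b * w) := fun b t w => by
    rw [← mul_assoc, D.r52, mul_assoc]
  have r62 : ∀ b t w, x6 b * (x2 t * w) = x2 t * (x4 (b * t) * (x6 b * w)) := fun b t w => by
    rw [← mul_assoc, D.f62]; simp only [mul_assoc]
  have r43 : ∀ b t w, x4 b * (x3 t * w) = x3 t * (x4 b * w) := fun b t w => by
    rw [← mul_assoc, D.r43, mul_assoc]
  have r53 : ∀ b t w, x5 b * (x3 t * w) = x3 t * (x4 (g * (t * b)) * (x5 b * w)) := fun b t w => by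
    rw [← mul_assoc, D.f53 hg]; simp only [mul_assoc]
  have r63 : ∀ b t w, x6 b * (x3 t * w) = x3 t * (x6 b * w) := fun b t w => by
    rw [← mul_assoc, D.r63, mul_assoc]
  have r54 : ∀ b t w, x5 b * (x4 t * w) = x4 t * (x5 b * w) := fun b t w => by
    rw [← mul_assoc, D.r54, mul_assoc]
  have r64 : ∀ b t w, x6 b * (x4 t * w) = x4 t * (x6 b * w) := fun b t w => by
    rw [← mul_assoc, D.r64, mul_assoc]
  have r65 : ∀ b t w, x6 b * (x5 t * w) = x5 t * (x6 b * w) := fun b t w => by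
    rw [← mul_assoc, D.r65, mul_assoc]
  have hna : na⁻¹ = na := inv_eq_of_mul_eq_one_right D.na2
  have hnb : nb⁻¹ = nb := inv_eq_of_mul_eq_one_right D.nb2
  have b5 : ∀ a, nb * x5 a * nb = x1 a := fun a => by
    rw [← D.b1 a]
    calc nb * (nb * x1 a * nb) * nb = (nb * nb) * x1 a * (nb * nb) := by group
      _ = _ := by rw [D.nb2, one_mul, mul_one]
  have a6 : ∀ a, na * x6 a * na = x2 a := fun a => by
    rw [← D.a2 a]
    calc na * (na * x2 a * na) * na = (na * na) * x2 a * (na * na) := by group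
      _ = _ := by rw [D.na2, one_mul, mul_one]
  have a5 : ∀ a, na * x5 a * na = x3 a := fun a => by
    rw [← D.a3 a]
    calc na * (na * x3 a * na) * na = (na * na) * x3 a * (na * na) := by group
      _ = _ := by rw [D.na2, one_mul, mul_one]
  have b4 : ∀ a, nb * x4 a * nb = x2 a := fun a => by
    rw [← D.b2 a]
    calc nb * (nb * x2 a * nb) * nb = (nb * nb) * x2 a * (nb * nb) := by group
      _ = _ := by rw [D.nb2, one_mul, mul_one]
  have cb : ∀ y z : G, nb * (y * z) * nb = (nb * y * nb) * (nb * z * nb) := fun y z => by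
    calc nb * (y * z) * nb = nb * y * nb⁻¹⁻¹ * (nb⁻¹ * z * nb) := by group
      _ = _ := by rw [inv_inv, hnb]
  have ca : ∀ y z : G, na * (y * z) * na = (na * y * na) * (na * z * na) := fun y z => by
    calc na * (y * z) * na = na * y * na⁻¹⁻¹ * (na⁻¹ * z * na) := by group
      _ = _ := by rw [inv_inv, hna]
  -- the conjugates of `x6 1` and `x1 1`
  have q1 : x6 1 * x1 1 * x6 1 = x1 1 * (x2 c2 * (x3 c3 * (x4 c4 * x5 c5))) := by
    rw [hc]
    calc x1 1 * (x2 c2 * (x3 c3 * (x4 c4 * (x5 c5 * x6 1)))) * x6 1 =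
        x1 1 * (x2 c2 * (x3 c3 * (x4 c4 * (x5 c5 * (x6 1 * x6 1))))) := by group
      _ = _ := by rw [D.sq6, mul_one]
  have q2 : x1 1 * x6 1 * x1 1 = x2 c2 * (x3 c3 * (x4 c4 * (x5 c5 * x6 1))) := by
    rw [mul_assoc, hc, ← mul_assoc, D.sq1, one_mul]
  -- (rb) on `x5 1`
  have eA : x5 1 * (x4 c2 * (x3 c3 * (x2 c4 * (x1 c5 * x6 0)))) =
      x1 1 * (x2 c2 * (x3 c3 * (x4 c4 * (x5 c5 * x6 0)))) := by
    have e : (nb * x6 1 * nb) * x5 1 * (nb * x6 1 * nb) = (x6 1 * nb * x6 1) * x5 1 * (x6 1 * nb * x6 1) := by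
      rw [D.rb]
    have e1 : (nb * x6 1 * nb) * x5 1 * (nb * x6 1 * nb) =
        x5 1 * (x4 c2 * (x3 c3 * (x2 c4 * x1 c5))) := by
      calc (nb * x6 1 * nb) * x5 1 * (nb * x6 1 * nb) = nb * (x6 1 * (nb * x5 1 * nb) * x6 1) * nb := by
            group
        _ = _ := by rw [b5, q1, cb, cb, cb, cb, D.b1, D.b2, D.b3, b4, b5]
    have e2 : (x6 1 * nb * x6 1) * x5 1 * (x6 1 * nb * x6 1) = x1 1 * (x2 c2 * (x3 c3 * (x4 c4 * x5 c5))) := by
      calc (x6 1 * nb * x6 1) * x5 1 * (x6 1 * nb * x6 1)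
          = x6 1 * nb * (x6 1 * x5 1) * x6 1 * nb * x6 1 := by group
        _ = x6 1 * nb * x5 1 * (x6 1 * x6 1) * nb * x6 1 := by rw [D.r65]; group
        _ = x6 1 * (nb * x5 1 * nb) * x6 1 := by rw [D.sq6]; group
        _ = _ := by rw [b5, q1]
    rw [D.z6, mul_one, mul_one, ← e1, ← e2, e]
  -- (ra) on `x2 1`
  have eB : x6 c2 * (x5 c3 * (x4 c4 * (x3 c5 * (x2 1 * x6 0)))) =
      x2 c2 * (x3 c3 * (x4 c4 * (x5 c5 * x6 1))) := by
    have e : (na * x1 1 * na) * x2 1 * (na * x1 1 * na) = (x1 1 * na * x1 1) * x2 1 * (x1 1 * na * x1 1) := by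
      rw [D.ra]
    have e1 : (na * x1 1 * na) * x2 1 * (na * x1 1 * na) =
        x6 c2 * (x5 c3 * (x4 c4 * (x3 c5 * x2 1))) := by
      calc (na * x1 1 * na) * x2 1 * (na * x1 1 * na) = na * (x1 1 * (na * x2 1 * na) * x1 1) * na := by
            group
        _ = _ := by rw [D.a2, q2, ca, ca, ca, ca, D.a2, D.a3, D.a4, a5, a6]
    have e2 : (x1 1 * na * x1 1) * x2 1 * (x1 1 * na * x1 1) = x2 c2 * (x3 c3 * (x4 c4 * (x5 c5 * x6 1))) := by
      calc (x1 1 * na * x1 1) * x2 1 * (x1 1 * na * x1 1)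
          = x1 1 * na * x1 1 * (x2 1 * x1 1) * na * x1 1 := by group
        _ = x1 1 * na * (x1 1 * x1 1) * x2 1 * na * x1 1 := by rw [D.r21]; group
        _ = x1 1 * (na * x2 1 * na) * x1 1 := by rw [D.sq1]; group
        _ = _ := by rw [D.a2, q2]
    rw [D.z6, mul_one, ← e1, ← e2, e]
  -- `k = g`
  have eC : x3 1 * x5 1 = x5 1 * (x4 k * x3 1) := by
    have e := congrArg (fun z => nb * z * nb) hk
    have e' : nb * (x3 1 * x1 1) * nb = nb * (x1 1 * (x2 k * x3 1)) * nb := e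
    rwa [cb, cb, cb, D.b3, D.b1, D.b2] at e'
  have hkg : k = g := by
    have e : x1 0 * (x2 0 * (x3 1 * (x4 0 * (x5 1 * x6 0)))) =
        x1 0 * (x2 0 * (x3 1 * (x4 (k + g) * (x5 1 * x6 0)))) := by
      rw [D.z1, D.z2, D.z4, D.z6, mul_one, one_mul, one_mul, one_mul, one_mul, one_mul, eC]
      rw [← mul_assoc, D.r54, mul_assoc, hg, ← mul_assoc, D.r43, mul_assoc, ← mul_assoc (x4 k), ← D.add4]
    obtain ⟨-, -, -, h4, -⟩ := D.inj6 e
    exact eqadd D.card h4.symm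
  -- `x1 1` is an involution
  have eE : x2 c2 * (x3 c3 * (x4 c4 * (x5 c5 * (x6 1 * (x1 1 * x6 0))))) = x1 1 * x6 1 := by
    rw [D.z6, mul_one]
    calc x2 c2 * (x3 c3 * (x4 c4 * (x5 c5 * (x6 1 * x1 1)))) =
        x2 c2 * (x3 c3 * (x4 c4 * (x5 c5 * x6 1))) * x1 1 := by group
      _ = x1 1 * x6 1 * (x1 1 * x1 1) := by rw [← q2]; group
      _ = _ := by rw [D.sq1, mul_one]
  simp only [r54, r43, r42, r32, r21, r31, r41, r51, r61, r52, r62, r53, r63, r64, r65, s2, s3, s4, s5,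
    mul_assoc] at eA eB eE
  have two := two D.card
  obtain ⟨h1, h2, h3, h4, h5, -⟩ := D.inj6 eA
  have eB' := congrArg (fun z => x1 0 * z) eB
  have eE' : x1 1 * x6 1 = x1 1 * (x2 0 * (x3 0 * (x4 0 * (x5 0 * x6 1)))) := by
    rw [D.z2, D.z3, D.z4, D.z5, one_mul, one_mul, one_mul, one_mul]
  rw [eE'] at eE
  simp only [← D.add6] at eB' eE
  obtain ⟨-, g2, g3, g4, g5, g6⟩ := D.inj6 eB'
  obtain ⟨-, i2, i3, i4, i5, i6⟩ := D.inj6 eE
  clear eA eB eE eB' eE' s1 s2 s3 s4 s5 s6 r21 r31 r41 r51 r61 r32 r42 r52 r62 r43 r53 r63 r54 r64 r65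
  clear a5 a6 b4 b5 ca cb q1 q2 hna hnb hk hg hd hc eC
  subst h1
  subst g3
  subst hkg
  have hc2 : c2 = 1 := by linear_combination -g2
  subst hc2
  have hk1 : k = 1 := by linear_combination g4 - two
  subst hk1
  have hd3 : d3 = 0 := by linear_combination h3
  have hd2 : d2 = 1 := by linear_combination i2 - two * (1 + 1 - 0)
  subst hd2
  have hc4 : c4 = 1 := by linear_combination h2 - two
  subst hc4
  have hd4 : d4 = 1 := by linear_combination h4 - two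
  exact ⟨rfl, rfl, rfl, hd3, hd4, rfl, rfl, rfl, rfl⟩

/-- **the relations of the unipotent group of `G₂(4)`** -/
theorem posRel : PosRel (OfPair.cubic (OfPair.pair_one (two D.card) : CubicPair (AlgEquiv.refl : F ≃ₐ[F] F)))
    x1 x2 x3 x4 x5 x6 := by
  obtain ⟨k, hk⟩ := D.e31
  obtain ⟨d2, d3, d4, hd⟩ := D.e51
  obtain ⟨c2, c3, c4, c5, hc⟩ := D.e61
  obtain ⟨g, hg⟩ := D.e53
  obtain ⟨rfl, rfl, rfl, rfl, rfl, rfl, rfl, rfl, rfl⟩ := D.consts hk hg hd hc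
  have tw := two D.card
  set C := OfPair.cubic (OfPair.pair_one (two D.card) : CubicPair (AlgEquiv.refl : F ≃ₐ[F] F)) with hC
  have hT : ∀ a b, C.T a b = a * b := by
    intro a b
    rw [hC, OfPair.cubic_T]
    have := algebraMap_tr (OfPair.pair_one (two D.card) : CubicPair (AlgEquiv.refl : F ≃ₐ[F] F)) (a * b)
    rw [Algebra.algebraMap_self, RingHom.id_apply] at this
    rw [this]
    change a * b + a * b + a * b = a * b
    linear_combination a * b * tw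
  have hs : ∀ a, C.sh a = a ^ 2 := by
    intro a
    rw [hC, OfPair.cubic_sh]
    change a * a = a ^ 2
    ring
  have hN : ∀ a, C.N a = a ^ 3 := by
    intro a
    have := C.N_map a
    rw [Algebra.algebraMap_self, RingHom.id_apply, hs] at this
    rw [this]; ring
  have hcr : ∀ a b, C.cr a b = 0 := by
    intro a b
    unfold Cubic.cr
    rw [hs, hs, hs]
    linear_combination (a ^ 2 + b ^ 2 + a * b) * tw
  refine ⟨D.add1, D.add2, D.add3, D.add4, D.add5, D.add6, D.r21, fun b a => ?_, D.r41, fun b a => ?_,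
    fun t a => ?_, D.r32, D.r42, D.r52, D.f62, D.r43, fun b t => ?_, D.r63, D.r54, D.r64, D.r65⟩
  · rw [D.f31 hk, hT, one_mul]
  · rw [D.f51 hd, hT, hs, hcr, hT, hs, one_mul, one_mul, zero_mul]
  · rw [D.f61 hc, hN, hs, smul_eq_mul, smul_eq_mul, one_mul, one_mul, one_mul, one_mul]
  · rw [D.f53 hg, hT, one_mul]

end

end RD

end Cfsg.Agent.Omega.GTwoFour.Id
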