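import Cfsg.Agent.Omega.GTwoFour.IdA

/-!
# The torus of the pair of type `G₂(4)`, II: the four subgroups of order three
-/

set_option autoImplicit false
set_option linter.unusedSectionVars false

namespace Cfsg.Agent.Omega.GTwoFour.Id

open Subgroup
open scoped MatrixGroups

theorem nm_mul {G : Type*} [Group G] {a b : G} {A : Subgroup G} (ha : ∀ x ∈ A, a * x * a⁻¹ ∈ A)
    (hb : ∀ x ∈ A, b * x * b⁻¹ ∈ A) : ∀ x ∈ A, a * b * x * (a * b)⁻¹ ∈ A := by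
  intro x hx
  have e : a * b * x * (a * b)⁻¹ = a * (b * x * b⁻¹) * a⁻¹ := by group
  rw [e]
  exact ha _ (hb _ hx)

theorem nm_inv {G : Type*} [Group G] {h : G} (h3 : h * h * h = 1) {A : Subgroup G}
    (hA : ∀ x ∈ A, h * x * h⁻¹ ∈ A) : ∀ x ∈ A, h⁻¹ * x * h⁻¹⁻¹ ∈ A := by
  intro x hx
  rw [inv_inv]
  exact inv_conj h3 hA hx

theorem nm_self {G : Type*} [Group G] {h : G} {A : Subgroup G} (hA : h ∈ A) : ∀ x ∈ A, h * x * h⁻¹ ∈ A :=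
  fun _ hx => A.mul_mem (A.mul_mem hA hx) (A.inv_mem hA)

theorem inv_three {G : Type*} [Group G] {h : G} (h3 : h * h * h = 1) : h⁻¹ * h⁻¹ * h⁻¹ = 1 := by
  calc h⁻¹ * h⁻¹ * h⁻¹ = (h * h * h)⁻¹ := by group
    _ = 1 := by rw [h3, inv_one]

theorem mul_three {G : Type*} [Group G] {g h : G} (g3 : g * g * g = 1) (h3 : h * h * h = 1)
    (hgh : g * h = h * g) : g * h * (g * h) * (g * h) = 1 := by
  have hc : Commute g h := hgh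
  calc g * h * (g * h) * (g * h) = g * (h * g) * (h * g) * h := by group
    _ = g * (g * h) * (g * h) * h := by rw [hgh]
    _ = g * g * (h * g) * h * h := by group
    _ = g * g * (g * h) * h * h := by rw [hgh]
    _ = (g * g * g) * (h * h * h) := by group
    _ = 1 := by rw [g3, h3, one_mul]

theorem comm_inv_right {G : Type*} [Group G] {g h : G} (hgh : g * h = h * g) : g * h⁻¹ = h⁻¹ * g :=
  (Commute.inv_right hgh).eq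

namespace Four

variable {F : Type*} [Field F] {G : Type*} [Group G] [Finite G] {X₁ X₂ U V R W Y D : Subgroup G} {h₁ h₂ : G}

/-- the data for `h₁⁻¹` -/
theorem inv₁ (f : Four F X₁ X₂ U V R W Y D h₁ h₂) : Four F X₁ X₂ U V R W Y D h₁⁻¹ h₂ :=
  { f with
    h₁X := X₁.inv_mem f.h₁X
    h₁ne := inv_ne_one.2 f.h₁ne
    h₁3 := inv_three f.h₁3
    hh := (comm_inv_right f.hh.symm).symm
    h₁X₂ := nm_inv f.h₁3 f.h₁X₂
    h₁U := nm_inv f.h₁3 f.h₁U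
    h₁W := nm_inv f.h₁3 f.h₁W
    h₁R := nm_inv f.h₁3 f.h₁R }

section chart

variable (f : Four F X₁ X₂ U V R W Y D h₁ h₂) {w₁ w₂ : F} {ρ₁ ρ₂ : G → SL(2, F)}
  (c₁ : Ch X₁ Y U h₁ w₁ ρ₁) (c₂ : Ch X₂ W U h₂ w₂ ρ₂)

include f in
theorem h₂R : ∀ x ∈ R, h₂ * x * h₂⁻¹ ∈ R := fun x hx => by rw [f.conj_R f.h₂X hx]; exact hx

include f c₂ in
theorem h₂W : ∀ x ∈ W, h₂ * x * h₂⁻¹ ∈ W := fun _ hx => c₂.nN f.h₂X hx

include f c₁ in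
theorem h₁Y : ∀ x ∈ Y, h₁ * x * h₁⁻¹ ∈ Y := fun _ hx => c₁.nN f.h₁X hx

include f c₁ in
/-- `h₁` centralises `D/V` -/
theorem tr_h₁D : Tr h₁ D V := by
  let K : Subgroup G :=
    { carrier := {x | x ∈ X₁ ∧ ∀ d ∈ D, d⁻¹ * (x * d * x⁻¹) ∈ V}
      one_mem' := ⟨X₁.one_mem, fun d _ => by
        have e : d⁻¹ * (1 * d * (1 : G)⁻¹) = 1 := by group
        rw [e]; exact V.one_mem⟩
      mul_mem' := by
        rintro x y ⟨hx, hx'⟩ ⟨hy, hy'⟩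
        refine ⟨X₁.mul_mem hx hy, fun d hd => ?_⟩
        have e : d⁻¹ * (x * y * d * (x * y)⁻¹) =
            (d⁻¹ * (y * d * y⁻¹)) * ((y * d * y⁻¹)⁻¹ * (x * (y * d * y⁻¹) * x⁻¹)) := by group
        rw [e]
        exact V.mul_mem (hy' d hd) (hx' _ (f.nD y hy d hd))
      inv_mem' := by
        rintro x ⟨hx, hx'⟩
        refine ⟨X₁.inv_mem hx, fun d hd => ?_⟩
        have e : d⁻¹ * (x⁻¹ * d * x⁻¹⁻¹) =
            ((x⁻¹ * d * x⁻¹⁻¹)⁻¹ * (x * (x⁻¹ * d * x⁻¹⁻¹) * x⁻¹))⁻¹ := by group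
        rw [e]
        exact V.inv_mem (hx' _ (f.nD _ (X₁.inv_mem hx) d hd)) }
  have hK : ∀ x, x ∈ K ↔ x ∈ X₁ ∧ ∀ d ∈ D, d⁻¹ * (x * d * x⁻¹) ∈ V := fun x => Iff.rfl
  have hKX : K ≤ X₁ := fun x hx => hx.1
  have hWK : W ≤ K := by
    intro x hx
    refine (hK x).2 ⟨f.UX₁ (f.WU hx), fun d hd => f.RV ?_⟩
    have := f.WW d⁻¹ (W.inv_mem (f.DW hd)) x hx
    have e : d⁻¹ * (x * d * x⁻¹) = d⁻¹ * x * d⁻¹⁻¹ * x⁻¹ := by group
    rwa [e]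
  have hKn : ∀ x ∈ X₁, ∀ k ∈ K, x * k * x⁻¹ ∈ K := by
    rintro x hx k ⟨hk, hk'⟩
    refine (hK _).2 ⟨X₁.mul_mem (X₁.mul_mem hx hk) (X₁.inv_mem hx), fun d hd => ?_⟩
    have h1 := hk' _ (f.nD _ (X₁.inv_mem hx) d hd)
    have h2 := f.nV x hx _ h1
    have e : d⁻¹ * (x * k * x⁻¹ * d * (x * k * x⁻¹)⁻¹) =
        x * ((x⁻¹ * d * x⁻¹⁻¹)⁻¹ * (k * (x⁻¹ * d * x⁻¹⁻¹) * k⁻¹)) * x⁻¹ := by group
    rw [e]; exact h2
  let L : Subgroup G :=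
    { carrier := {x | x ∈ X₁ ∧ ∃ k ∈ K, k⁻¹ * x ∈ Y}
      one_mem' := ⟨X₁.one_mem, 1, K.one_mem, by rw [inv_one, one_mul]; exact Y.one_mem⟩
      mul_mem' := by
        rintro x y ⟨hx, k, hk, hk'⟩ ⟨hy, l, hl, hl'⟩
        refine ⟨X₁.mul_mem hx hy, k * l, K.mul_mem hk hl, ?_⟩
        have e : (k * l)⁻¹ * (x * y) = (l⁻¹ * (k⁻¹ * x) * l⁻¹⁻¹) * (l⁻¹ * y) := by group
        rw [e]
        exact Y.mul_mem (c₁.nN (X₁.inv_mem (hKX hl)) hk') hl'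
      inv_mem' := by
        rintro x ⟨hx, k, hk, hk'⟩
        refine ⟨X₁.inv_mem hx, k⁻¹, K.inv_mem hk, ?_⟩
        have e : k⁻¹⁻¹ * x⁻¹ = (k * (k⁻¹ * x) * k⁻¹)⁻¹ := by group
        rw [e]
        exact Y.inv_mem (c₁.nN (hKX hk) hk') }
  have hL : X₁ ≤ L := by
    refine c₁.le_of_normal ?_ ?_
    · intro u hu
      obtain ⟨a, ha, b, hb, hab⟩ := f.UWY u hu
      exact ⟨f.UX₁ hu, a, hWK ha, by rw [hab, inv_mul_cancel_left]; exact hb⟩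
    · rintro x hx y ⟨hy, k, hk, hk'⟩
      refine ⟨X₁.mul_mem (X₁.mul_mem hx hy) (X₁.inv_mem hx), x * k * x⁻¹, hKn x hx k hk, ?_⟩
      have e : (x * k * x⁻¹)⁻¹ * (x * y * x⁻¹) = x * (k⁻¹ * y) * x⁻¹ := by group
      rw [e]
      exact c₁.nN hx hk'
  obtain ⟨-, k, hk, hy⟩ := hL f.h₁X
  set y := k⁻¹ * h₁ with hyd
  have hyX : y ∈ X₁ := c₁.NX hy
  have hky : h₁ = k * y := by rw [hyd]; group
  have hy3 : y * y * y ∈ K := by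
    have h1 : k * (y * k * y⁻¹) * (y * (y * k * y⁻¹) * y⁻¹) * (y * y * y) = 1 := by
      rw [← f.h₁3, hky]; group
    have h2 := eq_inv_of_mul_eq_one_right h1
    rw [h2]
    exact K.inv_mem (K.mul_mem (K.mul_mem hk (hKn y hyX k hk)) (hKn y hyX _ (hKn y hyX k hk)))
  have hyK : y ∈ K := by
    have h1 : y ^ 1024 = 1 := by
      have := pow_card_eq_one' (x := (⟨y, hy⟩ : Y))
      rw [f.kY] at this
      exact congrArg Subtype.val this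
    have h2 : y = (y * y * y) ^ 683 := by
      have e : y * y * y = y ^ 3 := by rw [pow_succ, pow_two]
      rw [e, ← pow_mul, show 3 * 683 = 1024 * 2 + 1 by norm_num, pow_succ, pow_mul, h1, one_pow, one_mul]
    rw [h2]
    exact K.pow_mem hy3 _
  have h1 : h₁ ∈ K := by rw [hky]; exact K.mul_mem hk hyK
  exact h1.2

include f in
theorem exists_D : ∃ d ∈ D, d ∉ V := by
  by_contra hcon
  push Not at hcon
  have h1 : Nat.card D ≤ Nat.card V := Nat.card_le_card_of_injective _ (inclusion_injective hcon)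
  rw [f.kD, f.kV] at h1
  omega

include f in
theorem exists_WY : ∃ d ∈ W ⊓ Y, d ∉ D := by
  by_contra hcon
  push Not at hcon
  have h1 : Nat.card (W ⊓ Y : Subgroup G) ≤ Nat.card D :=
    Nat.card_le_card_of_injective _ (inclusion_injective hcon)
  rw [f.kD, f.kWY] at h1
  omega

include f c₁ in
theorem tf_of {z : G} (hz : z ∈ X₂) : Fp (h₁ * z) R ⊥ := by
  intro r hr h
  refine f.fp_h₁R c₁ r hr ?_
  have e : h₁ * z * r * (h₁ * z)⁻¹ = h₁ * (z * r * z⁻¹) * h₁⁻¹ := by group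
  rwa [e, f.conj_R hz hr] at h

include f c₁ c₂ in
/-- up to inverting `h₁`, `h₁ h₂⁻¹` centralises `X₂/W` -/
theorem exists_sign : ∃ h, (h = h₁ ∨ h = h₁⁻¹) ∧ Four F X₁ X₂ U V R W Y D h h₂ ∧
    ∀ x ∈ X₂, ρ₂ (h * h₂⁻¹ * x * (h * h₂⁻¹)⁻¹) = ρ₂ x := by
  obtain ⟨g, hg, hg1⟩ := c₂.exists_triv (g := h₁) f.h₁X₂ f.h₁W (fun x hx => (conj_mem_iff f.h₁3 f.h₁W).1 hx)
    f.h₁U f.hh
  rcases hg with rfl | rfl | rfl
  · exfalso
    obtain ⟨d, hd, hdV⟩ := f.exists_D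
    obtain ⟨v, hv, hv1⟩ := lift f.h₁3 (f.not3 f.VU) (f.nV _ f.h₁X) (f.tr_h₁D c₁ d hd)
    have h1 := f.fp_tW c₁ c₂ f.h₁3 f.h₁X₂ f.h₁W (f.nV _ f.h₁X) f.h₁R hg1 (f.fp_h₁R c₁)
      (W.mul_mem (f.DW hd) (f.VW hv)) hv1
    apply hdV
    rw [eq_inv_of_mul_eq_one_left h1]
    exact V.inv_mem hv
  · refine ⟨h₁⁻¹, Or.inr rfl, f.inv₁, fun x hx => ?_⟩
    have hn : ∀ x ∈ X₂, h₁ * h₂ * x * (h₁ * h₂)⁻¹ ∈ X₂ := nm_mul f.h₁X₂ (nm_self f.h₂X)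
    have h3 : h₁ * h₂ * (h₁ * h₂) * (h₁ * h₂) = 1 := mul_three f.h₁3 f.h₂3 f.hh
    have h4 := hg1 _ (inv_conj h3 hn hx)
    have e1 : h₁ * h₂ * ((h₁ * h₂)⁻¹ * x * (h₁ * h₂)) * (h₁ * h₂)⁻¹ = x := by group
    have e2 : h₁⁻¹ * h₂⁻¹ = (h₁ * h₂)⁻¹ := by rw [f.hh]; group
    rw [e1] at h4
    rw [e2, inv_inv]
    exact h4.symm
  · exact ⟨h₁, Or.inl rfl, f, hg1⟩

end chart

end Four

end Cfsg.Agent.Omega.GTwoFour.Id
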