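import Cfsg.Agent.Omega.GTwoFour.IdB

/-!
# The torus of the pair of type `G₂(4)`, III: `h₂` centralises `X₁/Y` and `V`; the two Levi subgroups
-/

set_option autoImplicit false
set_option linter.unusedSectionVars false

namespace Cfsg.Agent.Omega.GTwoFour.Id

open Subgroup
open scoped MatrixGroups

/-- `Four` with charts, and `t = h₁ h₂⁻¹` centralising `X₂/W` -/
structure FT (F : Type*) [Field F] {G : Type*} [Group G] (X₁ X₂ U V R W Y D : Subgroup G) (h₁ h₂ : G)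
    (w₁ w₂ : F) (ρ₁ ρ₂ : G → SL(2, F)) (t : G) : Prop where
  f : Four F X₁ X₂ U V R W Y D h₁ h₂
  c₁ : Ch X₁ Y U h₁ w₁ ρ₁
  c₂ : Ch X₂ W U h₂ w₂ ρ₂
  ht : t = h₁ * h₂⁻¹
  tρ : ∀ x ∈ X₂, ρ₂ (t * x * t⁻¹) = ρ₂ x

namespace FT

variable {F : Type*} [Field F] {G : Type*} [Group G] [Finite G] {X₁ X₂ U V R W Y D : Subgroup G} {h₁ h₂ : G}
  {w₁ w₂ : F} {ρ₁ ρ₂ : G → SL(2, F)} {t : G} (T : FT F X₁ X₂ U V R W Y D h₁ h₂ w₁ w₂ ρ₁ ρ₂ t)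
include T

theorem t3 : t * t * t = 1 := by
  rw [T.ht]
  exact mul_three T.f.h₁3 (inv_three T.f.h₂3) (comm_inv_right T.f.hh)

theorem th₁ : t * h₁ = h₁ * t := by
  rw [T.ht, mul_assoc, ← comm_inv_right T.f.hh]

theorem th₂ : t * h₂ = h₂ * t := by
  rw [T.ht, inv_mul_cancel_right, ← mul_assoc, ← T.f.hh, mul_inv_cancel_right]

theorem h₁_eq : h₁ = t * h₂ := by rw [T.ht, inv_mul_cancel_right]

theorem nm {A : Subgroup G} (h1 : ∀ x ∈ A, h₁ * x * h₁⁻¹ ∈ A) (h2 : ∀ x ∈ A, h₂ * x * h₂⁻¹ ∈ A) :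
    ∀ x ∈ A, t * x * t⁻¹ ∈ A := by
  rw [T.ht]
  exact nm_mul h1 (nm_inv T.f.h₂3 h2)

theorem nX₁ : ∀ x ∈ X₁, t * x * t⁻¹ ∈ X₁ := T.nm (nm_self T.f.h₁X) T.f.h₂X₁
theorem nX₂ : ∀ x ∈ X₂, t * x * t⁻¹ ∈ X₂ := T.nm T.f.h₁X₂ (nm_self T.f.h₂X)
theorem nU : ∀ x ∈ U, t * x * t⁻¹ ∈ U := T.nm T.f.h₁U T.f.h₂U
theorem nW : ∀ x ∈ W, t * x * t⁻¹ ∈ W := T.nm T.f.h₁W (T.f.h₂W T.c₂)
theorem nY : ∀ x ∈ Y, t * x * t⁻¹ ∈ Y := T.nm (T.f.h₁Y T.c₁) T.f.h₂Y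
theorem nV : ∀ x ∈ V, t * x * t⁻¹ ∈ V := T.nm (T.f.nV _ T.f.h₁X) T.f.h₂V
theorem nR : ∀ x ∈ R, t * x * t⁻¹ ∈ R := T.nm T.f.h₁R T.f.h₂R
theorem nD : ∀ x ∈ D, t * x * t⁻¹ ∈ D := T.nm (T.f.nD _ T.f.h₁X) T.f.h₂D

/-- `C_W(t) = 1` -/
theorem fpW {z : G} (hz : z ∈ W) (htz : t * z = z * t) : z = 1 := by
  refine T.f.fp_tW T.c₁ T.c₂ T.t3 T.nX₂ T.nW T.nV T.nR T.tρ ?_ hz htz
  rw [T.ht]
  exact T.f.tf_of T.c₁ (X₂.inv_mem T.f.h₂X)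

theorem conj_one {a b : G} (h : a⁻¹ * (b * a * b⁻¹) ∈ (⊥ : Subgroup G)) : b * a = a * b := by
  have _ := T
  rw [mem_bot] at h
  calc b * a = a * (a⁻¹ * (b * a * b⁻¹)) * b := by group
    _ = _ := by rw [h, mul_one]

/-- `h₂` has no fixed points on `D/V` -/
theorem fp_h₂D : Fp h₂ D V := by
  have f := T.f
  rcases tr_or_fp f.h₂3 (A := D) (B := V) f.VD (by rw [f.kV, f.kD]) (f.not3 f.DU) f.h₂D f.h₂V
    (fun x hx y hy => by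
      have := f.nV _ (X₁.inv_mem (f.UX₁ (f.DU hx))) y hy
      rwa [inv_inv] at this) with hT | hF
  swap
  · exact hF
  exfalso
  obtain ⟨d, hd, hdV⟩ := f.exists_D
  have h1 : d⁻¹ * (t * d * t⁻¹) ∈ V := by
    have hd' := inv_conj f.h₂3 f.h₂D hd
    have h2 := hT _ hd'
    have h3 := f.tr_h₁D T.c₁ _ hd'
    have e : d⁻¹ * (t * d * t⁻¹) = ((h₂⁻¹ * d * h₂)⁻¹ * (h₂ * (h₂⁻¹ * d * h₂) * h₂⁻¹))⁻¹ *
        ((h₂⁻¹ * d * h₂)⁻¹ * (h₁ * (h₂⁻¹ * d * h₂) * h₁⁻¹)) := by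
      rw [T.ht]; group
    rw [e]
    exact V.mul_mem (V.inv_mem h2) h3
  obtain ⟨v, hv, hv1⟩ := lift T.t3 (f.not3 f.VU) T.nV h1
  have h2 := T.fpW (W.mul_mem (f.DW hd) (f.VW hv)) hv1
  apply hdV
  rw [eq_inv_of_mul_eq_one_left h2]
  exact V.inv_mem hv

/-- `h₂` centralises `X₁/Y` -/
theorem h₂ρ : ∀ x ∈ X₁, ρ₁ (h₂ * x * h₂⁻¹) = ρ₁ x := by
  have f := T.f
  obtain ⟨g, hg, hg1⟩ := T.c₁.exists_triv (g := h₂) f.h₂X₁ f.h₂Y (fun x hx => (conj_mem_iff f.h₂3 f.h₂Y).1 hx)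
    f.h₂U f.hh.symm
  rcases hg with rfl | rfl | rfl
  · exact hg1
  · -- `h₂ h₁`
    exfalso
    have s3 : h₂ * h₁ * (h₂ * h₁) * (h₂ * h₁) = 1 := mul_three f.h₂3 f.h₁3 f.hh.symm
    obtain ⟨n, hn, hn1, hns, hn2⟩ := f.exists_n T.c₁ s3
      (by rw [mul_assoc, ← mul_assoc h₁, f.hh, mul_assoc]) hg1 (nm_mul f.h₂X₁ (nm_self f.h₁X))
    obtain ⟨r, hr, hr1⟩ := f.exists_R
    have hrW : n * r * n⁻¹ ∈ W := f.VW (f.nV n hn r (f.RV hr))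
    have h4 : n * h₂ * n⁻¹ = t⁻¹ := by
      have e1 : n * h₂ * n⁻¹ = (n * (h₂ * h₁) * n⁻¹) * (n * h₁ * n⁻¹)⁻¹ := by group
      have e2 : n * (h₂ * h₁) * n⁻¹ = h₂ * h₁ := by rw [← hns]; group
      rw [e1, e2, hn2, inv_inv, T.ht, mul_inv_rev, inv_inv]
      have e3 : h₁⁻¹ = h₁ * h₁ := by rw [inv_eq_iff_mul_eq_one, ← mul_assoc, f.h₁3]
      rw [e3]; group
    have h5 : t * (n * r * n⁻¹) = (n * r * n⁻¹) * t := by
      have e1 : t⁻¹ * (n * r * n⁻¹) = (n * r * n⁻¹) * t⁻¹ := by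
        rw [← h4]
        calc n * h₂ * n⁻¹ * (n * r * n⁻¹) = n * (h₂ * r) * n⁻¹ := by group
          _ = _ := by rw [f.cR h₂ f.h₂X r hr]; group
      calc t * (n * r * n⁻¹) = t * ((n * r * n⁻¹) * t⁻¹) * t := by group
        _ = _ := by rw [← e1]; group
    have h6 := T.fpW hrW h5
    apply hr1
    calc r = n⁻¹ * (n * r * n⁻¹) * n := by group
      _ = 1 := by rw [h6]; group
  · -- `h₂ h₁⁻¹ = t⁻¹`
    exfalso
    have hti : h₂ * h₁⁻¹ = t⁻¹ := by rw [T.ht, mul_inv_rev, inv_inv]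
    rw [hti] at hg1
    have ht1 : ∀ x ∈ X₁, ρ₁ (t * x * t⁻¹) = ρ₁ x := by
      intro x hx
      have h4 := hg1 _ (T.nX₁ x hx)
      have e : t⁻¹ * (t * x * t⁻¹) * t⁻¹⁻¹ = x := by group
      rw [e] at h4
      exact h4.symm
    obtain ⟨n, hn, hn1, hnt, -⟩ := f.exists_n T.c₁ T.t3 T.th₁ ht1 T.nX₁
    obtain ⟨x, hx, hxD⟩ := f.exists_WY
    have hxt : x⁻¹ * (t * x * t⁻¹) ∈ D := by
      refine f.D_of n hn (f.j_R T.c₁ hn hn1) _ (W.mul_mem (W.inv_mem hx.1) (T.nW x hx.1)) ?_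
      have hx' : n⁻¹ * x * n ∈ Y := by
        have := T.c₁.nN (X₁.inv_mem hn) hx.2
        rwa [inv_inv] at this
      have e1 : n⁻¹ * t = t * n⁻¹ := by
        calc n⁻¹ * t = n⁻¹ * (t * n) * n⁻¹ := by group
          _ = _ := by rw [hnt]; group
      have e : n⁻¹ * (x⁻¹ * (t * x * t⁻¹)) * n = (n⁻¹ * x * n)⁻¹ * (t * (n⁻¹ * x * n) * t⁻¹) := by
        calc n⁻¹ * (x⁻¹ * (t * x * t⁻¹)) * n = n⁻¹ * x⁻¹ * n * ((n⁻¹ * t) * x * (n⁻¹ * t)⁻¹) := by group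
          _ = _ := by rw [e1]; group
      rw [e]
      have hxX := f.UX₂ (f.YU hx')
      exact (T.c₂.eq_iff hxX (T.nX₂ _ hxX)).1 (T.tρ _ hxX).symm
    obtain ⟨d, hd, hd1⟩ := lift T.t3 (f.not3 f.DU) T.nD hxt
    have h2 := T.fpW (W.mul_mem hx.1 (f.DW hd)) hd1
    apply hxD
    rw [eq_inv_of_mul_eq_one_left h2]
    exact D.inv_mem hd

theorem exists_nb : ∃ n ∈ X₁, ρ₁ n = jj ∧ h₂ * n = n * h₂ ∧ n * h₁ * n⁻¹ = h₁⁻¹ :=
  T.f.exists_n T.c₁ T.f.h₂3 T.f.hh.symm T.h₂ρ T.f.h₂X₁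

/-- `h₂` centralises `V` -/
theorem h₂V {v : G} (hv : v ∈ V) : h₂ * v = v * h₂ := by
  have f := T.f
  obtain ⟨n, hn, hn1, hnh, -⟩ := T.exists_nb
  obtain ⟨r, hr, hr1⟩ := f.j_R T.c₁ hn hn1
  have h1 : h₂ * (n * r * n⁻¹) = (n * r * n⁻¹) * h₂ := by
    have e1 : h₂ * n⁻¹ = n⁻¹ * h₂ := comm_inv_right hnh
    calc h₂ * (n * r * n⁻¹) = (h₂ * n) * r * n⁻¹ := by group
      _ = n * (h₂ * r) * n⁻¹ := by rw [hnh]; group
      _ = n * r * (h₂ * n⁻¹) := by rw [f.cR h₂ f.h₂X r hr]; group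
      _ = _ := by rw [e1]; group
  rcases tr_or_fp f.h₂3 (A := V) (B := R) f.RV (by rw [f.kR, f.kV]) (f.not3 f.VU) f.h₂V f.h₂R
    (fun x hx y hy => by
      rw [f.V_comm (V.inv_mem hx) (f.RV hy)]; rwa [inv_mul_cancel_right]) with hT | hF
  · obtain ⟨s, hs, hs1⟩ := lift f.h₂3 (f.not3 f.RU) f.h₂R (hT v hv)
    have h5 := f.cR h₂ f.h₂X s hs
    calc h₂ * v = h₂ * (v * s) * s⁻¹ := by group
      _ = v * (s * h₂) * s⁻¹ := by rw [hs1]; group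
      _ = v * h₂ := by rw [← h5]; group
  · exact absurd (hF _ (f.nV n hn r (f.RV hr)) (Tr.of_commute h1)) hr1

/-- elements of `U` commuting with `h₂`, `h₁` or `h₁ h₂` are in `W` -/
theorem fixW {u : G} (hu : u ∈ U) {z : G} (hz : z = h₂ ∨ z = h₁ ∨ z = h₁ * h₂) (h : z * u = u * z) : u ∈ W := by
  have f := T.f
  have hX := f.UX₂ hu
  obtain ⟨s, hs⟩ := (T.c₂.up u hX).1 hu
  have h0 : z * u * z⁻¹ = u := by rw [h, mul_inv_cancel_right]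
  have key : ∃ c : F, c ≠ 1 ∧ ρ₂ (z * u * z⁻¹) = up (c * s) := by
    have hX' := nm_self f.h₂X u hX
    rcases hz with hz | hz | hz <;> rw [hz]
    · refine ⟨w₂, ?_, T.c₂.conj_h hX hs⟩
      intro hc
      have := T.c₂.w2
      rw [hc] at this
      have h3 : (1 : F) = 0 := by linear_combination this - two f.cF
      exact one_ne_zero h3
    · refine ⟨w₂, ?_, ?_⟩
      · intro hc
        have := T.c₂.w2
        rw [hc] at this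
        have h3 : (1 : F) = 0 := by linear_combination this - two f.cF
        exact one_ne_zero h3
      · have e : h₁ * u * h₁⁻¹ = t * (h₂ * u * h₂⁻¹) * t⁻¹ := by rw [T.h₁_eq]; group
        rw [e, T.tρ _ hX', T.c₂.conj_h hX hs]
    · refine ⟨w₂ * w₂, ?_, ?_⟩
      · intro hc
        have h4 := w3 T.c₂.w2
        rw [hc, one_mul] at h4
        have := T.c₂.w2
        rw [h4] at this
        have h3 : (1 : F) = 0 := by linear_combination this - two f.cF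
        exact one_ne_zero h3
      · have e : h₁ * h₂ * u * (h₁ * h₂)⁻¹ = t * (h₂ * (h₂ * u * h₂⁻¹) * h₂⁻¹) * t⁻¹ := by
          rw [T.h₁_eq]; group
        rw [e, T.tρ _ (nm_self f.h₂X _ hX'), T.c₂.conj_h hX' (T.c₂.conj_h hX hs), mul_assoc]
  obtain ⟨c, hc, hc1⟩ := key
  rw [h0, hs] at hc1
  have h1 : s = c * s := up_inj hc1
  have h2 : s = 0 := by
    have h3 : (c - 1) * s = 0 := by linear_combination -h1
    exact (mul_eq_zero.1 h3).resolve_left (sub_ne_zero.2 hc)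
  rw [h2, up_zero] at hs
  exact (T.c₂.ker u hX).1 hs

/-- elements of `U` commuting with `h₁` are in `Y` -/
theorem fixY {u : G} (hu : u ∈ U) (h : h₁ * u = u * h₁) : u ∈ Y := by
  have f := T.f
  have hX := f.UX₁ hu
  obtain ⟨s, hs⟩ := (T.c₁.up u hX).1 hu
  have h0 : h₁ * u * h₁⁻¹ = u := by rw [h, mul_inv_cancel_right]
  have h1 := T.c₁.conj_h hX hs
  rw [h0, hs] at h1
  have h2 : s = w₁ * s := up_inj h1
  have h3 : s = 0 := by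
    linear_combination s * T.c₁.w2 + (2 + w₁) * h2 - s * two f.cF
  rw [h3, up_zero] at hs
  exact (T.c₁.ker u hX).1 hs

/-- `C_Y(h₂) = V` -/
theorem CY {y : G} (hy : y ∈ Y) (h : h₂ * y = y * h₂) : y ∈ V := by
  have f := T.f
  obtain ⟨n, hn, hn1, hnh, -⟩ := T.exists_nb
  have h1 : y ∈ W := T.fixW (f.YU hy) (Or.inl rfl) h
  have hy' : n⁻¹ * y * n ∈ Y := by
    have := T.c₁.nN (X₁.inv_mem hn) hy
    rwa [inv_inv] at this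
  have h2 : n⁻¹ * y * n ∈ W := by
    refine T.fixW (f.YU hy') (Or.inl rfl) ?_
    have e1 : h₂ * n⁻¹ = n⁻¹ * h₂ := comm_inv_right hnh
    calc h₂ * (n⁻¹ * y * n) = (h₂ * n⁻¹) * y * n := by group
      _ = n⁻¹ * (h₂ * y) * n := by rw [e1]; group
      _ = n⁻¹ * y * (h₂ * n) := by rw [h]; group
      _ = _ := by rw [hnh]; group
  have h3 : y ∈ D := f.D_of n hn (f.j_R T.c₁ hn hn1) y h1 h2
  exact T.fp_h₂D y h3 (Tr.of_commute h)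

/-- the involution `nb` -/
theorem exists_nb' : ∃ n ∈ X₁, ρ₁ n = jj ∧ n * n = 1 ∧ n * h₂ * n = h₂ ∧ n * h₁ * n = h₁⁻¹ := by
  have f := T.f
  obtain ⟨n, hn, hn1, hnh, hn2⟩ := T.exists_nb
  have hnn : n * n = 1 := by
    have hY : n * n ∈ Y := by
      rw [← T.c₁.ker _ (X₁.mul_mem hn hn), T.c₁.mul _ hn _ hn, hn1, jj_sq f.cF]
    have hc : Commute h₂ n := hnh
    have hV : n * n ∈ V := T.CY hY (hc.mul_right hc).eq
    refine f.fp_h₁V T.c₁ hV ?_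
    have e1 : n * h₁⁻¹ * n⁻¹ = h₁ := by
      calc n * h₁⁻¹ * n⁻¹ = (n * h₁ * n⁻¹)⁻¹ := by group
        _ = _ := by rw [hn2, inv_inv]
    calc h₁ * (n * n) = n * h₁⁻¹ * n⁻¹ * (n * n) := by rw [e1]
      _ = n * (n * h₁ * n⁻¹) * n := by rw [hn2]; group
      _ = _ := by group
  have hni : n⁻¹ = n := inv_eq_of_mul_eq_one_right hnn
  refine ⟨n, hn, hn1, hnn, ?_, ?_⟩
  · rw [← hnh, mul_assoc, hnn, mul_one]
  · rw [hni] at hn2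
    exact hn2

/-- the Levi subgroup `C_{X₂}(t)` -/
theorem exists_xx : ∃ xx : SL(2, F) → G, (∀ M, xx M ∈ X₂) ∧ (∀ M, t * xx M = xx M * t) ∧ (∀ M, ρ₂ (xx M) = M) ∧
    (∀ M N, xx (M * N) = xx M * xx N) ∧ (∀ x ∈ X₂, t * x = x * t → x = xx (ρ₂ x)) := by
  have f := T.f
  have h1 : ∀ M : SL(2, F), ∃ x, x ∈ X₂ ∧ t * x = x * t ∧ ρ₂ x = M := by
    intro M
    obtain ⟨x, hx, hxM⟩ := T.c₂.surj M
    obtain ⟨a, ha, ha1⟩ := lift T.t3 (f.not3 f.WU) T.nW (x := x)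
      ((T.c₂.eq_iff hx (T.nX₂ x hx)).1 (T.tρ x hx).symm)
    have haX := T.c₂.NX ha
    exact ⟨x * a, X₂.mul_mem hx haX, ha1, by rw [T.c₂.mul _ hx _ haX, (T.c₂.ker a haX).2 ha, mul_one, hxM]⟩
  have huniq : ∀ x ∈ X₂, ∀ y ∈ X₂, t * x = x * t → t * y = y * t → ρ₂ x = ρ₂ y → x = y := by
    intro x hx y hy htx hty hxy
    have h2 := (T.c₂.eq_iff hx hy).1 hxy
    have hcx : Commute t x := htx
    have hcy : Commute t y := hty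
    have h3 := T.fpW h2 ((hcx.inv_right).mul_right hcy).eq
    exact (inv_mul_eq_one.1 h3)
  choose xx hxX hxt hxM using h1
  refine ⟨xx, hxX, hxt, hxM, fun M N => ?_, fun x hx htx => ?_⟩
  · have hcM : Commute t (xx M) := hxt M
    have hcN : Commute t (xx N) := hxt N
    refine huniq _ (hxX _) _ (X₂.mul_mem (hxX M) (hxX N)) (hxt _) (hcM.mul_right hcN).eq ?_
    rw [T.c₂.mul _ (hxX M) _ (hxX N), hxM, hxM, hxM]
  · exact huniq _ hx _ (hxX _) htx (hxt _) (hxM _).symm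

end FT

end Cfsg.Agent.Omega.GTwoFour.Id
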