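import Cfsg.Agent.Omega.GTwoFour.Four
import Cfsg.Agent.Omega.GTwoFour.IdAlg
import Cfsg.Agent.Omega.GTwoFour.Pos

/-!
# Root groups of the pair of type `G₂(4)`

`Four` gives `Rts` (files `IdA`, `IdB`, ...), and `Four` with `Rts` gives `RD` and `Pos24`.
-/

set_option autoImplicit false

namespace Cfsg.Agent.Omega.GTwoFour.Id

open Subgroup

/-- six root groups, with the action of the torus `⟨h₁, h₂⟩` and of the involutions `na ∈ X₂`, `nb ∈ X₁` -/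
structure Rts {F : Type*} [Field F] {G : Type*} [Group G] (X₁ X₂ V R W Y D : Subgroup G)
    (h₁ h₂ na nb : G) (w : F) (x1 x2 x3 x4 x5 x6 : F → G) : Prop where
  w2 : w ^ 2 + w + 1 = 0
  add1 : ∀ s t, x1 (s + t) = x1 s * x1 t
  add2 : ∀ s t, x2 (s + t) = x2 s * x2 t
  add3 : ∀ s t, x3 (s + t) = x3 s * x3 t
  add4 : ∀ s t, x4 (s + t) = x4 s * x4 t
  add5 : ∀ s t, x5 (s + t) = x5 s * x5 t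
  add6 : ∀ s t, x6 (s + t) = x6 s * x6 t
  /- `h₂` -/
  p1 : ∀ a, h₂ * x1 a * h₂⁻¹ = x1 (w * a)
  p2 : ∀ a, h₂ * x2 a * h₂⁻¹ = x2 a
  p3 : ∀ a, h₂ * x3 a * h₂⁻¹ = x3 (w ^ 2 * a)
  p4 : ∀ a, h₂ * x4 a * h₂⁻¹ = x4 a
  p5 : ∀ a, h₂ * x5 a * h₂⁻¹ = x5 (w * a)
  p6 : ∀ a, h₂ * x6 a * h₂⁻¹ = x6 a
  /- `h₁` -/
  q1 : ∀ a, h₁ * x1 a * h₁⁻¹ = x1 (w * a)
  q2 : ∀ a, h₁ * x2 a * h₁⁻¹ = x2 (w * a)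
  q3 : ∀ a, h₁ * x3 a * h₁⁻¹ = x3 a
  q4 : ∀ a, h₁ * x4 a * h₁⁻¹ = x4 (w ^ 2 * a)
  q5 : ∀ a, h₁ * x5 a * h₁⁻¹ = x5 (w ^ 2 * a)
  q6 : ∀ a, h₁ * x6 a * h₁⁻¹ = x6 (w * a)
  /- the involutions -/
  naX : na ∈ X₂
  nbX : nb ∈ X₁
  na2 : na * na = 1
  nb2 : nb * nb = 1
  nah₁ : na * h₁ * na = h₁ * h₂
  nah₂ : na * h₂ * na = h₂⁻¹
  nbh₁ : nb * h₁ * nb = h₁⁻¹
  nbh₂ : nb * h₂ * nb = h₂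
  nbR : ∃ r ∈ R, nb * r * nb⁻¹ ∉ R
  a2 : ∀ a, na * x2 a * na = x6 a
  a3 : ∀ a, na * x3 a * na = x5 a
  a4 : ∀ a, na * x4 a * na = x4 a
  b1 : ∀ a, nb * x1 a * nb = x5 a
  b2 : ∀ a, nb * x2 a * nb = x4 a
  b3 : ∀ a, nb * x3 a * nb = x3 a
  ra : na * x1 1 * na = x1 1 * na * x1 1
  rb : nb * x6 1 * nb = x6 1 * nb * x6 1
  /- membership -/
  m1 : ∀ a, x1 a ∈ Y
  m2 : ∀ a, x2 a ∈ V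
  m3 : ∀ a, x3 a ∈ D
  m4 : ∀ a, x4 a ∈ R
  m5 : ∀ a, x5 a ∈ W
  m5' : ∀ a, x5 a ∈ Y
  m6 : ∀ a, x6 a ∈ W
  z1 : ∀ a, x1 a ∈ W → a = 0
  z2 : ∀ a, x2 a ∈ R → a = 0
  z3 : ∀ a, x3 a ∈ V → a = 0
  z4 : ∀ a, x4 a = 1 → a = 0
  z5 : ∀ a, x5 a ∈ D → a = 0
  z6 : ∀ a, x6 a ∈ Y → a = 0

end Cfsg.Agent.Omega.GTwoFour.Id
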