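import Cfsg.Agent.Omega.GTwoFour.IdC
import Cfsg.Agent.Omega.GTwoFour.IdRts

/-!
# The root groups of the pair of type `G₂(4)`
-/

set_option autoImplicit false
set_option linter.unusedSectionVars false

namespace Cfsg.Agent.Omega.GTwoFour.Id

open Subgroup
open scoped MatrixGroups

namespace FT

variable {F : Type*} [Field F] {G : Type*} [Group G] [Finite G] {X₁ X₂ U V R W Y D : Subgroup G} {h₁ h₂ : G}
  {w₁ w₂ : F} {ρ₁ ρ₂ : G → SL(2, F)} {t : G} (T : FT F X₁ X₂ U V R W Y D h₁ h₂ w₁ w₂ ρ₁ ρ₂ t)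
include T

theorem fp_tVR : Fp t V R := by
  refine T.f.fp_tVR T.c₁ T.c₂ T.t3 T.nX₂ T.nW T.nV T.nR T.tρ ?_
  rw [T.ht]
  exact T.f.tf_of T.c₁ (X₂.inv_mem T.f.h₂X)

/-- `V ∩ V^{na} = R` -/
theorem V_inter {na : G} (hna : na ∈ X₂) (hna1 : ρ₂ na = jj) (hnat : t * na = na * t) {v : G} (hv : v ∈ V)
    (hv' : na * v * na⁻¹ ∈ V) : v ∈ R := by
  have f := T.f
  let S : Subgroup G :=
    { carrier := {r | r ∈ V ∧ na * r * na⁻¹ ∈ V}
      one_mem' := ⟨V.one_mem, by rw [mul_one, mul_inv_cancel]; exact V.one_mem⟩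
      mul_mem' := by
        rintro x y ⟨hx, hx'⟩ ⟨hy, hy'⟩
        refine ⟨V.mul_mem hx hy, ?_⟩
        have e : na * (x * y) * na⁻¹ = (na * x * na⁻¹) * (na * y * na⁻¹) := by group
        rw [e]; exact V.mul_mem hx' hy'
      inv_mem' := by
        rintro x ⟨hx, hx'⟩
        refine ⟨V.inv_mem hx, ?_⟩
        have e : na * x⁻¹ * na⁻¹ = (na * x * na⁻¹)⁻¹ := by group
        rw [e]; exact V.inv_mem hx' }
  have hSV : S ≤ V := fun x hx => hx.1
  have hRS : R ≤ S := fun x hx => ⟨f.RV hx, by rw [f.conj_R hna hx]; exact f.RV hx⟩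
  have hSh : ∀ x ∈ S, t * x * t⁻¹ ∈ S := by
    rintro x ⟨hx, hx'⟩
    refine ⟨T.nV x hx, ?_⟩
    have e : na * (t * x * t⁻¹) * na⁻¹ = t * (na * x * na⁻¹) * t⁻¹ := by
      calc na * (t * x * t⁻¹) * na⁻¹ = (na * t) * x * (na * t)⁻¹ := by group
        _ = (t * na) * x * (t * na)⁻¹ := by rw [hnat]
        _ = _ := by group
    rw [e]
    exact T.nV _ hx'
  by_contra hne
  have h1 := le_of_fp (h := t) (A := V) (B := R) (S := S) hRS hSV (by rw [f.kR, f.kV]) hSh T.t3 T.nR T.fp_tVR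
    (fun hle => hne (hle ⟨hv, hv'⟩))
  have h2 : X₂ ≤ normalizer (V : Set G) := by
    refine T.c₂.le_of_mem ?_ hna hna1 (Four.mem_norm fun x hx => (h1 hx).2)
    intro u hu
    exact Four.mem_norm (f.nV u (f.UX₁ hu))
  have h3 : W ≤ V := f.gen V fun x hx v hv => (mem_normalizer_iff.1 (h2 hx) v).1 hv
  have h4 := Nat.card_le_card_of_injective _ (inclusion_injective h3)
  rw [f.kW, f.kV] at h4
  omega

end FT

theorem sq_conj {G : Type*} [Group G] {n : G} (hn : n * n = 1) (x y : G) :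
    n * (x * y) * n = (n * x * n) * (n * y * n) := by
  have hni : n⁻¹ = n := inv_eq_of_mul_eq_one_right hn
  calc n * (x * y) * n = n * x * n * (n⁻¹ * y * n) := by group
    _ = _ := by rw [hni]

theorem sq_conj_conj {G : Type*} [Group G] {n : G} (hn : n * n = 1) (x : G) : n * (n * x * n) * n = x := by
  calc n * (n * x * n) * n = (n * n) * x * (n * n) := by group
    _ = x := by rw [hn, one_mul, mul_one]

/-- `h (n x n) h⁻¹ = n (h' x h'⁻¹) n` if `n h n = h'` -/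
theorem sq_conj_h {G : Type*} [Group G] {n h h' : G} (hn : n * n = 1) (hh : n * h * n = h') (x : G) :
    h * (n * x * n) * h⁻¹ = n * (h' * x * h'⁻¹) * n := by
  have hni : n⁻¹ = n := inv_eq_of_mul_eq_one_right hn
  rw [← hh]
  calc h * (n * x * n) * h⁻¹ = (n * n) * h * (n * x * n) * h⁻¹ * (n * n) := by rw [hn, one_mul, mul_one]
    _ = n * (n * h * n * x * (n⁻¹⁻¹ * h⁻¹ * n)) * n := by rw [inv_inv]; group
    _ = n * (n * h * n * x * (n * h * n)⁻¹) * n := by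
        rw [show (n * h * n)⁻¹ = n⁻¹ * h⁻¹ * n⁻¹ by group, inv_inv, hni]

theorem braid_of_cube {G : Type*} [Group G] {n x : G} (hn : n * n = 1) (hx : x * x = 1)
    (h : n * x * (n * x) * (n * x) = 1) : n * x * n = x * n * x := by
  have hni : n⁻¹ = n := inv_eq_of_mul_eq_one_right hn
  have hxi : x⁻¹ = x := inv_eq_of_mul_eq_one_right hx
  calc n * x * n = (n * x * (n * x) * (n * x)) * (x⁻¹ * n⁻¹ * x⁻¹) := by group
    _ = x * n * x := by rw [h, one_mul, hni, hxi]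

namespace FT

variable {F : Type*} [Field F] {G : Type*} [Group G] [Finite G] {X₁ X₂ U V R W Y D : Subgroup G} {h₁ h₂ : G}
  {w : F} {ρ₁ ρ₂ : G → SL(2, F)} {t : G} (T : FT F X₁ X₂ U V R W Y D h₁ h₂ w w ρ₁ ρ₂ t)
include T

theorem exists_rts : ∃ (na nb : G) (x1 x2 x3 x4 x5 x6 : F → G),
    Rts X₁ X₂ V R W Y D h₁ h₂ na nb w x1 x2 x3 x4 x5 x6 := by
  have f := T.f
  have hw := T.c₁.w2
  have hw3 := w3 hw
  have tw := two f.cF
  obtain ⟨xx, xX, xt, xρ, xm, xu⟩ := T.exists_xx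
  obtain ⟨nb, nbX, nb1, nb2, nbh₂, nbh₁⟩ := T.exists_nb'
  have nbi : nb⁻¹ = nb := inv_eq_of_mul_eq_one_right nb2
  have xx1 : xx 1 = 1 := by
    have := xm 1 1
    rw [mul_one] at this
    exact left_eq_mul.1 this
  have xxi : ∀ M, xx M⁻¹ = (xx M)⁻¹ := fun M => by
    rw [eq_inv_iff_mul_eq_one, ← xm, inv_mul_cancel, xx1]
  -- `na`, `x1`
  set na := xx jj with hna
  have naX : na ∈ X₂ := xX _
  have nat' : t * na = na * t := xt _
  have na1 : ρ₂ na = jj := xρ _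
  have na2 : na * na = 1 := by rw [hna, ← xm, jj_sq f.cF, xx1]
  have nai : na⁻¹ = na := inv_eq_of_mul_eq_one_right na2
  set x1 : F → G := fun a => xx (up a) with hx1
  have x1X : ∀ a, x1 a ∈ X₂ := fun a => xX _
  have x1t : ∀ a, t * x1 a = x1 a * t := fun a => xt _
  have x1ρ : ∀ a, ρ₂ (x1 a) = up a := fun a => xρ _
  have x1U : ∀ a, x1 a ∈ U := fun a => (T.c₂.up _ (x1X a)).2 ⟨a, x1ρ a⟩
  have add1 : ∀ a b, x1 (a + b) = x1 a * x1 b := fun a b => by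
    simp only [hx1]; rw [up_add, xm]
  have x1z : ∀ a, x1 a ∈ W → a = 0 := fun a ha => by
    rw [← T.c₂.ker _ (x1X a), x1ρ, ← up_zero] at ha
    exact up_inj ha
  have hh2 : h₂ = xx (ρ₂ h₂) := xu h₂ f.h₂X T.th₂
  have p1 : ∀ a, h₂ * x1 a * h₂⁻¹ = x1 (w * a) := fun a => by
    simp only [hx1]
    rw [hh2, ← xxi, ← xm, ← xm, T.c₂.dg.up T.c₂.w2]
  have q1 : ∀ a, h₁ * x1 a * h₁⁻¹ = x1 (w * a) := fun a => by
    have e : h₁ * x1 a * h₁⁻¹ = t * (h₂ * x1 a * h₂⁻¹) * t⁻¹ := by rw [T.h₁_eq]; group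
    rw [e, p1, x1t, mul_inv_cancel_right]
  have x1Y : ∀ a, x1 a ∈ Y := by
    intro a
    obtain ⟨a', ha', b, hb, hab⟩ := f.UWY _ (x1U a)
    have ha'X := T.c₂.NX ha'
    have hbX := f.UX₂ (f.YU hb)
    have hb1 : ρ₂ b = up a := by
      rw [← x1ρ a, hab, T.c₂.mul _ ha'X _ hbX, (T.c₂.ker a' ha'X).2 ha', one_mul]
    have h1 : b⁻¹ * (t * b * t⁻¹) ∈ W ⊓ Y :=
      ⟨(T.c₂.eq_iff hbX (T.nX₂ b hbX)).1 (T.tρ b hbX).symm, Y.mul_mem (Y.inv_mem hb) (T.nY b hb)⟩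
    obtain ⟨z, hz, hz1⟩ := lift T.t3 (f.not3 (inf_le_left.trans f.WU))
      (fun x hx => ⟨T.nW x hx.1, T.nY x hx.2⟩) h1
    have hzX := T.c₂.NX hz.1
    have h2 := xu (b * z) (X₂.mul_mem hbX hzX) hz1
    rw [T.c₂.mul _ hbX _ hzX, hb1, (T.c₂.ker z hzX).2 hz.1, mul_one] at h2
    have h3 : x1 a = b * z := h2.symm
    rw [h3]
    exact Y.mul_mem hb hz.2
  have ra : na * x1 1 * na = x1 1 * na * x1 1 := by
    refine braid_of_cube na2 (by rw [← add1, addself f.cF]; simp only [hx1]; rw [up_zero, xx1]) ?_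
    simp only [hx1, hna]
    rw [← xm, ← xm, ← xm, jj_up, xx1]
  have nah₂ : na * h₂ * na = h₂⁻¹ := by
    have h1 : na * h₂ * na⁻¹ = h₂⁻¹ := by
      rw [hna, hh2, ← xxi, ← xm, ← xm, jj_IsD T.c₂.dg, xxi]
    rwa [nai] at h1
  have nah₁ : na * h₁ * na = h₁ * h₂ := by
    have e1 : h₂⁻¹ = h₂ * h₂ := by rw [inv_eq_iff_mul_eq_one, ← mul_assoc, f.h₂3]
    calc na * h₁ * na = (na * t) * h₂ * na := by rw [T.h₁_eq]; group
      _ = t * (na * h₂ * na) := by rw [← nat']; group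
      _ = t * h₂⁻¹ := by rw [nah₂]
      _ = t * (h₂ * h₂) := by rw [e1]
      _ = h₁ * h₂ := by rw [← mul_assoc, ← T.h₁_eq]
  -- `R^{nb}`
  have hbn : nb * h₁ * nb⁻¹ = h₁⁻¹ := by rw [nbi]; exact nbh₁
  have hnbV : ∀ v ∈ V, nb * v * nb ∈ V := fun v hv => by
    have := f.nV nb nbX v hv
    rwa [nbi] at this
  have hnbY : ∀ v ∈ Y, nb * v * nb ∈ Y := fun v hv => by
    have := T.c₁.nN nbX hv
    rwa [nbi] at this
  have hnbD : ∀ v ∈ D, nb * v * nb ∈ D := fun v hv => by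
    have := f.nD nb nbX v hv
    rwa [nbi] at this
  have hnaW : ∀ v ∈ W, na * v * na ∈ W := fun v hv => by
    have := T.c₂.nN naX hv
    rwa [nai] at this
  have hRi : ∀ r ∈ R, nb * r * nb ∈ R → r = 1 := fun r hr hr' =>
    f.R_inter T.c₁ nbX nb1 hbn hr (by rwa [nbi])
  -- the elements `y r`
  set y : G → G := fun r => na * (nb * r * nb) * na with hy
  have yW : ∀ r ∈ R, y r ∈ W := fun r hr => hnaW _ (f.VW (hnbV r (f.RV hr)))
  have yX₁ : ∀ r ∈ R, y r ∈ X₁ := fun r hr => f.UX₁ (f.WU (yW r hr))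
  have yh₂ : ∀ r ∈ R, h₂ * y r = y r * h₂ := by
    intro r hr
    have h1 : h₂ * (na * (nb * r * nb) * na) * h₂⁻¹ = na * (nb * r * nb) * na := by
      rw [sq_conj_h na2 nah₂, comm_inv_right (T.h₂V (hnbV r (f.RV hr))).symm |>.symm, inv_inv]
      have h2 := T.h₂V (hnbV r (f.RV hr))
      rw [mul_assoc (nb * r * nb), inv_mul_cancel, mul_one]
    change h₂ * (na * (nb * r * nb) * na) = na * (nb * r * nb) * na * h₂
    calc h₂ * (na * (nb * r * nb) * na) = h₂ * (na * (nb * r * nb) * na) * h₂⁻¹ * h₂ := by group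
      _ = _ := by rw [h1]
  have yY : ∀ r ∈ R, y r ∈ Y → r = 1 := by
    intro r hr hrY
    have h1 := T.CY hrY (yh₂ r hr)
    have h2 := T.V_inter naX na1 nat' (hnbV r (f.RV hr)) (by rw [nai]; exact h1)
    exact hRi r hr h2
  have ym : ∀ r s, y (r * s) = y r * y s := fun r s => by
    simp only [hy]
    rw [sq_conj nb2, sq_conj na2]
  have yinv : ∀ r, y r⁻¹ = (y r)⁻¹ := fun r => by
    have y1 : y 1 = 1 := by simp only [hy]; rw [mul_one, nb2, mul_one, na2]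
    rw [eq_inv_iff_mul_eq_one, ← ym, inv_mul_cancel, y1]
  have yρ : ∀ r ∈ R, ∃ a, ρ₁ (y r) = up a := fun r hr => (T.c₁.up _ (yX₁ r hr)).1 (f.WU (yW r hr))
  have yu : ∀ r ∈ R, ∀ s ∈ R, ρ₁ (y r) = ρ₁ (y s) → r = s := by
    intro r hr s hs h
    rw [T.c₁.eq_iff (yX₁ r hr) (yX₁ s hs), ← yinv, ← ym] at h
    exact inv_mul_eq_one.1 (yY _ (R.mul_mem (R.inv_mem hr) hs) h)
  -- `x4`
  have hsurj : ∀ a : F, ∃ r, r ∈ R ∧ ρ₁ (y r) = up a := by
    choose θ hθ using fun r : R => yρ r r.2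
    have hinj : Function.Injective θ := fun r s hrs =>
      Subtype.ext (yu r r.2 s s.2 (by rw [hθ, hθ, hrs]))
    have finF := fin f.cF
    have hbij := (Nat.bijective_iff_injective_and_card θ).2 ⟨hinj, by rw [f.kR, f.cF]⟩
    intro a
    obtain ⟨r, hr⟩ := hbij.2 a
    exact ⟨r, r.2, by rw [hθ, hr]⟩
  choose x4 x4R x4ρ using hsurj
  have x4u : ∀ r ∈ R, ∀ a, ρ₁ (y r) = up a → r = x4 a := fun r hr a h =>
    yu r hr _ (x4R a) (h.trans (x4ρ a).symm)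
  have add4 : ∀ a b, x4 (a + b) = x4 a * x4 b := by
    intro a b
    refine (x4u _ (R.mul_mem (x4R a) (x4R b)) _ ?_).symm
    rw [ym, T.c₁.mul _ (yX₁ _ (x4R a)) _ (yX₁ _ (x4R b)), x4ρ, x4ρ, up_add]
  have z4 : ∀ a, x4 a = 1 → a = 0 := by
    intro a ha
    have h1 := x4ρ a
    have y1 : y 1 = 1 := by simp only [hy]; rw [mul_one, nb2, mul_one, na2]
    rw [ha, y1, T.c₁.one, ← up_zero] at h1
    exact (up_inj h1).symm
  have hy1 : ∀ r ∈ R, h₁ * y r * h₁⁻¹ = y (h₁⁻¹ * r * h₁) := by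
    intro r hr
    have hV := hnbV r (f.RV hr)
    have e1 : h₂ * (nb * r * nb) * h₂⁻¹ = nb * r * nb := by rw [T.h₂V hV, mul_inv_cancel_right]
    have e2 : h₁ * h₂ * (nb * r * nb) * (h₁ * h₂)⁻¹ = nb * (h₁⁻¹ * r * h₁⁻¹⁻¹) * nb := by
      calc h₁ * h₂ * (nb * r * nb) * (h₁ * h₂)⁻¹ = h₁ * (h₂ * (nb * r * nb) * h₂⁻¹) * h₁⁻¹ := by group
        _ = h₁ * (nb * r * nb) * h₁⁻¹ := by rw [e1]
        _ = _ := sq_conj_h nb2 nbh₁ r
    simp only [hy]
    rw [sq_conj_h na2 nah₁, e2, inv_inv]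
  have x4h : ∀ a, h₁⁻¹ * x4 a * h₁ = x4 (w * a) := by
    intro a
    refine x4u _ (inv_conj f.h₁3 f.h₁R (x4R a)) _ ?_
    rw [← hy1 _ (x4R a)]
    exact T.c₁.conj_h (yX₁ _ (x4R a)) (x4ρ a)
  have q4 : ∀ a, h₁ * x4 a * h₁⁻¹ = x4 (w ^ 2 * a) := by
    intro a
    have h1 := x4h (w ^ 2 * a)
    rw [show w * (w ^ 2 * a) = a by linear_combination a * hw3] at h1
    rw [← h1]; group
  have p4 : ∀ a, h₂ * x4 a * h₂⁻¹ = x4 a := fun a => f.conj_R f.h₂X (x4R a)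
  -- `x2`, `x6`
  set x2 : F → G := fun a => nb * x4 a * nb with hx2
  set x6 : F → G := fun a => na * x2 a * na with hx6
  have x6y : ∀ a, x6 a = y (x4 a) := fun a => rfl
  have x2V : ∀ a, x2 a ∈ V := fun a => hnbV _ (f.RV (x4R a))
  have add2 : ∀ a b, x2 (a + b) = x2 a * x2 b := fun a b => by
    simp only [hx2]; rw [add4, sq_conj nb2]
  have add6 : ∀ a b, x6 (a + b) = x6 a * x6 b := fun a b => by
    simp only [hx6]; rw [add2, sq_conj na2]
  have p2 : ∀ a, h₂ * x2 a * h₂⁻¹ = x2 a := fun a => by rw [T.h₂V (x2V a), mul_inv_cancel_right]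
  have q2 : ∀ a, h₁ * x2 a * h₁⁻¹ = x2 (w * a) := fun a => by
    simp only [hx2]
    rw [sq_conj_h nb2 nbh₁, inv_inv, x4h]
  have p6 : ∀ a, h₂ * x6 a * h₂⁻¹ = x6 a := fun a => by
    rw [x6y, yh₂ _ (x4R a), mul_inv_cancel_right]
  have q6 : ∀ a, h₁ * x6 a * h₁⁻¹ = x6 (w * a) := fun a => by
    rw [x6y, hy1 _ (x4R a), x4h]
  have z6 : ∀ a, x6 a ∈ Y → a = 0 := fun a ha => z4 a (yY _ (x4R a) ha)
  have z2 : ∀ a, x2 a ∈ R → a = 0 := fun a ha => z4 a (hRi _ (x4R a) ha)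
  have a4 : ∀ a, na * x4 a * na = x4 a := fun a => by
    rw [f.cR na naX _ (x4R a), mul_assoc, na2, mul_one]
  have x60 : x6 0 = 1 := left_eq_mul.1 (by rw [← add6, add_zero] : x6 0 = x6 0 * x6 0)
  have rb : nb * x6 1 * nb = x6 1 * nb * x6 1 := by
    refine braid_of_cube nb2 (by rw [← add6, addself f.cF, x60]) ?_
    set g := nb * x6 1 with hg
    have x6X := yX₁ _ (x4R 1)
    have hgX : g ∈ X₁ := X₁.mul_mem nbX x6X
    have hg1 : ρ₁ g = jj * up 1 := by rw [hg, T.c₁.mul _ nbX _ x6X, nb1, x4ρ]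
    have hgc : Commute h₂ g := by
      have c1 : Commute h₂ nb := by
        change h₂ * nb = nb * h₂
        calc h₂ * nb = (nb * h₂ * nb) * nb := by rw [nbh₂]
          _ = nb * h₂ * (nb * nb) := by group
          _ = _ := by rw [nb2, mul_one]
      exact c1.mul_right (yh₂ _ (x4R 1))
    have hY : g * g * g ∈ Y := by
      rw [← T.c₁.ker _ (X₁.mul_mem (X₁.mul_mem hgX hgX) hgX), T.c₁.mul _ (X₁.mul_mem hgX hgX) _ hgX,
        T.c₁.mul _ hgX _ hgX, hg1, jj_up]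
    have hV : g * g * g ∈ V := T.CY hY ((hgc.mul_right hgc).mul_right hgc).eq
    obtain ⟨P, hP⟩ := jj_up_conj f.cF hw T.c₁.dg
    obtain ⟨p, hp, hp1⟩ := T.c₁.surj P
    set v := g * g * g with hv
    have hcv : Commute g v := ((Commute.refl g).mul_right (Commute.refl g)).mul_right (Commute.refl g)
    have hpg : p * g * p⁻¹ ∈ X₁ := X₁.mul_mem (X₁.mul_mem hp hgX) (X₁.inv_mem hp)
    have hyy : h₁⁻¹ * (p * g * p⁻¹) ∈ Y := by
      rw [← T.c₁.eq_iff f.h₁X hpg, T.c₁.conj hp hgX, hp1, hg1, hP]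
    have hv' : p * v * p⁻¹ ∈ V := f.nV p hp v hV
    have h1 : h₁ * (p * v * p⁻¹) = (p * v * p⁻¹) * h₁ := by
      have e1 : p * g * p⁻¹ * (p * v * p⁻¹) = (p * v * p⁻¹) * (p * g * p⁻¹) := by
        calc p * g * p⁻¹ * (p * v * p⁻¹) = p * (g * v) * p⁻¹ := by group
          _ = _ := by rw [hcv.eq]; group
      have e2 := f.YV _ hyy _ hv'
      set q := h₁⁻¹ * (p * g * p⁻¹) with hq
      have e3 : h₁ = p * g * p⁻¹ * q⁻¹ := by rw [hq]; group
      have e4 : q⁻¹ * (p * v * p⁻¹) = (p * v * p⁻¹) * q⁻¹ := by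
        calc q⁻¹ * (p * v * p⁻¹) = q⁻¹ * ((p * v * p⁻¹) * q) * q⁻¹ := by group
          _ = _ := by rw [← e2]; group
      calc h₁ * (p * v * p⁻¹) = p * g * p⁻¹ * (q⁻¹ * (p * v * p⁻¹)) := by rw [e3]; group
        _ = (p * g * p⁻¹ * (p * v * p⁻¹)) * q⁻¹ := by rw [e4, ← mul_assoc]
        _ = (p * v * p⁻¹) * (p * g * p⁻¹ * q⁻¹) := by rw [e1]; group
        _ = _ := by rw [← e3]
    have h2 := f.fp_h₁V T.c₁ hv' h1
    calc v = p⁻¹ * (p * v * p⁻¹) * p := by group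
      _ = 1 := by rw [h2]; group
  -- `x5`, `x3`
  set x5 : F → G := fun a => nb * x1 a * nb with hx5
  set x3 : F → G := fun a => na * x5 a * na with hx3
  have add5 : ∀ a b, x5 (a + b) = x5 a * x5 b := fun a b => by
    simp only [hx5]; rw [add1, sq_conj nb2]
  have add3 : ∀ a b, x3 (a + b) = x3 a * x3 b := fun a b => by
    simp only [hx3]; rw [add5, sq_conj na2]
  have x5Y : ∀ a, x5 a ∈ Y := fun a => hnbY _ (x1Y a)
  have p5 : ∀ a, h₂ * x5 a * h₂⁻¹ = x5 (w * a) := fun a => by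
    simp only [hx5]; rw [sq_conj_h nb2 nbh₂, p1]
  have p1' : ∀ a, h₂⁻¹ * x1 a * h₂ = x1 (w ^ 2 * a) := fun a => by
    have h1 := p1 (w ^ 2 * a)
    rw [show w * (w ^ 2 * a) = a by linear_combination a * hw3] at h1
    rw [← h1]; group
  have q1' : ∀ a, h₁⁻¹ * x1 a * h₁ = x1 (w ^ 2 * a) := fun a => by
    have h1 := q1 (w ^ 2 * a)
    rw [show w * (w ^ 2 * a) = a by linear_combination a * hw3] at h1
    rw [← h1]; group
  have p5' : ∀ a, h₂⁻¹ * x5 a * h₂ = x5 (w ^ 2 * a) := fun a => by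
    have h1 := p5 (w ^ 2 * a)
    rw [show w * (w ^ 2 * a) = a by linear_combination a * hw3] at h1
    rw [← h1]; group
  have q5 : ∀ a, h₁ * x5 a * h₁⁻¹ = x5 (w ^ 2 * a) := fun a => by
    simp only [hx5]; rw [sq_conj_h nb2 nbh₁, inv_inv, q1']
  have p3 : ∀ a, h₂ * x3 a * h₂⁻¹ = x3 (w ^ 2 * a) := fun a => by
    simp only [hx3]; rw [sq_conj_h na2 nah₂, inv_inv, p5']
  have q3 : ∀ a, h₁ * x3 a * h₁⁻¹ = x3 a := fun a => by
    have e : h₁ * h₂ * x5 a * (h₁ * h₂)⁻¹ = x5 a := by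
      have e1 : h₁ * h₂ * x5 a * (h₁ * h₂)⁻¹ = h₁ * (h₂ * x5 a * h₂⁻¹) * h₁⁻¹ := by group
      rw [e1, p5, q5, show w ^ 2 * (w * a) = a by linear_combination a * hw3]
    simp only [hx3]; rw [sq_conj_h na2 nah₁, e]
  have q3' : ∀ a, h₁ * x3 a = x3 a * h₁ := fun a => by
    calc h₁ * x3 a = h₁ * x3 a * h₁⁻¹ * h₁ := by group
      _ = _ := by rw [q3]
  have x5W : ∀ a, x5 a ∈ W := fun a => by
    refine T.fixW (f.YU (x5Y a)) (Or.inr (Or.inr rfl)) ?_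
    have e : h₁ * h₂ * x5 a * (h₁ * h₂)⁻¹ = x5 a := by
      have e1 : h₁ * h₂ * x5 a * (h₁ * h₂)⁻¹ = h₁ * (h₂ * x5 a * h₂⁻¹) * h₁⁻¹ := by group
      rw [e1, p5, q5, show w ^ 2 * (w * a) = a by linear_combination a * hw3]
    calc h₁ * h₂ * x5 a = h₁ * h₂ * x5 a * (h₁ * h₂)⁻¹ * (h₁ * h₂) := by group
      _ = _ := by rw [e]
  have x3W : ∀ a, x3 a ∈ W := fun a => hnaW _ (x5W a)
  have x3Y : ∀ a, x3 a ∈ Y := fun a => T.fixY (f.WU (x3W a)) (q3' a)
  have nbq : ∀ a, h₁ * (nb * x3 a * nb) = (nb * x3 a * nb) * h₁ := fun a => by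
    have h1 : h₁ * (nb * x3 a * nb) * h₁⁻¹ = nb * x3 a * nb := by
      rw [sq_conj_h nb2 nbh₁, inv_inv]
      have h2 : h₁⁻¹ * x3 a * h₁ = x3 a := by
        rw [mul_assoc, ← q3', inv_mul_cancel_left]
      rw [h2]
    calc h₁ * (nb * x3 a * nb) = h₁ * (nb * x3 a * nb) * h₁⁻¹ * h₁ := by group
      _ = _ := by rw [h1]
  have hnbR := f.j_R T.c₁ nbX nb1
  have x3D : ∀ a, x3 a ∈ D := fun a => by
    refine f.D_of nb nbX hnbR _ (x3W a) ?_
    rw [nbi]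
    exact T.fixW (f.YU (hnbY _ (x3Y a))) (Or.inr (Or.inl rfl)) (nbq a)
  have x10 : x1 0 = 1 := left_eq_mul.1 (by rw [← add1, add_zero] : x1 0 = x1 0 * x1 0)
  have x30 : x3 0 = 1 := left_eq_mul.1 (by rw [← add3, add_zero] : x3 0 = x3 0 * x3 0)
  have z5 : ∀ a, x5 a ∈ D → a = 0 := fun a ha => by
    have h1 := hnbD _ ha
    simp only [hx5] at h1
    rw [sq_conj_conj nb2] at h1
    exact x1z a (f.DW h1)
  have z3' : ∀ a, x3 a = 1 → a = 0 := fun a ha => by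
    apply z5
    have h1 : na * x3 a * na = 1 := by rw [ha, mul_one, na2]
    simp only [hx3] at h1
    rw [sq_conj_conj na2] at h1
    rw [h1]; exact D.one_mem
  have z3 : ∀ a, x3 a ∈ V → a = 0 := fun a ha => z3' a (f.fp_h₁V T.c₁ ha (q3' a))
  -- `nb` centralises `x3`
  have x3s : ∀ d ∈ D, h₁ * d = d * h₁ → ∃ a, d = x3 a := by
    let m : F × V → D := fun p => ⟨x3 p.1 * p.2, D.mul_mem (x3D _) (f.VD p.2.2)⟩
    have hinj : Function.Injective m := by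
      rintro ⟨a, v⟩ ⟨b, v'⟩ h
      have h1 : x3 a * v = x3 b * v' := congrArg Subtype.val h
      have h2 : x3 (a + b) ∈ V := by
        have h3 : x3 b * x3 b = 1 := by rw [← add3, addself f.cF, x30]
        have h4 : (x3 b)⁻¹ = x3 b := inv_eq_of_mul_eq_one_right h3
        have h5 : x3 (b + a) = (v' : G) * (v : G)⁻¹ := by
          calc x3 (b + a) = (x3 b)⁻¹ * (x3 a * v) * (v : G)⁻¹ := by rw [add3, h4]; group
            _ = _ := by rw [h1]; group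
        rw [add_comm, h5]
        exact V.mul_mem v'.2 (V.inv_mem v.2)
      have h3 : a = b := eqadd f.cF (z3 _ h2)
      subst h3
      have h4 : (v : G) = v' := mul_left_cancel h1
      exact Prod.ext rfl (Subtype.ext h4)
    have finF := fin f.cF
    have hbij := (Nat.bijective_iff_injective_and_card m).2 ⟨hinj, by
      rw [Nat.card_prod, f.cF, f.kV, f.kD]⟩
    intro d hd hdh
    obtain ⟨⟨a, v⟩, hav⟩ := hbij.2 ⟨d, hd⟩
    have h1 : x3 a * v = d := congrArg Subtype.val hav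
    refine ⟨a, ?_⟩
    have h2 : (v : G) = 1 := by
      refine f.fp_h₁V T.c₁ v.2 ?_
      have h3 : (v : G) = (x3 a)⁻¹ * d := by rw [← h1]; group
      rw [h3]
      have c1 : Commute h₁ (x3 a) := q3' a
      have c2 : Commute h₁ d := hdh
      exact (c1.inv_right.mul_right c2).eq
    rw [← h1, h2, mul_one]
  obtain ⟨c, hc⟩ := x3s _ (hnbD _ (x3D 1)) (nbq 1)
  have hb3 : ∀ a, nb * x3 a * nb = x3 (c * a) → nb * x3 (w ^ 2 * a) * nb = x3 (c * (w ^ 2 * a)) := by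
    intro a ha
    have h1 := sq_conj_h nb2 nbh₂ (x3 a)
    rw [ha, p3, p3] at h1
    rw [← h1]; congr 1; ring
  have hb3' : ∀ a, nb * x3 a * nb = x3 (c * a) := by
    intro a
    have k1 : nb * x3 1 * nb = x3 (c * 1) := by rw [mul_one]; exact hc
    have k2 := hb3 _ k1
    have k3 := hb3 _ k2
    rcases Ch.cases4 f.cF hw a with ha | ha | ha | ha <;> rw [ha]
    · rw [mul_zero, x30, mul_one, nb2]
    · exact k1
    · rw [show w ^ 2 * (w ^ 2 * 1) = w by linear_combination w * hw3] at k3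
      exact k3
    · rw [mul_one] at k2; exact k2
  have hcc : c = 1 := by
    have h1 : x3 1 = x3 (c * c) := by
      rw [← hb3' c, ← hc]
      exact (sq_conj_conj nb2 _).symm
    have h2 : x3 (1 + c * c) = 1 := by
      rw [add3, ← h1, ← add3, addself f.cF, x30]
    have h3 := z3' _ h2
    have h4 : (1 + c) * (1 + c) = 0 := by linear_combination h3 + c * tw
    have h5 := mul_self_eq_zero.1 h4
    linear_combination h5 - tw
  refine ⟨na, nb, x1, x2, x3, x4, x5, x6, ?_⟩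
  exact
    { w2 := hw
      add1 := add1
      add2 := add2
      add3 := add3
      add4 := add4
      add5 := add5
      add6 := add6
      p1 := p1
      p2 := p2
      p3 := p3
      p4 := p4
      p5 := p5
      p6 := p6
      q1 := q1
      q2 := q2
      q3 := q3
      q4 := q4
      q5 := q5
      q6 := q6
      naX := naX
      nbX := nbX
      na2 := na2
      nb2 := nb2
      nah₁ := nah₁
      nah₂ := nah₂
      nbh₁ := nbh₁
      nbh₂ := nbh₂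
      nbR := hnbR
      a2 := fun a => rfl
      a3 := fun a => sq_conj_conj na2 _
      a4 := a4
      b1 := fun a => rfl
      b2 := fun a => sq_conj_conj nb2 _
      b3 := fun a => by rw [hb3', hcc, one_mul]
      ra := ra
      rb := rb
      m1 := x1Y
      m2 := x2V
      m3 := x3D
      m4 := x4R
      m5 := x5W
      m5' := x5Y
      m6 := fun a => yW _ (x4R a)
      z1 := x1z
      z2 := z2
      z3 := z3
      z4 := z4
      z5 := z5
      z6 := z6 }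

end FT

/-- **the root groups of the pair of type `G₂(4)`** -/
theorem Four.exists_rts {F : Type*} [Field F] {G : Type*} [Group G] [Finite G]
    {X₁ X₂ U V R W Y D : Subgroup G} {h₁ h₂ : G} (f : Four F X₁ X₂ U V R W Y D h₁ h₂) :
    ∃ (h : G) (w : F) (na nb : G) (x1 x2 x3 x4 x5 x6 : F → G), (h = h₁ ∨ h = h₁⁻¹) ∧
      Four F X₁ X₂ U V R W Y D h h₂ ∧ Rts X₁ X₂ V R W Y D h h₂ na nb w x1 x2 x3 x4 x5 x6 := by
  obtain ⟨w₁, ρ₁, c₁⟩ := f.exists_c₁
  obtain ⟨w₂, ρ₂, c₂⟩ := f.exists_c₂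
  obtain ⟨h, hh, f', hρ⟩ := f.exists_sign c₁ c₂
  obtain ⟨w₁', ρ₁', c₁'⟩ := f'.exists_c₁
  have key : ∃ ρ : G → SL(2, F), Ch X₁ Y U h w₂ ρ := by
    have h1 : (w₂ - w₁') * (w₂ - w₁' ^ 2) = 0 := by
      linear_combination c₂.w2 - w₂ * c₁'.w2 + (w₁' - 1) * c₁'.w2
    rcases mul_eq_zero.1 h1 with h2 | h2
    · rw [sub_eq_zero.1 h2]
      exact ⟨ρ₁', c₁'⟩
    · rw [sub_eq_zero.1 h2]
      exact c₁'.exists_twist
  obtain ⟨ρ, c⟩ := key
  have T : FT F X₁ X₂ U V R W Y D h h₂ w₂ w₂ ρ ρ₂ (h * h₂⁻¹) := ⟨f', c, c₂, rfl, hρ⟩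
  obtain ⟨na, nb, x1, x2, x3, x4, x5, x6, hr⟩ := T.exists_rts
  exact ⟨h, w₂, na, nb, x1, x2, x3, x4, x5, x6, hh, f', hr⟩

end Cfsg.Agent.Omega.GTwoFour.Id
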