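import Cfsg.Agent.Omega.GTwoFour.Pos
import Cfsg.Agent.HexRec.OfPair
import Mathlib.FieldTheory.Finite.GaloisField

/-!
# From the product law `mu` to `HexRec.Coord`
-/

set_option autoImplicit false

namespace Cfsg.Agent.Omega.GTwoFour.ToCoord

open Cfsg.Agent.HexRec Subgroup Cfsg.Agent.Hex.Defs

universe u v w

/-- the product law of `OfPair.cubic` for `K = F` is `mu` -/
theorem mul_eq {F : Type v} [Field F] (h2 : (2 : F) = 0) (a b : Tup F F) :
    (OfPair.cubic (OfPair.pair_one h2 : CubicPair (AlgEquiv.refl : F ≃ₐ[F] F))).mul a b = mu a b := by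
  set C := OfPair.cubic (OfPair.pair_one h2 : CubicPair (AlgEquiv.refl : F ≃ₐ[F] F)) with hC
  have hT : ∀ a b, C.T a b = a * b := by
    intro a b
    rw [hC, OfPair.cubic_T]
    have := algebraMap_tr (OfPair.pair_one h2 : CubicPair (AlgEquiv.refl : F ≃ₐ[F] F)) (a * b)
    rw [Algebra.algebraMap_self, RingHom.id_apply] at this
    rw [this]
    change a * b + a * b + a * b = a * b
    linear_combination a * b * h2
  have hs : ∀ a, C.sh a = a ^ 2 := by
    intro a
    rw [hC, OfPair.cubic_sh]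
    change a * a = a ^ 2
    ring
  have hN : ∀ a, C.N a = a ^ 3 := by
    intro a
    have := C.N_map a
    rw [Algebra.algebraMap_self, RingHom.id_apply, hs] at this
    rw [this]; ring
  have hcr : ∀ a b, C.cr a b = 0 := by
    intro a b
    unfold Cubic.cr
    rw [hs, hs, hs]
    linear_combination (a ^ 2 + b ^ 2 + a * b) * h2
  ext <;> simp only [Cubic.mul, mu, hT, hs, hN, hcr, smul_eq_mul, add_zero]

/-- change of the field -/
def tr {F : Type v} {F₀ : Type w} [Field F] [Field F₀] (σ : F₀ →+* F) (a : Tup F₀ F₀) : Tup F F :=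
  ⟨σ a.a1, σ a.a2, σ a.a3, σ a.a4, σ a.a5, σ a.a6⟩

theorem tr_mu {F : Type v} {F₀ : Type w} [Field F] [Field F₀] (σ : F₀ →+* F) (a b : Tup F₀ F₀) :
    tr σ (mu a b) = mu (tr σ a) (tr σ b) := by
  ext <;> simp only [tr, mu, map_add, map_mul, map_pow]

theorem tr_bij {F : Type v} {F₀ : Type w} [Field F] [Field F₀] (σ : F₀ ≃+* F) :
    Function.Bijective (tr (σ : F₀ →+* F)) := by
  constructor
  · intro a b hab
    ext
    · exact σ.injective (congrArg Tup.a1 hab)
    · exact σ.injective (congrArg Tup.a2 hab)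
    · exact σ.injective (congrArg Tup.a3 hab)
    · exact σ.injective (congrArg Tup.a4 hab)
    · exact σ.injective (congrArg Tup.a5 hab)
    · exact σ.injective (congrArg Tup.a6 hab)
  · intro a
    refine ⟨⟨σ.symm a.a1, σ.symm a.a2, σ.symm a.a3, σ.symm a.a4, σ.symm a.a5, σ.symm a.a6⟩, ?_⟩
    ext <;> exact σ.apply_symm_apply _

/-- `mu` in coordinates gives `Coord` -/
theorem coord_of {F : Type v} [Field F] (h2 : (2 : F) = 0) {S : Type u} [Group S] {Z : Tup F F → S}
    (hZ : Function.Bijective Z) (hmul : ∀ a b, Z a * Z b = Z (mu a b)) :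
    Nonempty (Coord (OfPair.cubic (OfPair.pair_one h2 : CubicPair (AlgEquiv.refl : F ≃ₐ[F] F))) S) := by
  obtain ⟨e, he⟩ : ∃ e : Tup F F ≃ S, ∀ a, e a = Z a := ⟨Equiv.ofBijective Z hZ, fun a => rfl⟩
  have key : ∀ g h : S, e.symm (g * h) = mu (e.symm g) (e.symm h) := by
    intro g h
    rw [Equiv.symm_apply_eq, he, ← hmul, ← he, ← he, e.apply_symm_apply, e.apply_symm_apply]
  exact ⟨{ e := e.symm, map_mul := fun g h => (key g h).trans (mul_eq h2 _ _).symm }⟩

/-- coordinates in `Type` -/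
theorem exists_coord {F : Type v} [Field F] (hF : Nat.card F = 4) {G : Type u} [Group G] {X : Tup F F → G}
    (hinj : Function.Injective X) (hmul : ∀ a b, X a * X b = X (mu a b)) {S : Subgroup G}
    (hS : ∀ g, g ∈ S ↔ ∃ a, X a = g) {F₀ : Type} [Field F₀] [Fintype F₀] (h0 : Fintype.card F₀ = 4)
    (h2 : (2 : F₀) = 0) :
    Nonempty (Coord (OfPair.cubic (OfPair.pair_one h2 : CubicPair (AlgEquiv.refl : F₀ ≃ₐ[F₀] F₀))) S) := by
  have : Finite F := fin hF
  have := Fintype.ofFinite F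
  obtain ⟨σ⟩ : Nonempty (F₀ ≃+* F) :=
    ⟨FiniteField.ringEquivOfCardEq (by rw [h0, ← Nat.card_eq_fintype_card, hF])⟩
  have hb := tr_bij σ
  have hmem : ∀ a : Tup F₀ F₀, X (tr (σ : F₀ →+* F) a) ∈ S := fun a => (hS _).mpr ⟨_, rfl⟩
  have hZ : Function.Bijective (fun a : Tup F₀ F₀ => (⟨X (tr (σ : F₀ →+* F) a), hmem a⟩ : S)) := by
    constructor
    · intro a b hab
      exact hb.1 (hinj (congrArg Subtype.val hab))
    · rintro ⟨g, hg⟩
      obtain ⟨a, rfl⟩ := (hS g).mp hg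
      obtain ⟨b, rfl⟩ := hb.2 a
      exact ⟨b, rfl⟩
  refine coord_of h2 hZ fun a b => Subtype.ext ?_
  change X (tr (σ : F₀ →+* F) a) * X (tr (σ : F₀ →+* F) b) = X (tr (σ : F₀ →+* F) (mu a b))
  rw [hmul, tr_mu]

end Cfsg.Agent.Omega.GTwoFour.ToCoord
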