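import Cfsg.Agent.Omega.GTwoFour.IdRts
import Cfsg.Agent.Omega.GTwoFour.ToCoord

/-!
# From the root groups to `Pos24`

`Four` and `Rts` give `RD` (all structure constants are `1`), hence the coordinates `Pos24`.
-/

set_option autoImplicit false
set_option linter.unusedSectionVars false

namespace Cfsg.Agent.Omega.GTwoFour.Id

open Subgroup Cfsg.Agent.HexRec Cfsg.Agent.HexRec.OfHexRel Cfsg.Agent.Omega.GTwoFour
open scoped MatrixGroups

variable {F : Type*} [Field F] {G : Type*} [Group G]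

/-! ### powers of an element of order three indexed by `F*` -/

open Classical in
/-- `g ^ k` for `c = w ^ k` -/
noncomputable def pw (w : F) (g : G) (c : F) : G := if c = 1 then 1 else if c = w then g else g⁻¹

section pw

variable (hF : Nat.card F = 4) {w : F} (hw : w ^ 2 + w + 1 = 0) {g : G} {y : F → G}

theorem el3 (hF : Nat.card F = 4) {w : F} (hw : w ^ 2 + w + 1 = 0) {c : F} (hc : c ≠ 0) :
    c = 1 ∨ (c ≠ 1 ∧ c = w) ∨ (c ≠ 1 ∧ c ≠ w ∧ c = w ^ 2) := by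
  have h3 := cube hF hc
  have hw3 : w ^ 3 = 1 := by linear_combination (w - 1) * hw
  have h4 : (c - 1) * ((c - w) * (c - w ^ 2)) = 0 := by
    linear_combination h3 - (c ^ 2 - c) * hw + (c - 1) * hw3
  by_cases h1 : c = 1
  · exact Or.inl h1
  right
  by_cases h2 : c = w
  · exact Or.inl ⟨h1, h2⟩
  · right
    refine ⟨h1, h2, ?_⟩
    rcases mul_eq_zero.mp h4 with h5 | h5
    · exact absurd (sub_eq_zero.mp h5) h1
    · rcases mul_eq_zero.mp h5 with h6 | h6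
      · exact absurd (sub_eq_zero.mp h6) h2
      · exact sub_eq_zero.mp h6

theorem inv_act {g : G} {y : F → G} {k k' : F} (hk : k * k' = 1) (hy : ∀ a, g * y a * g⁻¹ = y (k * a)) (a : F) :
    g⁻¹ * y a * g = y (k' * a) := by
  have h1 := hy (k' * a)
  rw [← mul_assoc, hk, one_mul] at h1
  rw [← h1]; group

include hF hw

theorem pw_zero (hy : ∀ a, g * y a * g⁻¹ = y a) {c : F} (hc : c ≠ 0) (a : F) :
    pw w g c * y a = y a * pw w g c := by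
  have hy' : ∀ a, g⁻¹ * y a * g = y a := fun a => by
    have := inv_act (g := g) (y := y) (k := (1 : F)) (k' := 1) (one_mul 1)
      (fun a => by rw [one_mul]; exact hy a) a
    rwa [one_mul] at this
  rcases el3 hF hw hc with h | ⟨h1, h⟩ | ⟨h1, h2, h⟩
  · rw [pw, if_pos h]; group
  · rw [pw, if_neg h1, if_pos h]
    exact mul_inv_eq_iff_eq_mul.mp (hy a)
  · rw [pw, if_neg h1, if_neg h2]
    conv_rhs => rw [← hy' a]
    group

theorem pw_zero' (hy : ∀ a, g * y a * g⁻¹ = y a) {c : F} (hc : c ≠ 0) (a : F) :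
    pw w g c * y a = y (1 * a) * pw w g c := by
  rw [one_mul]
  exact pw_zero hF hw hy hc a

theorem pw_one (hy : ∀ a, g * y a * g⁻¹ = y (w * a)) {c : F} (hc : c ≠ 0) (a : F) :
    pw w g c * y a = y (c * a) * pw w g c := by
  have hw3 : w ^ 3 = 1 := by linear_combination (w - 1) * hw
  rcases el3 hF hw hc with h | ⟨h1, h⟩ | ⟨h1, h2, h⟩
  · rw [pw, if_pos h, h, one_mul]; group
  · rw [pw, if_neg h1, if_pos h, h]
    exact mul_inv_eq_iff_eq_mul.mp (hy a)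
  · rw [pw, if_neg h1, if_neg h2, h]
    rw [← inv_act (k' := w ^ 2) (by rw [← hw3]; ring) hy a]
    group

theorem pw_two (hy : ∀ a, g * y a * g⁻¹ = y (w ^ 2 * a)) {c : F} (hc : c ≠ 0) (a : F) :
    pw w g c * y a = y (c⁻¹ * a) * pw w g c := by
  have hw3 : w ^ 3 = 1 := by linear_combination (w - 1) * hw
  have hw0 : w ≠ 0 := by rintro rfl; simp at hw
  rcases el3 hF hw hc with h | ⟨h1, h⟩ | ⟨h1, h2, h⟩
  · rw [pw, if_pos h, h, inv_one, one_mul]; group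
  · rw [pw, if_neg h1, if_pos h, h]
    have : w⁻¹ = w ^ 2 := inv_eq_of_mul_eq_one_right (by rw [← hw3]; ring)
    rw [this]
    exact mul_inv_eq_iff_eq_mul.mp (hy a)
  · rw [pw, if_neg h1, if_neg h2, h]
    have : (w ^ 2)⁻¹ = w := inv_eq_of_mul_eq_one_right (by rw [← hw3]; ring)
    rw [this, ← inv_act (k' := w) (by rw [← hw3]; ring) hy a]
    group

omit hF hw in
theorem pw_mem {w : F} {g : G} {K : Subgroup G} (hg : g ∈ K) (c : F) : pw w g c ∈ K := by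
  unfold pw
  split_ifs
  · exact K.one_mem
  · exact hg
  · exact K.inv_mem hg

end pw

variable [Finite G] {X₁ X₂ U V R W Y D : Subgroup G} {h₁ h₂ na nb : G} {w : F} {x1 x2 x3 x4 x5 x6 : F → G}

namespace Rts

variable (r : Rts X₁ X₂ V R W Y D h₁ h₂ na nb w x1 x2 x3 x4 x5 x6)
  (f : Four F X₁ X₂ U V R W Y D h₁ h₂)

section basic
include r

theorem e1 : x1 0 = 1 := left_eq_mul.1 (by rw [← r.add1, add_zero] : x1 0 = x1 0 * x1 0)
theorem e2 : x2 0 = 1 := left_eq_mul.1 (by rw [← r.add2, add_zero] : x2 0 = x2 0 * x2 0)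
theorem e3 : x3 0 = 1 := left_eq_mul.1 (by rw [← r.add3, add_zero] : x3 0 = x3 0 * x3 0)
theorem e4 : x4 0 = 1 := left_eq_mul.1 (by rw [← r.add4, add_zero] : x4 0 = x4 0 * x4 0)
theorem e5 : x5 0 = 1 := left_eq_mul.1 (by rw [← r.add5, add_zero] : x5 0 = x5 0 * x5 0)
theorem e6 : x6 0 = 1 := left_eq_mul.1 (by rw [← r.add6, add_zero] : x6 0 = x6 0 * x6 0)

theorem na_inv : na⁻¹ = na := inv_eq_of_mul_eq_one_right r.na2
theorem nb_inv : nb⁻¹ = nb := inv_eq_of_mul_eq_one_right r.nb2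

theorem a6 (a : F) : na * x6 a * na = x2 a := by
  rw [← r.a2 a]
  calc na * (na * x2 a * na) * na = (na * na) * x2 a * (na * na) := by group
    _ = x2 a := by rw [r.na2]; group
theorem a5 (a : F) : na * x5 a * na = x3 a := by
  rw [← r.a3 a]
  calc na * (na * x3 a * na) * na = (na * na) * x3 a * (na * na) := by group
    _ = x3 a := by rw [r.na2]; group
theorem b5 (a : F) : nb * x5 a * nb = x1 a := by
  rw [← r.b1 a]
  calc nb * (nb * x1 a * nb) * nb = (nb * nb) * x1 a * (nb * nb) := by group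
    _ = x1 a := by rw [r.nb2]; group
theorem b4 (a : F) : nb * x4 a * nb = x2 a := by
  rw [← r.b2 a]
  calc nb * (nb * x2 a * nb) * nb = (nb * nb) * x2 a * (nb * nb) := by group
    _ = x2 a := by rw [r.nb2]; group

end basic

section both
include r f

theorem m3Y (a : F) : x3 a ∈ Y := f.DY (r.m3 a)
theorem m2Y (a : F) : x2 a ∈ Y := f.VY (r.m2 a)
theorem m4V (a : F) : x4 a ∈ V := f.RV (r.m4 a)
theorem m4Y (a : F) : x4 a ∈ Y := f.VY (r.m4V f a)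
theorem m2D (a : F) : x2 a ∈ D := f.VD (r.m2 a)
theorem m4D (a : F) : x4 a ∈ D := f.VD (r.m4V f a)
theorem m2W (a : F) : x2 a ∈ W := f.VW (r.m2 a)
theorem m3W (a : F) : x3 a ∈ W := f.DW (r.m3 a)
theorem m4W (a : F) : x4 a ∈ W := f.VW (r.m4V f a)

theorem r21 (t a : F) : x2 t * x1 a = x1 a * x2 t := (f.YV _ (r.m1 a) _ (r.m2 t)).symm
theorem r41 (t a : F) : x4 t * x1 a = x1 a * x4 t := (f.YV _ (r.m1 a) _ (r.m4V f t)).symm
theorem r32 (b t : F) : x3 b * x2 t = x2 t * x3 b := f.YV _ (r.m3Y f b) _ (r.m2 t)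
theorem r42 (b t : F) : x4 b * x2 t = x2 t * x4 b := f.YV _ (r.m4Y f b) _ (r.m2 t)
theorem r52 (b t : F) : x5 b * x2 t = x2 t * x5 b := f.YV _ (r.m5' b) _ (r.m2 t)
theorem r43 (b t : F) : x4 b * x3 t = x3 t * x4 b := (f.YV _ (r.m3Y f t) _ (r.m4V f b)).symm
theorem r54 (b t : F) : x5 b * x4 t = x4 t * x5 b := f.YV _ (r.m5' b) _ (r.m4V f t)
theorem r64 (b t : F) : x6 b * x4 t = x4 t * x6 b :=
  f.cR _ (f.UX₂ (f.WU (r.m6 b))) _ (r.m4 t)
theorem r63 (b t : F) : x6 b * x3 t = x3 t * x6 b := by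
  rw [← r.a2 b, ← r.a5 t]
  have h := r.r52 f t b
  calc na * x2 b * na * (na * x5 t * na) = na * x2 b * (na * na) * x5 t * na := by group
    _ = na * (x2 b * x5 t) * na := by rw [r.na2]; group
    _ = na * (x5 t * x2 b) * na := by rw [h]
    _ = na * x5 t * (na * na) * x2 b * na := by rw [r.na2]; group
    _ = _ := by group
theorem r65 (b t : F) : x6 b * x5 t = x5 t * x6 b := by
  rw [← r.a2 b, ← r.a3 t]
  have h := r.r32 f t b
  calc na * x2 b * na * (na * x3 t * na) = na * x2 b * (na * na) * x3 t * na := by group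
    _ = na * (x2 b * x3 t) * na := by rw [r.na2]; group
    _ = na * (x3 t * x2 b) * na := by rw [h]
    _ = na * x3 t * (na * na) * x2 b * na := by rw [r.na2]; group
    _ = _ := by group

/-! ### the layers -/

end both

end Rts

theorem add_inv (hF : Nat.card F = 4) {y : F → G} (hadd : ∀ s t, y (s + t) = y s * y t) (b : F) :
    (y b)⁻¹ = y b := by
  apply inv_eq_of_mul_eq_one_right
  rw [← hadd, addself hF]
  exact left_eq_mul.1 (by rw [← hadd, add_zero] : y 0 = y 0 * y 0)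

theorem eq_of_r (hF : Nat.card F = 4) {y : F → G} (hadd : ∀ s t, y (s + t) = y s * y t) {K : Subgroup G}
    (z : ∀ a, y a ∈ K → a = 0) {a b : F} (h : y a * (y b)⁻¹ ∈ K) : a = b := by
  rw [add_inv hF hadd, ← hadd] at h
  exact eqadd hF (z _ h)

theorem eq_of_l (hF : Nat.card F = 4) {y : F → G} (hadd : ∀ s t, y (s + t) = y s * y t) {K : Subgroup G}
    (z : ∀ a, y a ∈ K → a = 0) {a b : F} (h : (y b)⁻¹ * y a ∈ K) : a = b := by
  rw [add_inv hF hadd, ← hadd] at h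
  exact (eqadd hF (z _ h)).symm

theorem surj_of {α : Type*} {K : Subgroup G} [Finite K] {e : α → G} (he : ∀ a, e a ∈ K)
    (hi : Function.Injective e) (hc : Nat.card K ≤ Nat.card α) {g : G} (hg : g ∈ K) : ∃ a, e a = g := by
  have h1 : Function.Injective (fun a => (⟨e a, he a⟩ : K)) := fun a b hab => hi (congrArg Subtype.val hab)
  have h2 := (h1.bijective_of_nat_card_le hc).2 ⟨g, hg⟩
  obtain ⟨a, ha⟩ := h2
  exact ⟨a, congrArg Subtype.val ha⟩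

namespace Rts

variable (r : Rts X₁ X₂ V R W Y D h₁ h₂ na nb w x1 x2 x3 x4 x5 x6)
  (f : Four F X₁ X₂ U V R W Y D h₁ h₂)

section both
include r f

theorem pm_inj : Function.Injective (PosRel.pm x1 x2 x3 x4 x5 x6) := by
  intro a b hab
  unfold PosRel.pm at hab
  have k1 : ∀ a b : F, (x1 b)⁻¹ * x1 a ∈ W → a = b := fun a b => eq_of_l f.cF r.add1 r.z1
  have k2 : ∀ a b : F, (x2 b)⁻¹ * x2 a ∈ R → a = b := fun a b => eq_of_l f.cF r.add2 r.z2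
  have k3 : ∀ a b : F, (x3 b)⁻¹ * x3 a ∈ V → a = b := fun a b => eq_of_l f.cF r.add3 r.z3
  have k4 : ∀ a b : F, (x4 b)⁻¹ * x4 a ∈ (⊥ : Subgroup G) → a = b := fun a b =>
    eq_of_l f.cF r.add4 (fun a ha => r.z4 a (mem_bot.1 ha))
  have k5 : ∀ a b : F, x5 a * (x5 b)⁻¹ ∈ D → a = b := fun a b => eq_of_r f.cF r.add5 r.z5
  have k6 : ∀ a b : F, x6 a * (x6 b)⁻¹ ∈ Y → a = b := fun a b => eq_of_r f.cF r.add6 r.z6
  have e1 : a.a1 = b.a1 := by
    apply k1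
    have h1 : ∀ c : Tup F F, x2 c.a2 * (x3 c.a3 * (x4 c.a4 * (x5 c.a5 * x6 c.a6))) ∈ W := fun c =>
      W.mul_mem (r.m2W f _) (W.mul_mem (r.m3W f _) (W.mul_mem (r.m4W f _) (W.mul_mem (r.m5 _) (r.m6 _))))
    have h2 := W.mul_mem (h1 b) (W.inv_mem (h1 a))
    convert h2 using 1
    rw [inv_mul_eq_iff_eq_mul, ← mul_assoc, ← hab, mul_inv_cancel_right]
  rw [e1] at hab
  have hab := mul_left_cancel hab
  have e6 : a.a6 = b.a6 := by
    apply k6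
    have h1 : ∀ c : Tup F F, x2 c.a2 * (x3 c.a3 * (x4 c.a4 * x5 c.a5)) ∈ Y := fun c =>
      Y.mul_mem (r.m2Y f _) (Y.mul_mem (r.m3Y f _) (Y.mul_mem (r.m4Y f _) (r.m5' _)))
    have h2 := Y.mul_mem (Y.inv_mem (h1 a)) (h1 b)
    convert h2 using 1
    rw [mul_inv_eq_iff_eq_mul, mul_assoc, eq_inv_mul_iff_mul_eq]
    simp only [mul_assoc]
    exact hab
  rw [e6] at hab
  simp only [← mul_assoc] at hab
  have hab := mul_right_cancel hab
  have e5 : a.a5 = b.a5 := by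
    apply k5
    have h1 : ∀ c : Tup F F, x2 c.a2 * x3 c.a3 * x4 c.a4 ∈ D := fun c =>
      D.mul_mem (D.mul_mem (r.m2D f _) (r.m3 _)) (r.m4D f _)
    have h2 := D.mul_mem (D.inv_mem (h1 a)) (h1 b)
    convert h2 using 1
    rw [mul_inv_eq_iff_eq_mul, mul_assoc, eq_inv_mul_iff_mul_eq]
    exact hab
  rw [e5] at hab
  have hab := mul_right_cancel hab
  have e3 : a.a3 = b.a3 := by
    apply k3
    have h1 : ∀ c : Tup F F, x2 c.a2 * x4 c.a4 ∈ V := fun c => V.mul_mem (r.m2 _) (r.m4V f _)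
    have h2 := V.mul_mem (h1 b) (V.inv_mem (h1 a))
    convert h2 using 1
    rw [inv_mul_eq_iff_eq_mul, ← mul_assoc, eq_mul_inv_iff_mul_eq, ← mul_assoc, ← mul_assoc, r.r32 f, r.r32 f]
    exact hab
  rw [e3] at hab
  have e2 : a.a2 = b.a2 := by
    apply k2
    have h2 := R.mul_mem (r.m4 b.a4) (R.inv_mem (r.m4 a.a4))
    convert h2 using 1
    rw [inv_mul_eq_iff_eq_mul, ← mul_assoc, eq_mul_inv_iff_mul_eq]
    apply mul_left_cancel (a := x3 b.a3)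
    rw [← mul_assoc, ← mul_assoc, r.r32 f, r.r32 f]
    exact hab
  rw [e2] at hab
  have hab := mul_left_cancel hab
  have e4 : a.a4 = b.a4 := by
    apply k4
    rw [hab, inv_mul_cancel]
    exact mem_bot.2 rfl
  exact Tup.ext e1 e2 e3 e4 e5 e6

/-- `R = x4 F` -/
theorem R_eq {g : G} (hg : g ∈ R) : ∃ u, x4 u = g := by
  refine surj_of r.m4 (fun a b hab => ?_) (by rw [f.kR, f.cF]) hg
  have h1 : x4 a * (x4 b)⁻¹ ∈ (⊥ : Subgroup G) := by rw [hab, mul_inv_cancel]; exact mem_bot.2 rfl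
  exact eq_of_r f.cF r.add4 (fun a ha => r.z4 a (mem_bot.1 ha)) h1

theorem D_eq {g : G} (hg : g ∈ D) : ∃ u v w, g = x2 u * (x3 v * x4 w) := by
  obtain ⟨a, ha⟩ := surj_of (α := F × F × F) (K := D) (e := fun p => x2 p.1 * (x3 p.2.1 * x4 p.2.2))
    (fun p => D.mul_mem (r.m2D f _) (D.mul_mem (r.m3 _) (r.m4D f _))) (fun p q hpq => by
      have h1 : (⟨0, p.1, p.2.1, p.2.2, 0, 0⟩ : Tup F F) = ⟨0, q.1, q.2.1, q.2.2, 0, 0⟩ :=
        r.pm_inj f (by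
          simp only [PosRel.pm, r.e1, r.e5, r.e6, one_mul, mul_one]
          exact hpq)
      simp only [Tup.mk.injEq, true_and, and_true] at h1
      exact Prod.ext h1.1 (Prod.ext h1.2.1 h1.2.2)) (by
      rw [f.kD]; simp only [Nat.card_prod, f.cF]; norm_num) hg
  exact ⟨a.1, a.2.1, a.2.2, ha.symm⟩

theorem WY_eq {g : G} (hW : g ∈ W) (hY : g ∈ Y) : ∃ u v w y, g = x2 u * (x3 v * (x4 w * x5 y)) := by
  obtain ⟨a, ha⟩ := surj_of (α := F × F × F × F) (K := W ⊓ Y)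
    (e := fun p => x2 p.1 * (x3 p.2.1 * (x4 p.2.2.1 * x5 p.2.2.2)))
    (fun p => ⟨W.mul_mem (r.m2W f _) (W.mul_mem (r.m3W f _) (W.mul_mem (r.m4W f _) (r.m5 _))),
      Y.mul_mem (r.m2Y f _) (Y.mul_mem (r.m3Y f _) (Y.mul_mem (r.m4Y f _) (r.m5' _)))⟩) (fun p q hpq => by
      have h1 : (⟨0, p.1, p.2.1, p.2.2.1, p.2.2.2, 0⟩ : Tup F F) = ⟨0, q.1, q.2.1, q.2.2.1, q.2.2.2, 0⟩ :=
        r.pm_inj f (by
          simp only [PosRel.pm, r.e1, r.e6, one_mul, mul_one]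
          exact hpq)
      simp only [Tup.mk.injEq, true_and, and_true] at h1
      exact Prod.ext h1.1 (Prod.ext h1.2.1 (Prod.ext h1.2.2.1 h1.2.2.2))) (by
      rw [f.kWY]; simp only [Nat.card_prod, f.cF]; norm_num) ⟨hW, hY⟩
  exact ⟨a.1, a.2.1, a.2.2.1, a.2.2.2, ha.symm⟩

/-! ### normality -/

omit r in
theorem nY {x : G} (hx : x ∈ X₁) {y : G} (hy : y ∈ Y) : x * y * x⁻¹ ∈ Y := by
  obtain ⟨π, -, hk⟩ := f.sl₁
  have hyX := f.UX₁ (f.YU hy)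
  have h1 := (hk ⟨y, hyX⟩).2 hy
  refine (hk ⟨x * y * x⁻¹, X₁.mul_mem (X₁.mul_mem hx hyX) (X₁.inv_mem hx)⟩).1 ?_
  have h2 : (⟨x * y * x⁻¹, X₁.mul_mem (X₁.mul_mem hx hyX) (X₁.inv_mem hx)⟩ : X₁) =
    ⟨x, hx⟩ * ⟨y, hyX⟩ * ⟨x, hx⟩⁻¹ := rfl
  rw [h2, map_mul, map_mul, map_inv, h1, mul_one, mul_inv_cancel]

omit r in
theorem nW {x : G} (hx : x ∈ X₂) {y : G} (hy : y ∈ W) : x * y * x⁻¹ ∈ W := by
  obtain ⟨π, -, hk⟩ := f.sl₂
  have hyX := f.UX₂ (f.WU hy)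
  have h1 := (hk ⟨y, hyX⟩).2 hy
  refine (hk ⟨x * y * x⁻¹, X₂.mul_mem (X₂.mul_mem hx hyX) (X₂.inv_mem hx)⟩).1 ?_
  have h2 : (⟨x * y * x⁻¹, X₂.mul_mem (X₂.mul_mem hx hyX) (X₂.inv_mem hx)⟩ : X₂) =
    ⟨x, hx⟩ * ⟨y, hyX⟩ * ⟨x, hx⟩⁻¹ := rfl
  rw [h2, map_mul, map_mul, map_inv, h1, mul_one, mul_inv_cancel]

/-! ### the commutators -/

theorem c53 (a b : F) : ∃ u, x5 a * x3 b = x3 b * (x4 u * x5 a) := by
  obtain ⟨u, hu⟩ := r.R_eq f (f.WW _ (W.inv_mem (r.m3W f b)) _ (r.m5 a))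
  refine ⟨u, ?_⟩
  rw [hu]; group

theorem c35 (a b : F) : ∃ u, x3 a * x5 b = x5 b * (x4 u * x3 a) := by
  obtain ⟨u, hu⟩ := r.R_eq f (f.WW _ (W.inv_mem (r.m5 b)) _ (r.m3W f a))
  refine ⟨u, ?_⟩
  rw [hu]; group

theorem c31 (a b : F) : ∃ u, x3 a * x1 b = x1 b * (x2 u * x3 a) := by
  obtain ⟨u, hu⟩ := r.c35 f a b
  refine ⟨u, ?_⟩
  rw [← r.b3 a, ← r.b5 b, ← r.b4 u]
  calc nb * x3 a * nb * (nb * x5 b * nb) = nb * x3 a * (nb * nb) * x5 b * nb := by group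
    _ = nb * (x3 a * x5 b) * nb := by rw [r.nb2]; group
    _ = nb * (x5 b * (x4 u * x3 a)) * nb := by rw [hu]
    _ = nb * (x5 b * 1 * x4 u * 1 * x3 a) * nb := by group
    _ = nb * (x5 b * (nb * nb) * x4 u * (nb * nb) * x3 a) * nb := by rw [r.nb2]
    _ = _ := by group

theorem c62 (a b : F) : ∃ u, x6 a * x2 b = x2 b * (x4 u * x6 a) := by
  obtain ⟨u, hu⟩ := r.R_eq f (f.WW _ (W.inv_mem (r.m2W f b)) _ (r.m6 a))
  refine ⟨u, ?_⟩
  rw [hu]; group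

theorem c61 (a b : F) : ∃ u v w y, x6 a * x1 b = x1 b * (x2 u * (x3 v * (x4 w * (x5 y * x6 a)))) := by
  have h1 : (x1 b)⁻¹ * x6 a * x1 b * (x6 a)⁻¹ ∈ W := by
    have := Rts.nW f (f.UX₂ (f.YU (Y.inv_mem (r.m1 b)))) (r.m6 a)
    rw [inv_inv] at this
    exact W.mul_mem this (W.inv_mem (r.m6 a))
  have h2 : (x1 b)⁻¹ * x6 a * x1 b * (x6 a)⁻¹ ∈ Y := by
    have := Rts.nY f (f.UX₁ (f.WU (r.m6 a))) (r.m1 b)
    have e : (x1 b)⁻¹ * x6 a * x1 b * (x6 a)⁻¹ = (x1 b)⁻¹ * (x6 a * x1 b * (x6 a)⁻¹) := by group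
    rw [e]
    exact Y.mul_mem (Y.inv_mem (r.m1 b)) this
  obtain ⟨u, v, w, y, h⟩ := r.WY_eq f h1 h2
  refine ⟨u, v, w, y, ?_⟩
  have e : x6 a * x1 b = x1 b * ((x1 b)⁻¹ * x6 a * x1 b * (x6 a)⁻¹) * x6 a := by group
  rw [e, h]; group

theorem c51 (a b : F) : ∃ u v w, x5 a * x1 b = x1 b * (x2 u * (x3 v * (x4 w * x5 a))) := by
  have h1 : (x1 b)⁻¹ * x5 a * x1 b * (x5 a)⁻¹ ∈ W := by
    have := Rts.nW f (f.UX₂ (f.YU (Y.inv_mem (r.m1 b)))) (r.m5 a)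
    rw [inv_inv] at this
    exact W.mul_mem this (W.inv_mem (r.m5 a))
  have h2 : nb⁻¹ * ((x1 b)⁻¹ * x5 a * x1 b * (x5 a)⁻¹) * nb ∈ W := by
    have h3 := Rts.nW f (f.UX₂ (f.YU (r.m1 a))) (r.m5 b)
    have e : nb⁻¹ * ((x1 b)⁻¹ * x5 a * x1 b * (x5 a)⁻¹) * nb = (x5 b)⁻¹ * (x1 a * x5 b * (x1 a)⁻¹) := by
      rw [← r.b5 a, ← r.b5 b, r.nb_inv, mul_inv_rev, mul_inv_rev, mul_inv_rev, mul_inv_rev, r.nb_inv]
      calc nb * (nb * ((x5 b)⁻¹ * nb) * x5 a * (nb * x5 b * nb) * (x5 a)⁻¹) * nb =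
          (nb * nb) * (x5 b)⁻¹ * nb * x5 a * nb * x5 b * nb * (x5 a)⁻¹ * nb := by group
        _ = _ := by rw [r.nb2]; group
    rw [e]
    exact W.mul_mem (W.inv_mem (r.m5 b)) h3
  obtain ⟨u, v, w, h⟩ := r.D_eq f (f.D_of nb r.nbX r.nbR _ h1 h2)
  refine ⟨u, v, w, ?_⟩
  have e : x5 a * x1 b = x1 b * ((x1 b)⁻¹ * x5 a * x1 b * (x5 a)⁻¹) * x5 a := by group
  rw [e, h]; group

/-- the torus -/
noncomputable def tor (w : F) (h₁ h₂ : G) (s t : F) : G := pw w h₂ (s * t⁻¹) * pw w h₁ t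

omit r f in
/-- the action of the torus from the actions of the factors -/
theorem tor_act {w : F} {s t : F} {y : F → G} {k l : F}
    (h1 : ∀ a, pw w h₁ t * y a = y (k * a) * pw w h₁ t)
    (h2 : ∀ a, pw w h₂ (s * t⁻¹) * y a = y (l * a) * pw w h₂ (s * t⁻¹)) (a : F) :
    tor w h₁ h₂ s t * y a = y (l * k * a) * tor w h₁ h₂ s t := by
  rw [tor, mul_assoc, h1, ← mul_assoc, h2, mul_assoc, mul_assoc l k a]

/-- **the root data** -/
theorem rd : RD x1 x2 x3 x4 x5 x6 (tor w h₁ h₂) na nb where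
  card := f.cF
  add1 := r.add1
  add2 := r.add2
  add3 := r.add3
  add4 := r.add4
  add5 := r.add5
  add6 := r.add6
  t1 := fun s t hs ht a => by
    have := tor_act (w := w) (y := x1) (h₁ := h₁) (h₂ := h₂) (fun a => pw_one f.cF r.w2 r.q1 ht a)
      (fun a => pw_one f.cF r.w2 r.p1 (mul_ne_zero hs (inv_ne_zero ht)) a) a
    rwa [inv_mul_cancel_right₀ ht] at this
  t2 := fun s t hs ht a => by
    have := tor_act (w := w) (y := x2) (h₁ := h₁) (h₂ := h₂) (fun a => pw_one f.cF r.w2 r.q2 ht a)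
      (fun a => pw_zero' f.cF r.w2 r.p2 (mul_ne_zero hs (inv_ne_zero ht)) a) a
    rwa [one_mul] at this
  t3 := fun s t hs ht a => by
    have := tor_act (w := w) (y := x3) (h₁ := h₁) (h₂ := h₂)
      (fun a => pw_zero' f.cF r.w2 r.q3 ht a)
      (fun a => pw_two f.cF r.w2 r.p3 (mul_ne_zero hs (inv_ne_zero ht)) a) a
    rwa [mul_one, mul_inv, inv_inv] at this
  t4 := fun s t hs ht a => by
    have := tor_act (w := w) (y := x4) (h₁ := h₁) (h₂ := h₂) (fun a => pw_two f.cF r.w2 r.q4 ht a)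
      (fun a => pw_zero' f.cF r.w2 r.p4 (mul_ne_zero hs (inv_ne_zero ht)) a) a
    rwa [one_mul] at this
  t5 := fun s t hs ht a => by
    have := tor_act (w := w) (y := x5) (h₁ := h₁) (h₂ := h₂) (fun a => pw_two f.cF r.w2 r.q5 ht a)
      (fun a => pw_one f.cF r.w2 r.p5 (mul_ne_zero hs (inv_ne_zero ht)) a) a
    have e : s * t⁻¹ * t⁻¹ = s * t := by
      have h3 := cube f.cF ht
      field_simp
      linear_combination -h3
    rwa [e] at this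
  t6 := fun s t hs ht a => by
    have := tor_act (w := w) (y := x6) (h₁ := h₁) (h₂ := h₂) (fun a => pw_one f.cF r.w2 r.q6 ht a)
      (fun a => pw_zero' f.cF r.w2 r.p6 (mul_ne_zero hs (inv_ne_zero ht)) a) a
    rwa [one_mul] at this
  na2 := r.na2
  nb2 := r.nb2
  a2 := r.a2
  a3 := r.a3
  a4 := r.a4
  b1 := r.b1
  b2 := r.b2
  b3 := r.b3
  ra := r.ra
  rb := r.rb
  r21 := r.r21 f
  r41 := r.r41 f
  r32 := r.r32 f
  r42 := r.r42 f
  r52 := r.r52 f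
  r43 := r.r43 f
  r63 := r.r63 f
  r54 := r.r54 f
  r64 := r.r64 f
  r65 := r.r65 f
  e31 := r.c31 f 1 1
  e51 := r.c51 f 1 1
  e61 := r.c61 f 1 1
  e62 := fun a => r.c62 f 1 a
  e53 := r.c53 f 1 1
  inj := r.pm_inj f

theorem X_mul (a b : Tup F F) : PosRel.pm x1 x2 x3 x4 x5 x6 a * PosRel.pm x1 x2 x3 x4 x5 x6 b =
    PosRel.pm x1 x2 x3 x4 x5 x6 (mu a b) := by
  rw [(r.rd f).posRel.pm_mul a b, ToCoord.mul_eq (two f.cF)]

theorem mem_W' (a : Tup F F) : PosRel.pm x1 x2 x3 x4 x5 x6 a ∈ W ↔ a.a1 = 0 := by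
  have h1 : x2 a.a2 * (x3 a.a3 * (x4 a.a4 * (x5 a.a5 * x6 a.a6))) ∈ W :=
    W.mul_mem (r.m2W f _) (W.mul_mem (r.m3W f _) (W.mul_mem (r.m4W f _) (W.mul_mem (r.m5 _) (r.m6 _))))
  unfold PosRel.pm
  rw [W.mul_mem_cancel_right h1]
  exact ⟨r.z1 _, fun h => by rw [h, r.e1]; exact W.one_mem⟩

theorem mem_Y' (a : Tup F F) : PosRel.pm x1 x2 x3 x4 x5 x6 a ∈ Y ↔ a.a6 = 0 := by
  unfold PosRel.pm
  rw [Y.mul_mem_cancel_left (r.m1 _), Y.mul_mem_cancel_left (r.m2Y f _), Y.mul_mem_cancel_left (r.m3Y f _),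
    Y.mul_mem_cancel_left (r.m4Y f _), Y.mul_mem_cancel_left (r.m5' _)]
  exact ⟨r.z6 _, fun h => by rw [h, r.e6]; exact Y.one_mem⟩

theorem mem_D' (a : Tup F F) : PosRel.pm x1 x2 x3 x4 x5 x6 a ∈ D ↔ a.a1 = 0 ∧ a.a5 = 0 ∧ a.a6 = 0 := by
  constructor
  · intro h
    have h1 := (r.mem_W' f a).1 (f.DW h)
    have h6 := (r.mem_Y' f a).1 (f.DY h)
    refine ⟨h1, ?_, h6⟩
    unfold PosRel.pm at h
    rw [h1, h6, r.e1, r.e6, one_mul, mul_one, D.mul_mem_cancel_left (r.m2D f _),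
      D.mul_mem_cancel_left (r.m3 _), D.mul_mem_cancel_left (r.m4D f _)] at h
    exact r.z5 _ h
  · rintro ⟨h1, h5, h6⟩
    unfold PosRel.pm
    rw [h1, h5, h6, r.e1, r.e5, r.e6, one_mul, mul_one, mul_one]
    exact D.mul_mem (r.m2D f _) (D.mul_mem (r.m3 _) (r.m4D f _))

theorem mem_V' (a : Tup F F) : PosRel.pm x1 x2 x3 x4 x5 x6 a ∈ V ↔
    a.a1 = 0 ∧ a.a3 = 0 ∧ a.a5 = 0 ∧ a.a6 = 0 := by
  constructor
  · intro h
    obtain ⟨h1, h5, h6⟩ := (r.mem_D' f a).1 (f.VD h)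
    refine ⟨h1, ?_, h5, h6⟩
    unfold PosRel.pm at h
    rw [h1, h5, h6, r.e1, r.e5, r.e6, one_mul, mul_one, mul_one, V.mul_mem_cancel_left (r.m2 _),
      V.mul_mem_cancel_right (r.m4V f _)] at h
    exact r.z3 _ h
  · rintro ⟨h1, h3, h5, h6⟩
    unfold PosRel.pm
    rw [h1, h3, h5, h6, r.e1, r.e3, r.e5, r.e6, one_mul, mul_one, mul_one, one_mul]
    exact V.mul_mem (r.m2 _) (r.m4V f _)

theorem mem_R' (a : Tup F F) : PosRel.pm x1 x2 x3 x4 x5 x6 a ∈ R ↔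
    a.a1 = 0 ∧ a.a2 = 0 ∧ a.a3 = 0 ∧ a.a5 = 0 ∧ a.a6 = 0 := by
  constructor
  · intro h
    obtain ⟨h1, h3, h5, h6⟩ := (r.mem_V' f a).1 (f.RV h)
    refine ⟨h1, ?_, h3, h5, h6⟩
    unfold PosRel.pm at h
    rw [h1, h3, h5, h6, r.e1, r.e3, r.e5, r.e6, one_mul, mul_one, mul_one, one_mul,
      R.mul_mem_cancel_right (r.m4 _)] at h
    exact r.z2 _ h
  · rintro ⟨h1, h2, h3, h5, h6⟩
    unfold PosRel.pm
    rw [h1, h2, h3, h5, h6, r.e1, r.e2, r.e3, r.e5, r.e6, one_mul, mul_one, mul_one, one_mul, one_mul]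
    exact r.m4 _

theorem mem_U' (g : G) : g ∈ U ↔ ∃ a, PosRel.pm x1 x2 x3 x4 x5 x6 a = g := by
  have hU : ∀ a, PosRel.pm x1 x2 x3 x4 x5 x6 a ∈ U := fun a => by
    unfold PosRel.pm
    exact U.mul_mem (f.YU (r.m1 _)) (f.WU (W.mul_mem (r.m2W f _) (W.mul_mem (r.m3W f _)
      (W.mul_mem (r.m4W f _) (W.mul_mem (r.m5 _) (r.m6 _))))))
  constructor
  · intro hg
    refine surj_of hU (r.pm_inj f) ?_ hg
    have e2 : Tup F F ≃ F × F × F × F × F × F :=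
      { toFun := fun a => (a.a1, a.a2, a.a3, a.a4, a.a5, a.a6)
        invFun := fun p => ⟨p.1, p.2.1, p.2.2.1, p.2.2.2.1, p.2.2.2.2.1, p.2.2.2.2.2⟩
        left_inv := fun a => rfl
        right_inv := fun p => rfl }
    rw [Nat.card_congr e2, f.kU]
    simp only [Nat.card_prod, f.cF]
    norm_num
  · rintro ⟨a, rfl⟩
    exact hU a

/-! ### the fundamental involutions -/

theorem pm_e1 (t : F) : PosRel.pm x1 x2 x3 x4 x5 x6 (GTwoFour.e1 t) = x1 t := by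
  simp only [PosRel.pm, GTwoFour.e1, r.e2, r.e3, r.e4, r.e5, r.e6, mul_one]
theorem pm_e2 (t : F) : PosRel.pm x1 x2 x3 x4 x5 x6 (GTwoFour.e2 t) = x2 t := by
  simp only [PosRel.pm, GTwoFour.e2, r.e1, r.e3, r.e4, r.e5, r.e6, mul_one, one_mul]
theorem pm_e3 (t : F) : PosRel.pm x1 x2 x3 x4 x5 x6 (GTwoFour.e3 t) = x3 t := by
  simp only [PosRel.pm, GTwoFour.e3, r.e1, r.e2, r.e4, r.e5, r.e6, mul_one, one_mul]
theorem pm_e4 (t : F) : PosRel.pm x1 x2 x3 x4 x5 x6 (GTwoFour.e4 t) = x4 t := by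
  simp only [PosRel.pm, GTwoFour.e4, r.e1, r.e2, r.e3, r.e5, r.e6, mul_one, one_mul]
theorem pm_e5 (t : F) : PosRel.pm x1 x2 x3 x4 x5 x6 (GTwoFour.e5 t) = x5 t := by
  simp only [PosRel.pm, GTwoFour.e5, r.e1, r.e2, r.e3, r.e4, r.e6, mul_one, one_mul]
theorem pm_e6 (t : F) : PosRel.pm x1 x2 x3 x4 x5 x6 (GTwoFour.e6 t) = x6 t := by
  simp only [PosRel.pm, GTwoFour.e6, r.e1, r.e2, r.e3, r.e4, r.e5, one_mul]

theorem nA (a2 a3 a4 a5 a6 : F) : na * PosRel.pm x1 x2 x3 x4 x5 x6 ⟨0, a2, a3, a4, a5, a6⟩ =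
    PosRel.pm x1 x2 x3 x4 x5 x6 ⟨0, a6, a5, a4 + a2 * a6 + a3 * a5, a3, a2⟩ * na := by
  have h2 := two f.cF
  have e1 : na * PosRel.pm x1 x2 x3 x4 x5 x6 ⟨0, a2, a3, a4, a5, a6⟩ =
      (na * x2 a2 * na) * (na * x3 a3 * na) * (na * x4 a4 * na) * (na * x5 a5 * na) * (na * x6 a6 * na) * na := by
    simp only [PosRel.pm, r.e1, one_mul]
    calc na * (x2 a2 * (x3 a3 * (x4 a4 * (x5 a5 * x6 a6)))) =
        na * x2 a2 * 1 * x3 a3 * 1 * x4 a4 * 1 * x5 a5 * 1 * x6 a6 * 1 := by group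
      _ = na * x2 a2 * (na * na) * x3 a3 * (na * na) * x4 a4 * (na * na) * x5 a5 * (na * na) * x6 a6 *
          (na * na) := by rw [r.na2]
      _ = _ := by group
  rw [e1, r.a2, r.a3, r.a4, r.a5, r.a6]
  congr 1
  rw [← r.pm_e6 f, ← r.pm_e5 f, ← r.pm_e4 f, ← r.pm_e3 f, ← r.pm_e2 f]
  simp only [r.X_mul f]
  congr 1
  ext <;> simp only [mu, GTwoFour.e2, GTwoFour.e3, GTwoFour.e4, GTwoFour.e5, GTwoFour.e6] <;> grind

theorem nB (a1 a2 a3 a4 a5 : F) : nb * PosRel.pm x1 x2 x3 x4 x5 x6 ⟨a1, a2, a3, a4, a5, 0⟩ =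
    PosRel.pm x1 x2 x3 x4 x5 x6
      ⟨a5, a4 + a3 * a5 + a1 * a5 ^ 2, a3, a2 + a1 * a3 + a1 ^ 2 * a5, a1, 0⟩ * nb := by
  have h2 := two f.cF
  have e1 : nb * PosRel.pm x1 x2 x3 x4 x5 x6 ⟨a1, a2, a3, a4, a5, 0⟩ =
      (nb * x1 a1 * nb) * (nb * x2 a2 * nb) * (nb * x3 a3 * nb) * (nb * x4 a4 * nb) * (nb * x5 a5 * nb) * nb := by
    simp only [PosRel.pm, r.e6, mul_one]
    calc nb * (x1 a1 * (x2 a2 * (x3 a3 * (x4 a4 * x5 a5)))) =
        nb * x1 a1 * 1 * x2 a2 * 1 * x3 a3 * 1 * x4 a4 * 1 * x5 a5 * 1 := by group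
      _ = nb * x1 a1 * (nb * nb) * x2 a2 * (nb * nb) * x3 a3 * (nb * nb) * x4 a4 * (nb * nb) * x5 a5 *
          (nb * nb) := by rw [r.nb2]
      _ = _ := by group
  rw [e1, r.b1, r.b2, r.b3, r.b4, r.b5]
  congr 1
  rw [← r.pm_e5 f, ← r.pm_e4 f, ← r.pm_e3 f, ← r.pm_e2 f, ← r.pm_e1 f]
  simp only [r.X_mul f]
  congr 1
  ext <;> simp only [mu, GTwoFour.e1, GTwoFour.e2, GTwoFour.e3, GTwoFour.e4, GTwoFour.e5] <;> grind

/-! ### the torus -/

/-- the action of an element from the actions on the root groups -/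
theorem act_of {g : G} {l m : F} (g1 : ∀ a, g * x1 a * g⁻¹ = x1 (l * a)) (g2 : ∀ a, g * x2 a * g⁻¹ = x2 (m * a))
    (g3 : ∀ a, g * x3 a * g⁻¹ = x3 (l ^ 2 * m * a)) (g4 : ∀ a, g * x4 a * g⁻¹ = x4 (m ^ 2 * a))
    (g5 : ∀ a, g * x5 a * g⁻¹ = x5 (l * m * a)) (g6 : ∀ a, g * x6 a * g⁻¹ = x6 (m * a)) (a : Tup F F) :
    g * PosRel.pm x1 x2 x3 x4 x5 x6 a * g⁻¹ = PosRel.pm x1 x2 x3 x4 x5 x6 (dg l m a) := by
  simp only [PosRel.pm, dg]
  rw [← g1, ← g2, ← g3, ← g4, ← g5, ← g6]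
  group

/-- the elements acting diagonally -/
def Dg (x1 x2 x3 x4 x5 x6 : F → G) : Subgroup G where
  carrier := {g | ∃ l m : F, l ≠ 0 ∧ m ≠ 0 ∧ ∀ a, g * PosRel.pm x1 x2 x3 x4 x5 x6 a * g⁻¹ =
    PosRel.pm x1 x2 x3 x4 x5 x6 (dg l m a)}
  one_mem' := by
    refine ⟨1, 1, one_ne_zero, one_ne_zero, fun a => ?_⟩
    have : dg (1 : F) 1 a = a := by ext <;> simp [dg]
    rw [this]; group
  mul_mem' := by
    rintro g h ⟨l, m, hl, hm, hg⟩ ⟨l', m', hl', hm', hh⟩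
    refine ⟨l * l', m * m', mul_ne_zero hl hl', mul_ne_zero hm hm', fun a => ?_⟩
    have e : g * h * PosRel.pm x1 x2 x3 x4 x5 x6 a * (g * h)⁻¹ =
      g * (h * PosRel.pm x1 x2 x3 x4 x5 x6 a * h⁻¹) * g⁻¹ := by group
    rw [e, hh, hg]
    congr 1
    ext <;> simp only [dg] <;> ring
  inv_mem' := by
    rintro g ⟨l, m, hl, hm, hg⟩
    refine ⟨l⁻¹, m⁻¹, inv_ne_zero hl, inv_ne_zero hm, fun a => ?_⟩
    have h1 := hg (dg l⁻¹ m⁻¹ a)
    have e : dg l m (dg l⁻¹ m⁻¹ a) = a := by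
      ext <;> simp only [dg] <;> field_simp
    rw [e] at h1
    rw [← h1]; group

theorem h₁_mem : h₁ ∈ Dg x1 x2 x3 x4 x5 x6 := by
  have hw := r.w2
  have hw0 : w ≠ 0 := by rintro rfl; simp at hw
  have hw3 : w ^ 3 = 1 := by linear_combination (w - 1) * hw
  refine ⟨w, w, hw0, hw0, r.act_of f r.q1 r.q2 (fun a => ?_) r.q4 (fun a => ?_) r.q6⟩
  · rw [r.q3, ← pow_succ, hw3, one_mul]
  · rw [r.q5, pow_two]

theorem h₂_mem : h₂ ∈ Dg x1 x2 x3 x4 x5 x6 := by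
  have hw := r.w2
  have hw0 : w ≠ 0 := by rintro rfl; simp at hw
  refine ⟨w, 1, hw0, one_ne_zero, r.act_of f r.p1 (fun a => ?_) (fun a => ?_) (fun a => ?_) (fun a => ?_)
    (fun a => ?_)⟩
  · rw [r.p2, one_mul]
  · rw [r.p3, mul_one]
  · rw [r.p4, one_pow, one_mul]
  · rw [r.p5, mul_one]
  · rw [r.p6, one_mul]

theorem diag' {l m : F} (hl : l ≠ 0) (hm : m ≠ 0) : ∃ h ∈ zpowers h₁ ⊔ zpowers h₂, ∀ a,
    h * PosRel.pm x1 x2 x3 x4 x5 x6 a * h⁻¹ = PosRel.pm x1 x2 x3 x4 x5 x6 (dg l m a) := by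
  have D := r.rd f
  have hl3 := cube f.cF hl
  have hm3 := cube f.cF hm
  refine ⟨tor w h₁ h₂ l m, mul_mem (pw_mem (mem_sup_right (mem_zpowers h₂)) _)
    (pw_mem (mem_sup_left (mem_zpowers h₁)) _), ?_⟩
  have el : l⁻¹ = l ^ 2 := inv_eq_of_mul_eq_one_right (by rw [← hl3]; ring)
  have em : m⁻¹ = m ^ 2 := inv_eq_of_mul_eq_one_right (by rw [← hm3]; ring)
  refine r.act_of f (fun a => ?_) (fun a => ?_) (fun a => ?_) (fun a => ?_) (fun a => ?_) (fun a => ?_)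
  · exact mul_inv_eq_iff_eq_mul.mpr (D.t1 l m hl hm a)
  · exact mul_inv_eq_iff_eq_mul.mpr (D.t2 l m hl hm a)
  · rw [← el]
    exact mul_inv_eq_iff_eq_mul.mpr (D.t3 l m hl hm a)
  · rw [← em]
    exact mul_inv_eq_iff_eq_mul.mpr (D.t4 l m hl hm a)
  · exact mul_inv_eq_iff_eq_mul.mpr (D.t5 l m hl hm a)
  · exact mul_inv_eq_iff_eq_mul.mpr (D.t6 l m hl hm a)

omit r f [Finite G] in
theorem norm_of_invol {j : G} (hj : j * j = 1) {K : Subgroup G} (h : ∀ x ∈ K, j * x * j ∈ K) :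
    j ∈ normalizer (K : Set G) := by
  have hji : j⁻¹ = j := inv_eq_of_mul_eq_one_right hj
  rw [mem_normalizer_iff]
  intro x
  rw [hji]
  refine ⟨h x, fun hx => ?_⟩
  have h1 := h _ hx
  have e : j * (j * x * j) * j = x := by
    calc j * (j * x * j) * j = (j * j) * x * (j * j) := by group
      _ = x := by rw [hj]; group
  rwa [e] at h1

omit r f [Finite G] in
theorem closed_of_gen {j g h : G} (hj : j * j = 1) {K : Subgroup G} (hK : K = zpowers g ⊔ zpowers h)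
    (hg : j * g * j ∈ K) (hh : j * h * j ∈ K) : ∀ x ∈ K, j * x * j ∈ K := by
  have hji : j⁻¹ = j := inv_eq_of_mul_eq_one_right hj
  have h1 : K ≤ K.comap (MulAut.conj j).toMonoidHom := by
    conv_lhs => rw [hK]
    refine sup_le ?_ ?_
    · rw [zpowers_le, mem_comap]
      change j * g * j⁻¹ ∈ K
      rw [hji]; exact hg
    · rw [zpowers_le, mem_comap]
      change j * h * j⁻¹ ∈ K
      rw [hji]; exact hh
  intro x hx
  have h2 := h1 hx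
  rw [mem_comap] at h2
  change j * x * j⁻¹ ∈ K at h2
  rwa [hji] at h2

/-- **the coordinates** -/
theorem pos24 : Pos24 X₁ X₂ (zpowers h₁ ⊔ zpowers h₂) U R V D W Y (PosRel.pm x1 x2 x3 x4 x5 x6) na nb where
  card := f.cF
  inj := r.pm_inj f
  mul := r.X_mul f
  mem_U := r.mem_U' f
  diag := by
    have h1 : zpowers h₁ ⊔ zpowers h₂ ≤ Dg x1 x2 x3 x4 x5 x6 := by
      refine sup_le ?_ ?_
      · rw [zpowers_le]; exact r.h₁_mem f
      · rw [zpowers_le]; exact r.h₂_mem f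
    exact fun h hh => h1 hh
  diag' := fun l m hl hm => r.diag' f hl hm
  ja_mem := r.naX
  jb_mem := r.nbX
  ja_sq := r.na2
  jb_sq := r.nb2
  ja_H := by
    refine norm_of_invol r.na2 (closed_of_gen r.na2 rfl ?_ ?_)
    · rw [r.nah₁]
      exact mul_mem (mem_sup_left (mem_zpowers h₁)) (mem_sup_right (mem_zpowers h₂))
    · rw [r.nah₂]
      exact inv_mem (mem_sup_right (mem_zpowers h₂))
  jb_H := by
    refine norm_of_invol r.nb2 (closed_of_gen r.nb2 rfl ?_ ?_)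
    · rw [r.nbh₁]
      exact inv_mem (mem_sup_left (mem_zpowers h₁))
    · rw [r.nbh₂]
      exact mem_sup_right (mem_zpowers h₂)
  nA := r.nA f
  nB := r.nB f
  mem_R := r.mem_R' f
  mem_V := r.mem_V' f
  mem_D := r.mem_D' f
  mem_W := r.mem_W' f
  mem_Y := r.mem_Y' f

end both

end Rts

end Cfsg.Agent.Omega.GTwoFour.Id
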