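import Cfsg.Agent.Omega.GTwoFour.Law
import Mathlib

/-!
# `SL₂(4)`: the facts used for the identification of the pair of type `G₂(4)`
-/

set_option autoImplicit false

namespace Cfsg.Agent.Omega.GTwoFour.Id

open Subgroup
open scoped MatrixGroups

variable {F : Type*} [Field F]

/-- `[[1,t],[0,1]]` -/
def up (t : F) : SL(2, F) := ⟨!![1, t; 0, 1], by simp [Matrix.det_fin_two]⟩

/-- `[[0,1],[-1,0]]` -/
def jj : SL(2, F) := ⟨!![0, 1; -1, 0], by simp [Matrix.det_fin_two]⟩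

theorem ext2 {M N : SL(2, F)} (h00 : M.1 0 0 = N.1 0 0) (h01 : M.1 0 1 = N.1 0 1)
    (h10 : M.1 1 0 = N.1 1 0) (h11 : M.1 1 1 = N.1 1 1) : M = N := by
  apply Subtype.ext
  ext i j
  fin_cases i <;> fin_cases j <;> assumption

theorem mul_app (M N : SL(2, F)) (i j : Fin 2) : (M * N).1 i j = M.1 i 0 * N.1 0 j + M.1 i 1 * N.1 1 j := by
  change (M.1 * N.1) i j = _
  rw [Matrix.mul_apply, Fin.sum_univ_two]

theorem det_app (M : SL(2, F)) : M.1 0 0 * M.1 1 1 - M.1 0 1 * M.1 1 0 = 1 := by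
  rw [← Matrix.det_fin_two, M.2]

theorem inv_app (M : SL(2, F)) : (M⁻¹).1 0 0 = M.1 1 1 ∧ (M⁻¹).1 0 1 = -M.1 0 1 ∧ (M⁻¹).1 1 0 = -M.1 1 0 ∧
    (M⁻¹).1 1 1 = M.1 0 0 := by
  rw [Matrix.SpecialLinearGroup.SL2_inv_expl]
  simp

theorem one_app : (1 : SL(2, F)).1 0 0 = 1 ∧ (1 : SL(2, F)).1 0 1 = 0 ∧ (1 : SL(2, F)).1 1 0 = 0 ∧
    (1 : SL(2, F)).1 1 1 = 1 := by
  simp

theorem up_app (t : F) : (up t).1 0 0 = 1 ∧ (up t).1 0 1 = t ∧ (up t).1 1 0 = 0 ∧ (up t).1 1 1 = 1 := by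
  simp [up]

theorem jj_app : (jj : SL(2, F)).1 0 0 = 0 ∧ (jj : SL(2, F)).1 0 1 = 1 ∧ (jj : SL(2, F)).1 1 0 = -1 ∧
    (jj : SL(2, F)).1 1 1 = 0 := by
  simp [jj]

theorem up_add (s t : F) : up (s + t) = up s * up t := by
  obtain ⟨a1, a2, a3, a4⟩ := up_app s
  obtain ⟨b1, b2, b3, b4⟩ := up_app t
  obtain ⟨c1, c2, c3, c4⟩ := up_app (s + t)
  apply ext2 <;> simp only [mul_app, a1, a2, a3, a4, b1, b2, b3, b4, c1, c2, c3, c4] <;> ring

theorem up_zero : up (0 : F) = 1 := by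
  obtain ⟨a1, a2, a3, a4⟩ := up_app (0 : F)
  obtain ⟨b1, b2, b3, b4⟩ := one_app (F := F)
  apply ext2 <;> simp only [a1, a2, a3, a4, b1, b2, b3, b4]

theorem up_inj {s t : F} (h : up s = up t) : s = t := by
  rw [← (up_app s).2.1, h, (up_app t).2.1]

/-- `SL₂(F)` is generated by `up F` and `jj` -/
theorem mem_of_up_jj {K : Subgroup SL(2, F)} (h1 : ∀ t, up t ∈ K) (h2 : jj ∈ K) (M : SL(2, F)) : M ∈ K := by
  have low : ∀ c : F, jj * up (-c) * (jj)⁻¹ ∈ K := fun c => K.mul_mem (K.mul_mem h2 (h1 _)) (K.inv_mem h2)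
  have key : ∀ M : SL(2, F), M.1 1 0 ≠ 0 → M ∈ K := by
    intro M hM
    have e : M = up ((M.1 0 0 - 1) / M.1 1 0) * (jj * up (-M.1 1 0) * (jj)⁻¹) *
        up ((M.1 1 1 - 1) / M.1 1 0) := by
      obtain ⟨a1, a2, a3, a4⟩ := up_app ((M.1 0 0 - 1) / M.1 1 0)
      obtain ⟨b1, b2, b3, b4⟩ := up_app ((M.1 1 1 - 1) / M.1 1 0)
      obtain ⟨c1, c2, c3, c4⟩ := up_app (-M.1 1 0)
      obtain ⟨j1, j2, j3, j4⟩ := jj_app (F := F)
      obtain ⟨i1, i2, i3, i4⟩ := inv_app (jj : SL(2, F))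
      have hd := det_app M
      apply ext2 <;> simp only [mul_app, a1, a2, a3, a4, b1, b2, b3, b4, c1, c2, c3, c4, j1, j2, j3, j4, i1, i2,
        i3, i4] <;> field_simp
      · ring
      · linear_combination (-M.1 1 0) * hd
      · ring
      · ring
    rw [e]
    exact K.mul_mem (K.mul_mem (h1 _) (low _)) (h1 _)
  by_cases hM : M.1 1 0 = 0
  · have hd := det_app M
    rw [hM, mul_zero, sub_zero] at hd
    have h0 : M.1 0 0 ≠ 0 := left_ne_zero_of_mul_eq_one hd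
    have h3 : jj * M ∈ K := by
      apply key
      obtain ⟨j1, j2, j3, j4⟩ := jj_app (F := F)
      rw [mul_app, j3, j4]
      simpa using h0
    have e : M = (jj)⁻¹ * (jj * M) := by group
    rw [e]
    exact K.mul_mem (K.inv_mem h2) h3
  · exact key M hM

/-- a 2-subgroup of `SL₂(4)` is conjugate into `up F` -/
theorem exists_conj_up (hF : Nat.card F = 4) (P : Subgroup SL(2, F)) (hP : IsPGroup 2 P) :
    ∃ g : SL(2, F), ∀ p ∈ P, ∃ t, g * p * g⁻¹ = up t := by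
  have := fin hF
  have : Finite SL(2, F) := inferInstance
  let act : MulAction P (Fin 2 → F) :=
    MulAction.compHom (Fin 2 → F) ((Matrix.SpecialLinearGroup.toLin' : SL(2, F) →* _).comp P.subtype)
  have hfix0 : (0 : Fin 2 → F) ∈ MulAction.fixedPoints P (Fin 2 → F) := by
    intro p
    exact Matrix.mulVec_zero p.1.1
  have hdvd : 2 ∣ Nat.card (Fin 2 → F) := by
    rw [Nat.card_fun, hF]
    simp
  obtain ⟨v, hv, hv0⟩ := hP.exists_fixed_point_of_prime_dvd_card_of_fixed_point (Fin 2 → F) hdvd hfix0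
  have hk : ∃ k : SL(2, F), k.1 0 0 = v 0 ∧ k.1 1 0 = v 1 := by
    by_cases h0 : v 0 = 0
    · have h1 : v 1 ≠ 0 := by
        intro h1
        apply hv0
        funext i
        fin_cases i
        · exact h0.symm
        · exact h1.symm
      refine ⟨⟨!![v 0, -(v 1)⁻¹; v 1, 0], ?_⟩, ?_, ?_⟩
      · rw [Matrix.det_fin_two]
        simp [h1]
      · simp
      · simp
    · refine ⟨⟨!![v 0, 0; v 1, (v 0)⁻¹], ?_⟩, ?_, ?_⟩
      · rw [Matrix.det_fin_two]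
        simp [h0]
      · simp
      · simp
  obtain ⟨k, k0, k1⟩ := hk
  refine ⟨k⁻¹, fun p hp => ⟨(k⁻¹ * p * k⁻¹⁻¹).1 0 1, ?_⟩⟩
  rw [inv_inv, mul_assoc]
  have hpv : Matrix.mulVec p.1 v = v := hv ⟨p, hp⟩
  have e0 : p.1 0 0 * v 0 + p.1 0 1 * v 1 = v 0 := by
    have := congrFun hpv 0
    simpa [Matrix.mulVec, dotProduct, Fin.sum_univ_two] using this
  have e1 : p.1 1 0 * v 0 + p.1 1 1 * v 1 = v 1 := by
    have := congrFun hpv 1
    simpa [Matrix.mulVec, dotProduct, Fin.sum_univ_two] using this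
  obtain ⟨i1, i2, i3, i4⟩ := inv_app k
  have hd := det_app k
  have f0 : (k⁻¹ * (p * k)).1 0 0 = 1 := by
    rw [mul_app, mul_app, mul_app, k0, k1, e0, e1, i1, i2]
    rw [k0, k1] at hd
    linear_combination hd
  have f1 : (k⁻¹ * (p * k)).1 1 0 = 0 := by
    rw [mul_app, mul_app, mul_app, k0, k1, e0, e1, i3, i4, k0, k1]
    ring
  have hd2 := det_app (k⁻¹ * (p * k))
  rw [f0, f1] at hd2
  set t := (k⁻¹ * (p * k)).1 0 1 with ht
  obtain ⟨a1, a2, a3, a4⟩ := up_app t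
  apply ext2
  · rw [f0, a1]
  · rw [a2]
  · rw [f1, a3]
  · rw [a4]
    linear_combination hd2

/-- fixed points of an element of order three -/
theorem exists_fix {G : Type*} [Group G] {N : Subgroup G} [Finite N] (hN : ¬ 3 ∣ Nat.card N) {g h : G}
    (hg : g * g * g = 1) (hh : h * h * h = 1) (hgh : ∀ y ∈ N, g * y * h⁻¹ ∈ N) : ∃ y ∈ N, g * y = y * h := by
  have := Fintype.ofFinite N
  let σ : N → N := fun y => ⟨g * y * h⁻¹, hgh y y.2⟩
  have h3 : ∀ y, σ (σ (σ y)) = y := by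
    intro y
    apply Subtype.ext
    change g * (g * (g * y * h⁻¹) * h⁻¹) * h⁻¹ = y
    calc g * (g * (g * y * h⁻¹) * h⁻¹) * h⁻¹ = g * g * g * y * (h * h * h)⁻¹ := by group
      _ = y := by rw [hg, hh]; group
  let e : Equiv.Perm N := ⟨σ, fun y => σ (σ y), h3, h3⟩
  have he : e ^ 3 ^ 1 = 1 := by
    ext y
    rw [pow_one, pow_succ, pow_two, Equiv.Perm.mul_apply, Equiv.Perm.mul_apply]
    exact congrArg _ (h3 y)
  have : Fact (Nat.Prime 3) := ⟨Nat.prime_three⟩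
  rw [Nat.card_eq_fintype_card] at hN
  obtain ⟨y, hy⟩ := Equiv.Perm.exists_fixed_point_of_prime hN he
  refine ⟨y, y.2, ?_⟩
  have h4 : g * y * h⁻¹ = y := congrArg Subtype.val hy
  calc g * y = g * y * h⁻¹ * h := by group
    _ = _ := by rw [h4]

/-- `[[w²,0],[0,w]]` -/
def IsD (w : F) (M : SL(2, F)) : Prop := M.1 0 0 = w ^ 2 ∧ M.1 0 1 = 0 ∧ M.1 1 0 = 0 ∧ M.1 1 1 = w

theorem w3 {w : F} (hw : w ^ 2 + w + 1 = 0) : w * w * w = 1 := by linear_combination (w - 1) * hw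

theorem w_ne {w : F} (hw : w ^ 2 + w + 1 = 0) : w ≠ 0 := by
  rintro rfl
  simp at hw

theorem IsD.up {w : F} (hw : w ^ 2 + w + 1 = 0) {M : SL(2, F)} (hM : IsD w M) (t : F) :
    M * Id.up t * M⁻¹ = Id.up (w * t) := by
  obtain ⟨m1, m2, m3, m4⟩ := hM
  obtain ⟨a1, a2, a3, a4⟩ := up_app t
  obtain ⟨b1, b2, b3, b4⟩ := up_app (w * t)
  obtain ⟨i1, i2, i3, i4⟩ := inv_app M
  have h3 := w3 hw
  apply ext2 <;> simp only [mul_app, a1, a2, a3, a4, b1, b2, b3, b4, m1, m2, m3, m4, i1, i2, i3, i4]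
  · linear_combination h3
  · linear_combination t * w * h3
  · ring
  · linear_combination h3

/-- `X/N ≅ SL₂(F)`, `U/N` the upper triangular unipotent group, `h` diagonal -/
structure Ch {G : Type*} [Group G] (X N U : Subgroup G) (h : G) (w : F) (ρ : G → SL(2, F)) : Prop where
  cF : Nat.card F = 4
  NU : N ≤ U
  UX : U ≤ X
  hX : h ∈ X
  mul : ∀ x ∈ X, ∀ y ∈ X, ρ (x * y) = ρ x * ρ y
  surj : ∀ M, ∃ x ∈ X, ρ x = M
  ker : ∀ x ∈ X, ρ x = 1 ↔ x ∈ N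
  up : ∀ x ∈ X, x ∈ U ↔ ∃ t, ρ x = up t
  dg : IsD w (ρ h)
  w2 : w ^ 2 + w + 1 = 0

theorem exists_chart {G : Type*} [Group G] [Finite G] (hF : Nat.card F = 4) {X N U : Subgroup G} {h : G}
    (NU : N ≤ U) (UX : U ≤ X) (h2 : IsPGroup 2 U) (hc : Nat.card U = 4 * Nat.card N)
    (hX : h ∈ X) (hN : h ∉ N) (h3 : h * h * h = 1) (hU : ∀ u ∈ U, h * u * h⁻¹ ∈ U)
    (hsl : ∃ π : X →* SL(2, F), Function.Surjective π ∧ ∀ x, π x = 1 ↔ (x : G) ∈ N) :
    ∃ (w : F) (ρ : G → SL(2, F)), Ch X N U h w ρ := by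
  classical
  have finF := fin hF
  obtain ⟨π, hπ, hk⟩ := hsl
  set U' := U.subgroupOf X with hU'
  have hP : IsPGroup 2 (U'.map π) := (h2.comap_of_injective X.subtype X.subtype_injective).map π
  obtain ⟨g, hg⟩ := exists_conj_up hF (U'.map π) hP
  have hmem : ∀ u : X, (u : G) ∈ U → ∃ t, g * π u * g⁻¹ = up t := fun u hu =>
    hg _ (mem_map_of_mem π (mem_subgroupOf.2 hu))
  -- all of `up F`
  have hall : ∀ t, ∃ u : X, (u : G) ∈ U ∧ g * π u * g⁻¹ = up t := by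
    choose τ hτ using hmem
    let f : U → F := fun u => τ ⟨u, UX u.2⟩ u.2
    have hf : ∀ u : U, g * π ⟨(u : G), UX u.2⟩ * g⁻¹ = up (f u) := fun u => hτ _ _
    let φ : U →* Multiplicative F :=
      { toFun := fun u => Multiplicative.ofAdd (f u)
        map_one' := by
          apply congrArg Multiplicative.ofAdd
          apply up_inj
          rw [← hf, up_zero]
          have : (⟨((1 : U) : G), UX (1 : U).2⟩ : X) = 1 := rfl
          rw [this, map_one, mul_one, mul_inv_cancel]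
        map_mul' := fun a b => by
          change Multiplicative.ofAdd (f (a * b)) = Multiplicative.ofAdd (f a + f b)
          apply congrArg Multiplicative.ofAdd
          apply up_inj
          rw [up_add, ← hf, ← hf, ← hf]
          have : (⟨((a * b : U) : G), UX (a * b).2⟩ : X) = ⟨a, UX a.2⟩ * ⟨b, UX b.2⟩ := rfl
          rw [this, map_mul]
          group }
    have hker : φ.ker = N.subgroupOf U := by
      ext u
      have e1 : u ∈ φ.ker ↔ f u = 0 := by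
        rw [MonoidHom.mem_ker]
        exact Multiplicative.ofAdd.injective.eq_iff (b := (0 : F))
      rw [e1, mem_subgroupOf, ← hk ⟨(u : G), UX u.2⟩]
      constructor
      · intro h0
        have h4 := hf u
        rw [h0, up_zero] at h4
        have h5 : π ⟨(u : G), UX u.2⟩ = g⁻¹ * (g * π ⟨(u : G), UX u.2⟩ * g⁻¹) * g := by group
        rw [h5, h4]; group
      · intro h0
        apply up_inj
        rw [← hf, h0, up_zero]
        group
    have hcard : Nat.card φ.range = 4 := by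
      have h5 := φ.ker.card_mul_index
      rw [index_ker, hker, hc, Nat.card_congr (subgroupOfEquivOfLe NU).toEquiv] at h5
      have h6 : 0 < Nat.card N := Nat.card_pos
      have h7 : Nat.card N * Nat.card φ.range = Nat.card N * 4 := by rw [h5, mul_comm]
      exact Nat.eq_of_mul_eq_mul_left h6 h7
    have htop : φ.range = ⊤ := by
      apply eq_top_of_card_eq
      rw [hcard]
      exact hF.symm
    intro t
    have h5 : Multiplicative.ofAdd t ∈ φ.range := by rw [htop]; exact mem_top _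
    obtain ⟨u, hu⟩ := h5
    refine ⟨⟨u, UX u.2⟩, u.2, ?_⟩
    rw [hf u]
    exact congrArg up (Multiplicative.ofAdd.injective hu)
  -- `h`
  set M := g * π ⟨h, hX⟩ * g⁻¹ with hM
  have hMn : ∃ s, M * up 1 * M⁻¹ = up s := by
    obtain ⟨u, hu, hu1⟩ := hall 1
    obtain ⟨s, hs⟩ := hmem (⟨h, hX⟩ * u * ⟨h, hX⟩⁻¹) (hU _ hu)
    refine ⟨s, ?_⟩
    rw [← hs, ← hu1, hM, map_mul, map_mul, map_inv]
    group
  have hM3 : M * M * M = 1 := by
    have : (⟨h, hX⟩ : X) * ⟨h, hX⟩ * ⟨h, hX⟩ = 1 := Subtype.ext h3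
    have h4 := congrArg π this
    rw [map_mul, map_mul, map_one] at h4
    calc M * M * M = g * (π ⟨h, hX⟩ * π ⟨h, hX⟩ * π ⟨h, hX⟩) * g⁻¹ := by rw [hM]; group
      _ = 1 := by rw [h4]; group
  have hM1 : M ≠ 1 := by
    intro h4
    apply hN
    rw [← hk ⟨h, hX⟩]
    have h5 : π ⟨h, hX⟩ = g⁻¹ * M * g := by rw [hM]; group
    rw [h5, h4]; group
  have h10 : M.1 1 0 = 0 := by
    obtain ⟨s, hs⟩ := hMn
    obtain ⟨a1, a2, a3, a4⟩ := up_app (1 : F)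
    obtain ⟨b1, b2, b3, b4⟩ := up_app s
    obtain ⟨i1, i2, i3, i4⟩ := inv_app M
    have h4 : (M * up 1 * M⁻¹).1 1 0 = 0 := by rw [hs, b3]
    simp only [mul_app, a1, a2, a3, a4, i1, i3] at h4
    have h5 : M.1 1 0 * M.1 1 0 = 0 := by linear_combination -h4
    exact mul_self_eq_zero.1 h5
  have hd := det_app M
  rw [h10, mul_zero, sub_zero] at hd
  set w := M.1 1 1 with hw
  have hw3 : w * w * w = 1 := by
    have h4 : (M * M * M).1 1 1 = 1 := by rw [hM3]; exact one_app.2.2.2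
    simp only [mul_app, h10] at h4
    linear_combination h4
  have two := two hF
  have hw2 : w ^ 2 + w + 1 = 0 := by
    have h4 : (w - 1) * (w ^ 2 + w + 1) = 0 := by linear_combination hw3
    rcases mul_eq_zero.1 h4 with h5 | h5
    · exfalso
      have h6 : w = 1 := by linear_combination h5
      rw [h6, mul_one] at hd
      have h7 : M = up (M.1 0 1) := by
        obtain ⟨a1, a2, a3, a4⟩ := up_app (M.1 0 1)
        apply ext2
        · rw [a1, hd]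
        · rw [a2]
        · rw [a3, h10]
        · rw [a4, ← hw, h6]
      apply hM1
      have h8 : M * M = 1 := by
        rw [h7, ← up_add, addself hF, up_zero]
      rw [h8, one_mul] at hM3
      exact hM3
    · exact h5
  have h00 : M.1 0 0 = w ^ 2 := by linear_combination w ^ 2 * hd - M.1 0 0 * hw3
  set b := M.1 0 1 with hb
  let ρ : G → SL(2, F) := fun x => if hx : x ∈ X then (up b * g) * π ⟨x, hx⟩ * (up b * g)⁻¹ else 1
  have hρ : ∀ x (hx : x ∈ X), ρ x = (up b * g) * π ⟨x, hx⟩ * (up b * g)⁻¹ := fun x hx => dif_pos hx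
  have hρ' : ∀ x (hx : x ∈ X), ρ x = up b * (g * π ⟨x, hx⟩ * g⁻¹) * (up b)⁻¹ := fun x hx => by
    rw [hρ x hx]; group
  refine ⟨w, ρ, hF, NU, UX, hX, ?_, ?_, ?_, ?_, ?_, hw2⟩
  · intro x hx y hy
    rw [hρ x hx, hρ y hy, hρ _ (X.mul_mem hx hy)]
    have : (⟨x * y, X.mul_mem hx hy⟩ : X) = ⟨x, hx⟩ * ⟨y, hy⟩ := rfl
    rw [this, map_mul]
    group
  · intro M'
    obtain ⟨x, hx⟩ := hπ ((up b * g)⁻¹ * M' * (up b * g))
    refine ⟨x, x.2, ?_⟩
    rw [hρ x x.2, show (⟨(x : G), x.2⟩ : X) = x from rfl, hx]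
    group
  · intro x hx
    rw [← hk ⟨x, hx⟩, hρ x hx]
    constructor
    · intro h4
      have h5 : π ⟨x, hx⟩ = (up b * g)⁻¹ * (up b * g * π ⟨x, hx⟩ * (up b * g)⁻¹) * (up b * g) := by group
      rw [h5, h4]; group
    · intro h4
      rw [h4]; group
  · intro x hx
    have hcomm : ∀ t, up b * up t * (up b)⁻¹ = up t := fun t => by
      rw [← up_add, add_comm, up_add]; group
    constructor
    · intro hxU
      obtain ⟨t, ht⟩ := hmem ⟨x, hx⟩ hxU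
      exact ⟨t, by rw [hρ' x hx, ht, hcomm]⟩
    · rintro ⟨t, ht⟩
      obtain ⟨u, hu, hu1⟩ := hall t
      have h4 : π ⟨x, hx⟩ = π u := by
        have h5 : up b * (g * π ⟨x, hx⟩ * g⁻¹) * (up b)⁻¹ = up b * (g * π u * g⁻¹) * (up b)⁻¹ := by
          rw [← hρ' x hx, ht, hu1, hcomm]
        simpa using h5
      have h5 : π (⟨x, hx⟩ * u⁻¹) = 1 := by rw [map_mul, map_inv, h4, mul_inv_cancel]
      rw [hk] at h5
      have h6 : x * (u : G)⁻¹ ∈ U := NU h5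
      exact (U.mul_mem_cancel_right (U.inv_mem hu)).1 h6
  · have h4 : ρ h = up b * M * (up b)⁻¹ := hρ' h hX
    rw [h4]
    obtain ⟨a1, a2, a3, a4⟩ := up_app b
    obtain ⟨i1, i2, i3, i4⟩ := inv_app (up b)
    refine ⟨?_, ?_, ?_, ?_⟩ <;>
      simp only [mul_app, a1, a2, a3, a4, i1, i2, i3, i4, h00, ← hb, h10, ← hw]
    · ring
    · linear_combination b * two - b * hw2 + b * w * two
    · ring
    · ring

/-! ### facts on a chart -/

/-- `SL₂(F)` is generated by the conjugates of `up F` -/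
theorem mem_of_up_conj {K : Subgroup SL(2, F)} (h1 : ∀ t, up t ∈ K) (h2 : ∀ t, jj * up t * (jj)⁻¹ ∈ K)
    (M : SL(2, F)) : M ∈ K := by
  refine mem_of_up_jj h1 ?_ M
  have e : (jj : SL(2, F)) = up 1 * (jj * up 1 * (jj)⁻¹) * up 1 := by
    obtain ⟨a1, a2, a3, a4⟩ := up_app (1 : F)
    obtain ⟨j1, j2, j3, j4⟩ := jj_app (F := F)
    obtain ⟨i1, i2, i3, i4⟩ := inv_app (jj : SL(2, F))
    apply ext2 <;> simp only [mul_app, a1, a2, a3, a4, j1, j2, j3, j4, i1, i2, i3, i4] <;> ring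
  rw [e]
  exact K.mul_mem (K.mul_mem (h1 _) (h2 _)) (h1 _)

theorem jj_sq (hF : Nat.card F = 4) : (jj : SL(2, F)) * jj = 1 := by
  obtain ⟨j1, j2, j3, j4⟩ := jj_app (F := F)
  obtain ⟨o1, o2, o3, o4⟩ := one_app (F := F)
  have h := two hF
  apply ext2 <;> simp only [mul_app, j1, j2, j3, j4, o1, o2, o3, o4]
  · linear_combination -h
  · ring
  · ring
  · linear_combination -h

theorem jj_up : (jj : SL(2, F)) * up 1 * (jj * up 1) * (jj * up 1) = 1 := by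
  obtain ⟨j1, j2, j3, j4⟩ := jj_app (F := F)
  obtain ⟨o1, o2, o3, o4⟩ := one_app (F := F)
  obtain ⟨a1, a2, a3, a4⟩ := up_app (1 : F)
  apply ext2 <;> simp only [mul_app, j1, j2, j3, j4, o1, o2, o3, o4, a1, a2, a3, a4] <;> ring

theorem jj_IsD {w : F} {M : SL(2, F)} (hM : IsD w M) : jj * M * (jj)⁻¹ = M⁻¹ := by
  obtain ⟨m1, m2, m3, m4⟩ := hM
  obtain ⟨j1, j2, j3, j4⟩ := jj_app (F := F)
  obtain ⟨i1, i2, i3, i4⟩ := inv_app (jj : SL(2, F))
  obtain ⟨k1, k2, k3, k4⟩ := inv_app M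
  apply ext2 <;> simp only [mul_app, j1, j2, j3, j4, i1, i2, i3, i4, k1, k2, k3, k4, m1, m2, m3, m4] <;> ring

/-- `jj * up 1` is conjugate to `M` -/
theorem jj_up_conj (hF : Nat.card F = 4) {w : F} (hw : w ^ 2 + w + 1 = 0) {M : SL(2, F)} (hM : IsD w M) :
    ∃ P : SL(2, F), P * (jj * up 1) * P⁻¹ = M := by
  obtain ⟨m1, m2, m3, m4⟩ := hM
  obtain ⟨j1, j2, j3, j4⟩ := jj_app (F := F)
  obtain ⟨a1, a2, a3, a4⟩ := up_app (1 : F)
  have h := two hF
  have hd : Matrix.det !![1, -w ^ 2; 1, -w] = 1 := by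
    rw [Matrix.det_fin_two_of]
    linear_combination hw - (w + 1) * h
  set P : SL(2, F) := ⟨!![1, -w ^ 2; 1, -w], hd⟩ with hP
  have p1 : P.1 0 0 = 1 := by simp [hP]
  have p2 : P.1 0 1 = -w ^ 2 := by simp [hP]
  have p3 : P.1 1 0 = 1 := by simp [hP]
  have p4 : P.1 1 1 = -w := by simp [hP]
  refine ⟨P, ?_⟩
  have e : P * (jj * up 1) = M * P := by
    apply ext2 <;> simp only [mul_app, j1, j2, j3, j4, a1, a2, a3, a4, p1, p2, p3, p4, m1, m2, m3, m4]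
    · ring
    · linear_combination (w ^ 2 - w + 1) * hw
    · ring
    · linear_combination hw
  rw [e]; group

namespace Ch

variable {G : Type*} [Group G] {X N U : Subgroup G} {h : G} {w : F} {ρ : G → SL(2, F)}
  (c : Ch X N U h w ρ)
include c

theorem one : ρ 1 = 1 := by
  have := c.mul 1 X.one_mem 1 X.one_mem
  rw [mul_one] at this
  exact left_eq_mul.1 this

theorem inv {x : G} (hx : x ∈ X) : ρ x⁻¹ = (ρ x)⁻¹ := by
  rw [eq_inv_iff_mul_eq_one, ← c.mul _ (X.inv_mem hx) _ hx, inv_mul_cancel, c.one]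

theorem NX : N ≤ X := c.NU.trans c.UX

theorem conj {x y : G} (hx : x ∈ X) (hy : y ∈ X) : ρ (x * y * x⁻¹) = ρ x * ρ y * (ρ x)⁻¹ := by
  rw [c.mul _ (X.mul_mem hx hy) _ (X.inv_mem hx), c.mul _ hx _ hy, c.inv hx]

theorem nN {x y : G} (hx : x ∈ X) (hy : y ∈ N) : x * y * x⁻¹ ∈ N := by
  rw [← c.ker _ (X.mul_mem (X.mul_mem hx (c.NX hy)) (X.inv_mem hx)), c.conj hx (c.NX hy),
    (c.ker y (c.NX hy)).2 hy]
  group

theorem eq_iff {x y : G} (hx : x ∈ X) (hy : y ∈ X) : ρ x = ρ y ↔ x⁻¹ * y ∈ N := by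
  rw [← c.ker _ (X.mul_mem (X.inv_mem hx) hy), c.mul _ (X.inv_mem hx) _ hy, c.inv hx, inv_mul_eq_one]

theorem exists_up (t : F) : ∃ u ∈ U, ρ u = Id.up t := by
  obtain ⟨x, hx, h1⟩ := c.surj (Id.up t)
  exact ⟨x, (c.up x hx).2 ⟨t, h1⟩, h1⟩

theorem conj_h {u : G} (hu : u ∈ X) {t : F} (h1 : ρ u = Id.up t) : ρ (h * u * h⁻¹) = Id.up (w * t) := by
  rw [c.conj c.hX hu, h1]
  exact c.dg.up c.w2 t

theorem le_of_mem {K : Subgroup G} (hU : U ≤ K) {j : G} (hjX : j ∈ X) (hj : ρ j = jj) (hjK : j ∈ K) :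
    X ≤ K := by
  let K' : Subgroup SL(2, F) :=
    { carrier := {M | ∃ x ∈ X, x ∈ K ∧ ρ x = M}
      one_mem' := ⟨1, X.one_mem, K.one_mem, c.one⟩
      mul_mem' := by
        rintro _ _ ⟨x, hx, hx', rfl⟩ ⟨y, hy, hy', rfl⟩
        exact ⟨x * y, X.mul_mem hx hy, K.mul_mem hx' hy', c.mul _ hx _ hy⟩
      inv_mem' := by
        rintro _ ⟨x, hx, hx', rfl⟩
        exact ⟨x⁻¹, X.inv_mem hx, K.inv_mem hx', c.inv hx⟩ }
  have hK' : ∀ M, M ∈ K' := by
    intro M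
    refine mem_of_up_jj (K := K') ?_ ⟨j, hjX, hjK, hj⟩ M
    intro t
    obtain ⟨u, hu, hu1⟩ := c.exists_up t
    exact ⟨u, c.UX hu, hU hu, hu1⟩
  intro x hx
  obtain ⟨y, hy, hyK, hyx⟩ := hK' (ρ x)
  rw [c.eq_iff hy hx] at hyx
  exact (K.mul_mem_cancel_left (K.inv_mem hyK)).1 (hU (c.NU hyx))

/-- a normal subgroup of `X` containing `U` is `X` -/
theorem le_of_normal {K : Subgroup G} (hU : U ≤ K) (hn : ∀ x ∈ X, ∀ y ∈ K, x * y * x⁻¹ ∈ K) : X ≤ K := by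
  obtain ⟨j, hjX, hj⟩ := c.surj jj
  let K' : Subgroup SL(2, F) :=
    { carrier := {M | ∃ x ∈ X, x ∈ K ∧ ρ x = M}
      one_mem' := ⟨1, X.one_mem, K.one_mem, c.one⟩
      mul_mem' := by
        rintro _ _ ⟨x, hx, hx', rfl⟩ ⟨y, hy, hy', rfl⟩
        exact ⟨x * y, X.mul_mem hx hy, K.mul_mem hx' hy', c.mul _ hx _ hy⟩
      inv_mem' := by
        rintro _ ⟨x, hx, hx', rfl⟩
        exact ⟨x⁻¹, X.inv_mem hx, K.inv_mem hx', c.inv hx⟩ }
  have h1 : ∀ t, Id.up t ∈ K' := by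
    intro t
    obtain ⟨u, hu, hu1⟩ := c.exists_up t
    exact ⟨u, c.UX hu, hU hu, hu1⟩
  have hK' : ∀ M, M ∈ K' := by
    intro M
    refine mem_of_up_conj h1 ?_ M
    intro t
    obtain ⟨u, hu, hu1⟩ := c.exists_up t
    exact ⟨j * u * j⁻¹, X.mul_mem (X.mul_mem hjX (c.UX hu)) (X.inv_mem hjX), hn _ hjX _ (hU hu), by
      rw [c.conj hjX (c.UX hu), hu1, hj]⟩
  intro x hx
  obtain ⟨y, hy, hyK, hyx⟩ := hK' (ρ x)
  rw [c.eq_iff hy hx] at hyx
  exact (K.mul_mem_cancel_left (K.inv_mem hyK)).1 (hU (c.NU hyx))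

omit c in
theorem cases4 (hF : Nat.card F = 4) (hw : w ^ 2 + w + 1 = 0) (t : F) : t = 0 ∨ t = 1 ∨ t = w ∨ t = w ^ 2 := by
  by_cases h0 : t = 0
  · exact Or.inl h0
  have h1 := cube hF h0
  have h2 : (t - 1) * ((t - w) * (t - w ^ 2)) = 0 := by
    linear_combination h1 + (-t ^ 2 + t * w ) * hw - (t ^ 2 * 0 + t * (w - 1) * 0) * hw + (-w + 1) * hw
  rcases mul_eq_zero.1 h2 with h3 | h3
  · exact Or.inr (Or.inl (sub_eq_zero.1 h3))
  rcases mul_eq_zero.1 h3 with h4 | h4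
  · exact Or.inr (Or.inr (Or.inl (sub_eq_zero.1 h4)))
  · exact Or.inr (Or.inr (Or.inr (sub_eq_zero.1 h4)))

theorem nU {u : G} (hu : u ∈ U) : h * u * h⁻¹ ∈ U := by
  obtain ⟨t, ht⟩ := (c.up u (c.UX hu)).1 hu
  exact (c.up _ (X.mul_mem (X.mul_mem c.hX (c.UX hu)) (X.inv_mem c.hX))).2 ⟨_, c.conj_h (c.UX hu) ht⟩

/-- an element that normalises everything, commutes with `h` and fixes `up 1` centralises `X/N` -/
theorem triv_of {g : G} (gX : ∀ x ∈ X, g * x * g⁻¹ ∈ X) (gN : ∀ x ∈ N, g * x * g⁻¹ ∈ N)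
    (gh : g * h = h * g) (g1 : ∀ u ∈ X, ρ u = Id.up 1 → ρ (g * u * g⁻¹) = Id.up 1) :
    ∀ x ∈ X, ρ (g * x * g⁻¹) = ρ x := by
  have sm : ∀ x ∈ X, ∀ y ∈ X, ρ (g * (x * y) * g⁻¹) = ρ (g * x * g⁻¹) * ρ (g * y * g⁻¹) := by
    intro x hx y hy
    rw [← c.mul _ (gX x hx) _ (gX y hy)]
    congr 1; group
  have hNt : ∀ n ∈ N, ρ (g * n * g⁻¹) = 1 := fun n hn => (c.ker _ (gX n (c.NX hn))).2 (gN n hn)
  let K : Subgroup G :=
    { carrier := {x | x ∈ X ∧ ρ (g * x * g⁻¹) = ρ x}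
      one_mem' := ⟨X.one_mem, by rw [mul_one, mul_inv_cancel]⟩
      mul_mem' := by
        rintro x y ⟨hx, hx'⟩ ⟨hy, hy'⟩
        exact ⟨X.mul_mem hx hy, by rw [sm x hx y hy, hx', hy', c.mul _ hx _ hy]⟩
      inv_mem' := by
        rintro x ⟨hx, hx'⟩
        refine ⟨X.inv_mem hx, ?_⟩
        rw [c.inv hx, ← hx', ← c.inv (gX x hx)]
        congr 1; group }
  have hK : ∀ x, x ∈ K ↔ x ∈ X ∧ ρ (g * x * g⁻¹) = ρ x := fun x => Iff.rfl
  have hNK : N ≤ K := fun n hn => (hK n).2 ⟨c.NX hn, by rw [hNt n hn, (c.ker n (c.NX hn)).2 hn]⟩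
  have step : ∀ t, (∀ u ∈ X, ρ u = Id.up t → u ∈ K) → ∀ u ∈ X, ρ u = Id.up (w * t) → u ∈ K := by
    intro t ht u hu hut
    obtain ⟨v, hv, hvt⟩ := c.exists_up t
    have hvX := c.UX hv
    have h1 := ((hK v).1 (ht v hvX hvt)).2
    have hX' := X.mul_mem (X.mul_mem c.hX hvX) (X.inv_mem c.hX)
    have h2 : h * v * h⁻¹ ∈ K := by
      refine (hK _).2 ⟨hX', ?_⟩
      have e : g * (h * v * h⁻¹) * g⁻¹ = h * (g * v * g⁻¹) * h⁻¹ := by
        calc g * (h * v * h⁻¹) * g⁻¹ = (g * h) * v * (g * h)⁻¹ := by group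
          _ = _ := by rw [gh]; group
      rw [e, c.conj_h (gX v hvX) (h1.trans hvt), c.conj_h hvX hvt]
    have h3 : (h * v * h⁻¹)⁻¹ * u ∈ N := by
      rw [← c.eq_iff hX' hu, c.conj_h hvX hvt, hut]
    exact (K.mul_mem_cancel_left (K.inv_mem h2)).1 (hNK h3)
  have k1 : ∀ u ∈ X, ρ u = Id.up 1 → u ∈ K := fun u hu hu1 => (hK u).2 ⟨hu, by rw [g1 u hu hu1, hu1]⟩
  have kw := step 1 k1
  rw [mul_one] at kw
  have kw2 := step w kw
  have hUK : U ≤ K := by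
    intro u hu
    have huX := c.UX hu
    obtain ⟨t, ht⟩ := (c.up u huX).1 hu
    rcases cases4 c.cF c.w2 t with rfl | rfl | rfl | rfl
    · exact hNK ((c.ker u huX).1 (by rw [ht, up_zero]))
    · exact k1 u huX ht
    · exact kw u huX ht
    · exact kw2 u huX (by rw [ht, pow_two])
  obtain ⟨j, hjX, hj⟩ := c.surj jj
  have hjK : j ∈ K := by
    refine (hK j).2 ⟨hjX, ?_⟩
    set M := ρ (g * j * g⁻¹) with hM
    -- `M D M⁻¹ = D⁻¹`
    have e1 : M * ρ h * M⁻¹ = (ρ h)⁻¹ := by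
      have hn : h * (j * h * j⁻¹) ∈ N := by
        rw [← c.ker _ (X.mul_mem c.hX (X.mul_mem (X.mul_mem hjX c.hX) (X.inv_mem hjX))),
          c.mul _ c.hX _ (X.mul_mem (X.mul_mem hjX c.hX) (X.inv_mem hjX)), c.conj hjX c.hX, hj,
          jj_IsD c.dg]
        group
      have hn' := hNt _ hn
      rw [sm _ c.hX _ (X.mul_mem (X.mul_mem hjX c.hX) (X.inv_mem hjX)),
        sm _ (X.mul_mem hjX c.hX) _ (X.inv_mem hjX), sm _ hjX _ c.hX, gh, mul_inv_cancel_right, ← hM] at hn'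
      have h4 : ρ (g * j⁻¹ * g⁻¹) = M⁻¹ := by
        rw [hM, ← c.inv (gX j hjX)]
        congr 1; group
      rw [h4] at hn'
      calc M * ρ h * M⁻¹ = (ρ h)⁻¹ * (ρ h * (M * ρ h * M⁻¹)) := by group
        _ = _ := by rw [hn', mul_one]
    -- `(M up 1)³ = 1`
    obtain ⟨u, hu, hu1⟩ := c.exists_up 1
    have huX := c.UX hu
    have e2 : M * Id.up 1 * (M * Id.up 1) * (M * Id.up 1) = 1 := by
      have hju := X.mul_mem hjX huX
      have hn : j * u * (j * u) * (j * u) ∈ N := by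
        rw [← c.ker _ (X.mul_mem (X.mul_mem hju hju) hju), c.mul _ (X.mul_mem hju hju) _ hju,
          c.mul _ hju _ hju, c.mul _ hjX _ huX, hj, hu1, jj_up]
      have hn' := hNt _ hn
      rwa [sm _ (X.mul_mem hju hju) _ hju, sm _ hju _ hju, sm _ hjX _ huX, g1 u huX hu1, ← hM] at hn'
    have two := two c.cF
    have h3 := w3 c.w2
    obtain ⟨m1, m2, m3, m4⟩ := c.dg
    obtain ⟨i1, i2, i3, i4⟩ := inv_app (ρ h)
    have e3 : M * ρ h = (ρ h)⁻¹ * M := by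
      rw [← e1]; group
    have f1 : M.1 0 0 = 0 := by
      have := congrArg (fun z : SL(2, F) => z.1 0 0) e3
      simp only [mul_app, m1, m2, m3, m4, i1, i2] at this
      linear_combination (-1) * this + M.1 0 0 * c.w2 - w * M.1 0 0 * two
    have f2 : M.1 1 1 = 0 := by
      have := congrArg (fun z : SL(2, F) => z.1 1 1) e3
      simp only [mul_app, m1, m2, m3, m4, i3, i4] at this
      linear_combination this + M.1 1 1 * c.w2 - w * M.1 1 1 * two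
    have hd := det_app M
    obtain ⟨a1, a2, a3, a4⟩ := up_app (1 : F)
    obtain ⟨o1, o2, o3, o4⟩ := one_app (F := F)
    have f3 := congrArg (fun z : SL(2, F) => z.1 0 0) e2
    simp only [mul_app, f1, f2, a1, a2, a3, a4, o1] at f3
    rw [f1, f2] at hd
    have f4 : M.1 1 0 = -1 := by linear_combination (-M.1 1 0) * hd - f3
    rw [hj]
    obtain ⟨j1, j2, j3, j4⟩ := jj_app (F := F)
    apply ext2
    · rw [f1, j1]
    · rw [j2]
      rw [f4] at hd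
      linear_combination hd
    · rw [f4, j3]
    · rw [f2, j4]
  intro x hx
  exact ((hK x).1 (c.le_of_mem hUK hjX hj hjK hx)).2

/-- an element that normalises `X`, `N`, `U` and commutes with `h` acts on `X/N` as a power of `h` -/
theorem exists_triv {g : G} (gX : ∀ x ∈ X, g * x * g⁻¹ ∈ X) (gN : ∀ x ∈ N, g * x * g⁻¹ ∈ N)
    (gN' : ∀ x, g * x * g⁻¹ ∈ N → x ∈ N)
    (gU : ∀ x ∈ U, g * x * g⁻¹ ∈ U) (gh : g * h = h * g) :
    ∃ g', (g' = g ∨ g' = g * h ∨ g' = g * h⁻¹) ∧ ∀ x ∈ X, ρ (g' * x * g'⁻¹) = ρ x := by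
  obtain ⟨u, hu, hu1⟩ := c.exists_up 1
  have huX := c.UX hu
  obtain ⟨a, ha⟩ := (c.up _ (gX u huX)).1 (gU u hu)
  have hUp : ∀ {g' : G} (g'X : ∀ x ∈ X, g' * x * g'⁻¹ ∈ X) (g'N : ∀ x ∈ N, g' * x * g'⁻¹ ∈ N),
      ρ (g' * u * g'⁻¹) = Id.up 1 → ∀ v ∈ X, ρ v = Id.up 1 → ρ (g' * v * g'⁻¹) = Id.up 1 := by
    intro g' g'X g'N h1 v hv hv1
    have h2 : u⁻¹ * v ∈ N := (c.eq_iff huX hv).1 (hu1.trans hv1.symm)
    have h3 : g' * v * g'⁻¹ = (g' * u * g'⁻¹) * (g' * (u⁻¹ * v) * g'⁻¹) := by group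
    rw [h3, c.mul _ (g'X u huX) _ (c.NX (g'N _ h2)), h1, (c.ker _ (c.NX (g'N _ h2))).2 (g'N _ h2), mul_one]
  have ghi : g * h⁻¹ = h⁻¹ * g := by
    calc g * h⁻¹ = h⁻¹ * (h * g) * h⁻¹ := by group
      _ = h⁻¹ * g := by rw [← gh]; group
  rcases cases4 c.cF c.w2 a with rfl | rfl | rfl | rfl
  · exfalso
    rw [up_zero, c.ker _ (gX u huX)] at ha
    have h1 := gN' u ha
    rw [← c.ker u huX, hu1, ← up_zero] at h1
    exact one_ne_zero (up_inj h1)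
  · exact ⟨g, Or.inl rfl, c.triv_of gX gN gh (hUp gX gN ha)⟩
  · -- `g h⁻¹`
    have g'X : ∀ x ∈ X, g * h⁻¹ * x * (g * h⁻¹)⁻¹ ∈ X := by
      intro x hx
      have e : g * h⁻¹ * x * (g * h⁻¹)⁻¹ = g * (h⁻¹ * x * h) * g⁻¹ := by group
      rw [e]
      exact gX _ (X.mul_mem (X.mul_mem (X.inv_mem c.hX) hx) c.hX)
    have g'N : ∀ x ∈ N, g * h⁻¹ * x * (g * h⁻¹)⁻¹ ∈ N := by
      intro x hx
      have e : g * h⁻¹ * x * (g * h⁻¹)⁻¹ = g * (h⁻¹ * x * h⁻¹⁻¹) * g⁻¹ := by group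
      rw [e]
      exact gN _ (c.nN (X.inv_mem c.hX) hx)
    refine ⟨g * h⁻¹, Or.inr (Or.inr rfl), c.triv_of g'X g'N ?_ (hUp g'X g'N ?_)⟩
    · calc g * h⁻¹ * h = g * h * h⁻¹ := by group
        _ = h * (g * h⁻¹) := by rw [gh]; group
    · have e : g * h⁻¹ * u * (g * h⁻¹)⁻¹ = h⁻¹ * (g * u * g⁻¹) * h⁻¹⁻¹ := by
        calc g * h⁻¹ * u * (g * h⁻¹)⁻¹ = (h⁻¹ * g) * u * (h⁻¹ * g)⁻¹ := by rw [ghi]
          _ = _ := by group
      have h4 := c.dg.up c.w2 1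
      rw [mul_one] at h4
      rw [e, c.conj (X.inv_mem c.hX) (gX u huX), ha, c.inv c.hX, ← h4]
      group
  · have g'X : ∀ x ∈ X, g * h * x * (g * h)⁻¹ ∈ X := by
      intro x hx
      have e : g * h * x * (g * h)⁻¹ = g * (h * x * h⁻¹) * g⁻¹ := by group
      rw [e]
      exact gX _ (X.mul_mem (X.mul_mem c.hX hx) (X.inv_mem c.hX))
    have g'N : ∀ x ∈ N, g * h * x * (g * h)⁻¹ ∈ N := by
      intro x hx
      have e : g * h * x * (g * h)⁻¹ = g * (h * x * h⁻¹) * g⁻¹ := by group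
      rw [e]
      exact gN _ (c.nN c.hX hx)
    refine ⟨g * h, Or.inr (Or.inl rfl), c.triv_of g'X g'N ?_ (hUp g'X g'N ?_)⟩
    · rw [gh]; rw [mul_assoc, gh, ← mul_assoc]
    · have e : g * h * u * (g * h)⁻¹ = h * (g * u * g⁻¹) * h⁻¹ := by
        calc g * h * u * (g * h)⁻¹ = (h * g) * u * (h * g)⁻¹ := by rw [gh]
          _ = _ := by group
      rw [e, c.conj_h (gX u huX) ha]
      congr 1
      linear_combination w3 c.w2

/-- twisting by the Frobenius -/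
theorem exists_twist : ∃ ρ' : G → SL(2, F), Ch X N U h (w ^ 2) ρ' := by
  have : CharP F 2 := CharTwo.of_one_ne_zero_of_two_eq_zero one_ne_zero (two c.cF)
  let φ : SL(2, F) →* SL(2, F) := Matrix.SpecialLinearGroup.map (frobenius F 2)
  have hφ : ∀ (M : SL(2, F)) i j, (φ M).1 i j = (M.1 i j) ^ 2 := fun M i j => rfl
  have hφφ : ∀ M, φ (φ M) = M := by
    intro M
    apply ext2 <;> rw [hφ, hφ, ← pow_mul] <;> exact pow4 c.cF _
  have hup : ∀ t, φ (Id.up t) = Id.up (t ^ 2) := by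
    intro t
    obtain ⟨a1, a2, a3, a4⟩ := up_app t
    obtain ⟨b1, b2, b3, b4⟩ := up_app (t ^ 2)
    apply ext2 <;> rw [hφ] <;> simp only [a1, a2, a3, a4, b1, b2, b3, b4] <;> ring
  refine ⟨fun x => φ (ρ x), c.cF, c.NU, c.UX, c.hX, ?_, ?_, ?_, ?_, ?_, ?_⟩
  · intro x hx y hy
    rw [c.mul x hx y hy, map_mul]
  · intro M
    obtain ⟨x, hx, h1⟩ := c.surj (φ M)
    exact ⟨x, hx, by rw [h1, hφφ]⟩
  · intro x hx
    rw [← c.ker x hx]
    constructor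
    · intro h1
      rw [← hφφ (ρ x), h1, map_one]
    · intro h1
      rw [h1, map_one]
  · intro x hx
    rw [c.up x hx]
    constructor
    · rintro ⟨t, ht⟩
      exact ⟨t ^ 2, by rw [ht, hup]⟩
    · rintro ⟨t, ht⟩
      exact ⟨t ^ 2, by rw [← hφφ (ρ x), ht, hup]⟩
  · obtain ⟨m1, m2, m3, m4⟩ := c.dg
    refine ⟨?_, ?_, ?_, ?_⟩ <;> rw [hφ]
    · rw [m1]
    · rw [m2]; ring
    · rw [m3]; ring
    · rw [m4]
  · linear_combination (w ^ 2 - w + 1) * c.w2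

end Ch

end Cfsg.Agent.Omega.GTwoFour.Id
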