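import Cfsg.Agent.Omega.GTwoFour.IdSL

/-!
# Elements of order three acting on sections of order four
-/

set_option autoImplicit false

namespace Cfsg.Agent.Omega.GTwoFour.Id

open Subgroup

variable {G : Type*} [Group G]

/-- `h` acts trivially on `A/B` -/
def Tr (h : G) (A B : Subgroup G) : Prop := ∀ x ∈ A, x⁻¹ * (h * x * h⁻¹) ∈ B

/-- `h` has no fixed points on `A/B` -/
def Fp (h : G) (A B : Subgroup G) : Prop := ∀ x ∈ A, x⁻¹ * (h * x * h⁻¹) ∈ B → x ∈ B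

theorem inv_conj {h : G} (h3 : h * h * h = 1) {A : Subgroup G} (hA : ∀ x ∈ A, h * x * h⁻¹ ∈ A) {x : G}
    (hx : x ∈ A) : h⁻¹ * x * h ∈ A := by
  have e : h⁻¹ = h * h := by rw [inv_eq_iff_mul_eq_one, ← mul_assoc, h3]
  have e2 : h⁻¹ * x * h = h * (h * x * h⁻¹) * h⁻¹ := by
    calc h⁻¹ * x * h = h⁻¹ * x * h⁻¹⁻¹ := by rw [inv_inv]
      _ = (h * h) * x * (h * h)⁻¹ := by rw [e]
      _ = _ := by group
  rw [e2]
  exact hA _ (hA _ hx)

theorem conj_mem_iff {h : G} (h3 : h * h * h = 1) {A : Subgroup G} (hA : ∀ x ∈ A, h * x * h⁻¹ ∈ A) {x : G} :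
    h * x * h⁻¹ ∈ A ↔ x ∈ A := by
  refine ⟨fun hx => ?_, hA x⟩
  have := inv_conj h3 hA hx
  have e : h⁻¹ * (h * x * h⁻¹) * h = x := by group
  rwa [e] at this

/-- lifting of fixed points -/
theorem lift {h : G} (h3 : h * h * h = 1) {B : Subgroup G} [Finite B] (hc : ¬ 3 ∣ Nat.card B)
    (hB : ∀ x ∈ B, h * x * h⁻¹ ∈ B) {x : G} (hx : x⁻¹ * (h * x * h⁻¹) ∈ B) :
    ∃ b ∈ B, h * (x * b) = x * b * h := by
  have h1 : x⁻¹ * h * x * (x⁻¹ * h * x) * (x⁻¹ * h * x) = 1 := by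
    calc x⁻¹ * h * x * (x⁻¹ * h * x) * (x⁻¹ * h * x) = x⁻¹ * (h * h * h) * x := by group
      _ = 1 := by rw [h3]; group
  obtain ⟨b, hb, hb2⟩ := exists_fix hc h1 h3 (by
    intro y hy
    have e : x⁻¹ * h * x * y * h⁻¹ = x⁻¹ * (h * x * h⁻¹) * (h * y * h⁻¹) := by group
    rw [e]
    exact B.mul_mem hx (hB y hy))
  refine ⟨b, hb, ?_⟩
  calc h * (x * b) = x * (x⁻¹ * h * x * b) := by group
    _ = x * b * h := by rw [hb2]; group

/-- the elements of `A` fixed modulo `B` -/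
def fixMod (h : G) (A B : Subgroup G) (hB : ∀ x ∈ A, ∀ y ∈ B, x⁻¹ * y * x ∈ B) : Subgroup G where
  carrier := {x | x ∈ A ∧ x⁻¹ * (h * x * h⁻¹) ∈ B}
  one_mem' := ⟨A.one_mem, by
    have e : (1 : G)⁻¹ * (h * 1 * h⁻¹) = 1 := by group
    rw [e]; exact B.one_mem⟩
  mul_mem' := by
    rintro x y ⟨hx, hx'⟩ ⟨hy, hy'⟩
    refine ⟨A.mul_mem hx hy, ?_⟩
    have e : (x * y)⁻¹ * (h * (x * y) * h⁻¹) = (y⁻¹ * (x⁻¹ * (h * x * h⁻¹)) * y) * (y⁻¹ * (h * y * h⁻¹)) := by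
      group
    rw [e]
    exact B.mul_mem (hB y hy _ hx') hy'
  inv_mem' := by
    rintro x ⟨hx, hx'⟩
    refine ⟨A.inv_mem hx, ?_⟩
    have e : x⁻¹⁻¹ * (h * x⁻¹ * h⁻¹) = x⁻¹⁻¹ * (x⁻¹ * (h * x * h⁻¹))⁻¹ * x⁻¹ := by group
    rw [e]
    exact hB _ (A.inv_mem hx) _ (B.inv_mem hx')

theorem mem_fixMod {h : G} {A B : Subgroup G} {hB : ∀ x ∈ A, ∀ y ∈ B, x⁻¹ * y * x ∈ B} {x : G} :
    x ∈ fixMod h A B hB ↔ x ∈ A ∧ x⁻¹ * (h * x * h⁻¹) ∈ B := Iff.rfl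

theorem index_two_aux {A B C : Subgroup G} [Finite A] (hBC : B ≤ C) (hCA : C ≤ A)
    (hc : Nat.card A = 4 * Nat.card B) (hne : ¬ C ≤ B) (hne' : ¬ A ≤ C) :
    (C.subgroupOf A).index = 2 ∧ (B.subgroupOf C).index = 2 := by
  have : Finite C := Finite.of_injective _ (inclusion_injective hCA)
  have : Finite B := Finite.of_injective _ (inclusion_injective hBC)
  have h1 := (C.subgroupOf A).card_mul_index
  have h2 := (B.subgroupOf C).card_mul_index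
  rw [Nat.card_congr (subgroupOfEquivOfLe hCA).toEquiv] at h1
  rw [Nat.card_congr (subgroupOfEquivOfLe hBC).toEquiv] at h2
  have h3 : (C.subgroupOf A).index ≠ 1 := by
    rw [Ne, index_eq_one, subgroupOf_eq_top]; exact hne'
  have h4 : (B.subgroupOf C).index ≠ 1 := by
    rw [Ne, index_eq_one, subgroupOf_eq_top]; exact hne
  have hB0 : 0 < Nat.card B := Nat.card_pos
  rw [← h2, hc, mul_assoc] at h1
  have h5 : (B.subgroupOf C).index * (C.subgroupOf A).index = 4 := by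
    apply Nat.eq_of_mul_eq_mul_left hB0
    rw [h1, mul_comm]
  have h6 : (B.subgroupOf C).index ∣ 4 := Dvd.intro _ h5
  have h7 : (B.subgroupOf C).index ≤ 4 := Nat.le_of_dvd (by norm_num) h6
  interval_cases h8 : (B.subgroupOf C).index <;> omega

/-- an element of order three on a section of order four acts trivially or without fixed points -/
theorem tr_or_fp {h : G} (h3 : h * h * h = 1) {A B : Subgroup G} [Finite A] (hBA : B ≤ A)
    (hc : Nat.card A = 4 * Nat.card B) (hA3 : ¬ 3 ∣ Nat.card A) (hA : ∀ x ∈ A, h * x * h⁻¹ ∈ A)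
    (hB : ∀ x ∈ B, h * x * h⁻¹ ∈ B) (hBn : ∀ x ∈ A, ∀ y ∈ B, x⁻¹ * y * x ∈ B) : Tr h A B ∨ Fp h A B := by
  by_contra hcon
  rw [not_or] at hcon
  obtain ⟨hT, hF⟩ := hcon
  unfold Tr at hT
  unfold Fp at hF
  push Not at hT hF
  obtain ⟨x, hx, hxB⟩ := hT
  obtain ⟨a, ha, haB, haB'⟩ := hF
  set C := fixMod h A B hBn with hC
  have hCA : C ≤ A := fun z hz => hz.1
  have hBC : B ≤ C := fun z hz => ⟨hBA hz, B.mul_mem (B.inv_mem hz) (hB z hz)⟩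
  have : Finite C := Finite.of_injective _ (inclusion_injective hCA)
  obtain ⟨h2, -⟩ := index_two_aux hBC hCA hc (fun hle => haB' (hle ⟨ha, haB⟩)) (fun hle => hxB (hle hx).2)
  have hCh : ∀ z ∈ C, h * z * h⁻¹ ∈ C := by
    rintro z ⟨hz, hz'⟩
    refine ⟨hA z hz, ?_⟩
    have e : (h * z * h⁻¹)⁻¹ * (h * (h * z * h⁻¹) * h⁻¹) = h * (z⁻¹ * (h * z * h⁻¹)) * h⁻¹ := by group
    rw [e]
    exact hB _ hz'
  have hxC : x ∉ C := fun hc => hxB hc.2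
  have hx'C : h * x * h⁻¹ ∉ C := fun hc => hxC ((conj_mem_iff h3 hCh).1 hc)
  have h4 : x⁻¹ * (h * x * h⁻¹) ∈ C := by
    have h5 := mul_mem_iff_of_index_two h2 (a := ⟨x⁻¹, A.inv_mem hx⟩) (b := ⟨h * x * h⁻¹, hA x hx⟩)
    rw [mem_subgroupOf, mem_subgroupOf, mem_subgroupOf] at h5
    refine h5.2 (iff_of_false (fun hc => hxC ?_) hx'C)
    exact (C.inv_mem_iff).1 hc
  have hC3 : ¬ 3 ∣ Nat.card C := fun hd => hA3 (hd.trans (card_dvd_of_le hCA))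
  obtain ⟨b, hb, hb2⟩ := lift h3 hC3 hCh h4
  have h6 : x * b ∈ C := by
    refine ⟨A.mul_mem hx hb.1, ?_⟩
    rw [hb2]
    have e : (x * b)⁻¹ * (x * b * h * h⁻¹) = 1 := by group
    rw [e]; exact B.one_mem
  exact hxC ((C.mul_mem_cancel_right hb).1 h6)

/-- no invariant subgroup between -/
theorem le_of_fp {h : G} {A B S : Subgroup G} [Finite A] (hBS : B ≤ S) (hSA : S ≤ A)
    (hc : Nat.card A = 4 * Nat.card B) (hS : ∀ x ∈ S, h * x * h⁻¹ ∈ S)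
    (h3 : h * h * h = 1) (hB : ∀ x ∈ B, h * x * h⁻¹ ∈ B)
    (hf : Fp h A B) (hne : ¬ S ≤ B) : A ≤ S := by
  by_contra hcon
  obtain ⟨-, h2⟩ := index_two_aux hBS hSA hc hne hcon
  apply hne
  intro x hx
  by_contra hxB
  have h4 : x⁻¹ * (h * x * h⁻¹) ∈ B := by
    have h5 := mul_mem_iff_of_index_two h2 (a := ⟨x⁻¹, S.inv_mem hx⟩) (b := ⟨h * x * h⁻¹, hS x hx⟩)
    rw [mem_subgroupOf, mem_subgroupOf, mem_subgroupOf] at h5
    exact h5.2 (iff_of_false (fun hc => hxB (B.inv_mem_iff.1 hc)) fun hc => hxB ((conj_mem_iff h3 hB).1 hc))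
  exact hxB (hf x (hSA hx) h4)

theorem Tr.of_commute {h x : G} {B : Subgroup G} (hx : h * x = x * h) : x⁻¹ * (h * x * h⁻¹) ∈ B := by
  have e : x⁻¹ * (h * x * h⁻¹) = 1 := by rw [hx]; group
  rw [e]; exact B.one_mem

/-- trivial times fixed point free is fixed point free -/
theorem Tr.mul_fp {g h : G} {A B : Subgroup G} (hg : Tr g A B) (hh : Fp h A B)
    (hA : ∀ x ∈ A, h * x * h⁻¹ ∈ A) : Fp (g * h) A B := by
  intro x hx hxB
  apply hh x hx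
  have h1 := hg _ (hA x hx)
  have e : x⁻¹ * (h * x * h⁻¹) = (x⁻¹ * (g * h * x * (g * h)⁻¹)) *
      ((h * x * h⁻¹)⁻¹ * (g * (h * x * h⁻¹) * g⁻¹))⁻¹ := by group
  rw [e]
  exact B.mul_mem hxB (B.inv_mem h1)

end Cfsg.Agent.Omega.GTwoFour.Id
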