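import Cfsg.Agent.Omega.GTwoFour.CloseOf
import Cfsg.Agent.HexRec.Instances

/-!
# The model side of `G₂(4)`
-/

set_option autoImplicit false

namespace Cfsg.Agent.Omega.GTwoFour

open Cfsg.Agent.HexRec Subgroup Cfsg Cfsg.Agent.HexGlob

universe u

theorem instFour : InstFour.{u} := by
  intro F _ _ hF h2
  obtain ⟨c, x1, x2, x3, x4, x5, x6, k, hgen, hU, -, -⟩ := Cfsg.Agent.Hexagon.G2End.exists_kside F
  have k' : Cfsg.Agent.SplitTwo.HexPar ((AlgEquiv.refl : F ≃ₐ[F] F) : F ≃+* F) c.X x1 x2 x3 x4 x5 x6 := k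
  have hF' : Fintype.card F = 2 ^ 2 := hF
  have hs : IsSimpleGroup ↥(Cfsg.Lie.chevG2.group F) := by
    refine (Cfsg.Agent.S1055.result ?_).1
    by_contra hcon
    push Not at hcon
    have h3 : Fintype.card F ≤ 2 := by
      classical
      rw [← Finset.card_univ]
      refine (Finset.card_le_card (t := {0, 1}) fun x _ => ?_).trans Finset.card_le_two
      rw [Finset.mem_insert, Finset.mem_singleton]
      by_cases hx : x = 0
      · exact Or.inl hx
      · exact Or.inr (hcon x hx)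
    omega
  refine ⟨⟨Instances.reg _, ?_, Or.inl fun x => ⟨x, rfl⟩⟩, fun P => ?_, fun Φ hΦ => ?_⟩
  · rw [Nat.card_eq_fintype_card, hF]
  · refine Model.exists_coord (OfPair.pair_one h2) c hgen hU k' P
      ⟨6 * 2, ((2 ^ 2) ^ 2 - 1) * ((2 ^ 2) ^ 6 - 1), ?_, ?_, by decide⟩
    · rw [Nat.card_eq_fintype_card, hF]
      norm_num
    · rw [Cfsg.Agent.S1059.result hF']
      norm_num
  · exact ToR2.nonempty_mulEquiv Φ hΦ c hgen hU k'

end Cfsg.Agent.Omega.GTwoFour
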