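import Cfsg.Agent.Omega.GTwoFour.Grp

/-!
# The pair of type `G₂(4)`: involutions of `T` and of `f T`
-/

set_option autoImplicit false

namespace Cfsg.Agent.Omega.GTwoFour

open Cfsg.Agent.HexRec Subgroup

variable {F : Type*} [Field F] {G : Type*} [Group G] {X : Tup F F → G} {f : G} {ja jb : G}

namespace Dat

variable (h : Dat X f ja jb)
include h

/-! ### conjugation by root elements -/

theorem cj1 (t a2 a3 a4 a5 a6 : F) : X (e1 t) * X ⟨0, a2, a3, a4, a5, a6⟩ * (X (e1 t))⁻¹ =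
    X ⟨0, a2 + a6 * t ^ 3 + t * a3 + t ^ 2 * a5, a3 + a6 * t ^ 2,
      a4 + a6 ^ 2 * t ^ 3 + t * a5 ^ 2 + a6 * t ^ 2 * a5, a5 + a6 * t, a6⟩ := by
  have h2 := two h.card
  refine h.conj_X ?_
  ext <;> simp only [mu, e1] <;> grind

theorem cj2 (r a1 a2 a3 a4 a5 a6 : F) : X (e2 r) * X ⟨a1, a2, a3, a4, a5, a6⟩ * (X (e2 r))⁻¹ =
    X ⟨a1, a2, a3, a4 + a6 * r, a5, a6⟩ := by
  have h2 := two h.card
  refine h.conj_X ?_
  ext <;> simp only [mu, e2] <;> grind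

theorem cj3 (r a1 a2 a3 a4 a5 a6 : F) : X (e3 r) * X ⟨a1, a2, a3, a4, a5, a6⟩ * (X (e3 r))⁻¹ =
    X ⟨a1, a2 + a1 * r, a3, a4 + r * a5, a5, a6⟩ := by
  have h2 := two h.card
  refine h.conj_X ?_
  ext <;> simp only [mu, e3] <;> grind

theorem cj5 (r a1 a2 a3 a4 a5 a6 : F) : X (e5 r) * X ⟨a1, a2, a3, a4, a5, a6⟩ * (X (e5 r))⁻¹ =
    X ⟨a1, a2 + a1 ^ 2 * r, a3, a4 + a1 * r ^ 2 + a3 * r, a5, a6⟩ := by
  have h2 := two h.card
  refine h.conj_X ?_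
  ext <;> simp only [mu, e5] <;> grind

theorem cj6 (s a1 a2 a3 a4 a5 a6 : F) : X (e6 s) * X ⟨a1, a2, a3, a4, a5, a6⟩ * (X (e6 s))⁻¹ =
    X ⟨a1, a2 + s * a1 ^ 3, a3 + s * a1 ^ 2, a4 + s ^ 2 * a1 ^ 3 + s * a2 + s * a3 * a1, a5 + s * a1, a6⟩ := by
  have h2 := two h.card
  refine h.conj_X ?_
  ext <;> simp only [mu, e6] <;> grind

theorem cA (a2 a3 a4 a5 a6 : F) : ja * X ⟨0, a2, a3, a4, a5, a6⟩ * (ja)⁻¹ =
    X ⟨0, a6, a5, a4 + a2 * a6 + a3 * a5, a3, a2⟩ := by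
  rw [h.nA, mul_inv_cancel_right]

theorem cB (a1 a2 a3 a4 a5 : F) : jb * X ⟨a1, a2, a3, a4, a5, 0⟩ * (jb)⁻¹ =
    X ⟨a5, a4 + a3 * a5 + a1 * a5 ^ 2, a3, a2 + a1 * a3 + a1 ^ 2 * a5, a1, 0⟩ := by
  rw [h.nB, mul_inv_cancel_right]

omit [Field F] h in
theorem trans_conj {g k x y z : G} (h1 : g * x * g⁻¹ = y) (h2 : k * y * k⁻¹ = z) :
    (k * g) * x * (k * g)⁻¹ = z := by
  rw [← h2, ← h1]; group

end Dat

/-- fused to a long root element -/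
def ZT (X : Tup F F → G) (x : G) : Prop := ∃ g : G, ∃ s : F, s ≠ 0 ∧ g * x * g⁻¹ = X (e4 s)

/-- fused to a short root element -/
def UT (X : Tup F F → G) (x : G) : Prop := ∃ g : G, ∃ s : F, s ≠ 0 ∧ g * x * g⁻¹ = X (e3 s)

theorem ZT.of {x y g : G} (hy : ZT X y) (hg : g * x * g⁻¹ = y) : ZT X x := by
  obtain ⟨k, s, hs, hk⟩ := hy
  exact ⟨k * g, s, hs, by rw [← hk, ← hg]; group⟩

theorem UT.of {x y g : G} (hy : UT X y) (hg : g * x * g⁻¹ = y) : UT X x := by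
  obtain ⟨k, s, hs, hk⟩ := hy
  exact ⟨k * g, s, hs, by rw [← hk, ← hg]; group⟩

namespace Dat

variable (h : Dat X f ja jb)
include h

theorem zV {a2 a4 : F} (hne : ¬ (a2 = 0 ∧ a4 = 0)) : ZT X (X ⟨0, a2, 0, a4, 0, 0⟩) := by
  have h2 := two h.card
  by_cases ha : a2 = 0
  · subst ha
    exact ⟨1, a4, fun hc => hne ⟨rfl, hc⟩, by simp [e4]⟩
  · refine ZT.of (g := X (e6 (a4 / a2))) ?_ (h.cj6 _ _ _ _ _ _ _)
    refine ZT.of (g := jb) ?_ (h.cB _ _ _ _ _)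
    refine ⟨1, a2, ha, ?_⟩
    simp only [one_mul, inv_one, mul_one, e4]
    congr 1
    ext <;> simp only <;> field_simp <;> grind

theorem uFive {a2 a4 a5 : F} (h5 : a5 ≠ 0) : UT X (X ⟨0, a2, 0, a4, a5, 0⟩) := by
  have h2 := two h.card
  obtain ⟨t, ht⟩ : ∃ t : F, t ^ 2 * a5 = a2 := by
    refine ⟨(a2 / a5) ^ 2, ?_⟩
    have h4 := pow4 h.card (a2 / a5)
    rw [← pow_mul, h4, div_mul_cancel₀ _ h5]
  obtain ⟨r, hr⟩ : ∃ r : F, r * a5 = a4 + t * a5 ^ 2 := ⟨_, div_mul_cancel₀ _ h5⟩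
  have k1 := h.cj1 t a2 0 a4 a5 0
  have k2 : a2 + 0 * t ^ 3 + t * 0 + t ^ 2 * a5 = 0 := by grind
  rw [k2] at k1
  have k3 := h.cj3 r 0 0 (0 + 0 * t ^ 2) (a4 + 0 ^ 2 * t ^ 3 + t * a5 ^ 2 + 0 * t ^ 2 * a5) (a5 + 0 * t) 0
  have k4 : a4 + 0 ^ 2 * t ^ 3 + t * a5 ^ 2 + 0 * t ^ 2 * a5 + r * (a5 + 0 * t) = 0 := by grind
  have k5 : (0 : F) + 0 * r = 0 := by ring
  have k6 : (0 : F) + 0 * t ^ 2 = 0 := by ring
  have k7 : a5 + 0 * t = a5 := by ring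
  rw [k4, k5, k7, k6] at k3
  rw [k7, k6] at k1
  have k8 := h.cA 0 0 0 a5 0
  rw [zero_mul, zero_mul, add_zero, add_zero] at k8
  exact UT.of ⟨1, a5, h5, by simp [e3]⟩ (trans_conj (trans_conj k1 k3) k8)

theorem uThree {a2 a3 a4 : F} (h3 : a3 ≠ 0) : UT X (X ⟨0, a2, a3, a4, 0, 0⟩) := by
  have h2 := two h.card
  obtain ⟨t, ht⟩ : ∃ t : F, t * a3 = a2 := ⟨_, div_mul_cancel₀ _ h3⟩
  obtain ⟨r, hr⟩ : ∃ r : F, r * a3 = a4 := ⟨_, div_mul_cancel₀ _ h3⟩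
  refine UT.of (g := X (e1 t)) ?_ (h.cj1 _ _ _ _ _ _)
  refine UT.of (g := X (e5 r)) ?_ (h.cj5 _ _ _ _ _ _ _)
  refine ⟨1, a3, h3, ?_⟩
  simp only [one_mul, inv_one, mul_one, e3]
  congr 1
  ext <;> simp only <;> grind

/-- the equations of an involution -/
theorem sq_eqs {a : Tup F F} (ha : X a * X a = 1) : a.a6 * a.a1 = 0 ∧
    a.a6 * a.a1 ^ 3 + a.a1 * a.a3 + a.a1 ^ 2 * a.a5 = 0 ∧
    a.a6 ^ 2 * a.a1 ^ 3 + a.a1 * a.a5 ^ 2 + a.a6 * a.a2 +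
    a.a6 * (a.a1 ^ 2 * a.a5) + a.a3 * a.a5 + a.a6 * (a.a3 * a.a1) = 0 := by
  have h2 := two h.card
  rw [h.mul] at ha
  have h1 := h.eq_one ha
  have e5 := congrArg Tup.a5 h1
  have e2 := congrArg Tup.a2 h1
  have e4 := congrArg Tup.a4 h1
  simp only [mu, one0] at e5 e2 e4
  refine ⟨?_, ?_, ?_⟩ <;> grind

omit h in
theorem conj_sq {g x y : G} (hx : x * x = 1) (h1 : g * x * g⁻¹ = y) : y * y = 1 := by
  rw [← h1]
  calc g * x * g⁻¹ * (g * x * g⁻¹) = g * (x * x) * g⁻¹ := by group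
    _ = 1 := by rw [hx]; group

theorem classify {a : Tup F F} (ha : X a * X a = 1) (h1 : a ≠ one0) :
    ZT X (X a) ∨ (UT X (X a) ∧ ¬ (a.a1 = 0 ∧ a.a3 = 0 ∧ a.a5 = 0 ∧ a.a6 = 0)) := by
  have h2 := two h.card
  obtain ⟨q1, q2, q3⟩ := h.sq_eqs ha
  obtain ⟨a1, a2, a3, a4, a5, a6⟩ := a
  simp only at q1 q2 q3 ⊢
  by_cases c1 : a1 = 0
  · subst c1
    by_cases c6 : a6 = 0
    · subst c6
      have q4 : a3 * a5 = 0 := by linear_combination q3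
      by_cases c5 : a5 = 0
      · subst c5
        by_cases c3 : a3 = 0
        · subst c3
          refine Or.inl (h.zV ?_)
          rintro ⟨rfl, rfl⟩
          exact h1 rfl
        · exact Or.inr ⟨h.uThree c3, fun hc => c3 hc.2.1⟩
      · have c3 : a3 = 0 := by
          rcases mul_eq_zero.mp q4 with hc | hc
          · exact hc
          · exact absurd hc c5
        subst c3
        exact Or.inr ⟨h.uFive c5, fun hc => c5 hc.2.2.1⟩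
    · -- a6 ≠ 0
      obtain ⟨t, ht⟩ : ∃ t : F, t * a6 = a5 := ⟨_, div_mul_cancel₀ _ c6⟩
      have k1 := h.cj1 t a2 a3 a4 a5 a6
      have k2 := conj_sq ha k1
      have k3 := (h.sq_eqs k2).2.2
      simp only at k3
      have k5 : a5 + a6 * t = 0 := by grind
      rw [k5] at k3 k1
      have k6 : a2 + a6 * t ^ 3 + t * a3 + t ^ 2 * a5 = 0 := by
        have : a6 * (a2 + a6 * t ^ 3 + t * a3 + t ^ 2 * a5) = 0 := by linear_combination k3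
        rcases mul_eq_zero.mp this with hc | hc
        · exact absurd hc c6
        · exact hc
      rw [k6] at k1
      obtain ⟨r, hr⟩ : ∃ r : F, r * a6 = a4 + a6 ^ 2 * t ^ 3 + t * a5 ^ 2 + a6 * t ^ 2 * a5 :=
        ⟨_, div_mul_cancel₀ _ c6⟩
      have k7 := h.cj2 r 0 0 (a3 + a6 * t ^ 2) (a4 + a6 ^ 2 * t ^ 3 + t * a5 ^ 2 + a6 * t ^ 2 * a5) 0 a6
      have k8 : a4 + a6 ^ 2 * t ^ 3 + t * a5 ^ 2 + a6 * t ^ 2 * a5 + a6 * r = 0 := by grind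
      rw [k8] at k7
      have k9 := h.cA 0 (a3 + a6 * t ^ 2) 0 0 a6
      rw [zero_mul, mul_zero, add_zero, add_zero] at k9
      have k10 := trans_conj (trans_conj k1 k7) k9
      by_cases c3 : a3 + a6 * t ^ 2 = 0
      · rw [c3] at k10
        exact Or.inl (ZT.of (h.zV fun hc => c6 hc.1) k10)
      · exact Or.inr ⟨UT.of (h.uFive c3) k10, fun hc => c6 hc.2.2.2⟩
  · -- a1 ≠ 0
    have c6 : a6 = 0 := by
      rcases mul_eq_zero.mp q1 with hc | hc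
      · exact hc
      · exact absurd hc c1
    subst c6
    have c3 : a3 = a1 * a5 := by
      have : a1 * (a3 + a1 * a5) = 0 := by linear_combination q2
      rcases mul_eq_zero.mp this with hc | hc
      · exact absurd hc c1
      · exact eqadd h.card hc
    obtain ⟨s, hs⟩ : ∃ s : F, s * a1 = a5 := ⟨_, div_mul_cancel₀ _ c1⟩
    have k1 := h.cj6 s a1 a2 a3 a4 a5 0
    have k2 : a5 + s * a1 = 0 := by grind
    have k3 : a3 + s * a1 ^ 2 = 0 := by grind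
    rw [k2, k3] at k1
    have k4 := h.cB a1 (a2 + s * a1 ^ 3) 0 (a4 + s ^ 2 * a1 ^ 3 + s * a2 + s * a3 * a1) 0
    have k5 := trans_conj k1 k4
    refine Or.inr ⟨UT.of ?_ k5, fun hc => c1 hc.1⟩
    exact h.uFive c1

end Dat

end Cfsg.Agent.Omega.GTwoFour
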