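import Cfsg.Agent.Omega.GTwoFour.Apt
import Cfsg.Agent.Omega.Hex.Defs

/-!
# The stabiliser of the apartment for the node `b = 2`, `q = r = 4`; no field involution

`Hex … 4 4`, coordinates `Pos24`, `C_B(U) ≤ U`, `G` of characteristic 2 type, `U ≤ S ≤ B`, `S` a
Sylow 2-subgroup of `G` ⟹ `S = U`.
-/

set_option autoImplicit false

namespace Cfsg.Agent.Omega.GTwoFour

open Cfsg.Agent.HexRec Subgroup Cfsg.Agent.Omega.GTwoFour.Cor Cfsg Cfsg.Agent.Omega.BTwo
  Cfsg.Agent.Omega.Hex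

universe u v

variable {F : Type v} [Field F] {G : Type u} [Group G]
  {P₁ P₂ B U H V R W Y D : Subgroup G} {n₁ n₂ : G} {X : Tup F F → G} {ja jb : G} {q r : ℕ}

namespace Pos24

variable (p : Pos24 P₁ P₂ H U R V D W Y X ja jb)
include p

theorem X_mem (a : Tup F F) : X a ∈ U := (p.mem_U _).mpr ⟨a, rfl⟩

theorem X_one : X one0 = 1 := by
  have h1 := p.mul one0 one0
  rw [one0_mu] at h1
  exact mul_eq_left.mp h1

theorem ja_inv : ja⁻¹ = ja := inv_eq_of_mul_eq_one_right p.ja_sq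
theorem jb_inv : jb⁻¹ = jb := inv_eq_of_mul_eq_one_right p.jb_sq

theorem ja_e2 (a : F) : ja * X (e2 a) * ja⁻¹ = X (e6 a) := by
  have := p.nA a 0 0 0 0
  rw [e2, this, mul_inv_cancel_right]
  congr 1
  ext <;> simp only [e6]
  ring

theorem ja_e6 (a : F) : ja * X (e6 a) * ja⁻¹ = X (e2 a) := by
  have := p.nA 0 0 0 0 a
  rw [e6, this, mul_inv_cancel_right]
  congr 1
  ext <;> simp only [e2]
  ring

theorem jb_e4 (a : F) : jb * X (e4 a) * jb⁻¹ = X (e2 a) := by
  have := p.nB 0 0 0 a 0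
  rw [e4, this, mul_inv_cancel_right]
  congr 1
  simp [e2]

theorem ja_not (h : Hex P₁ P₂ B U H V R W Y D n₁ n₂ q r) : ja ∉ B := by
  intro hB
  have h1 : X (e2 1) ∈ Y := (p.mem_Y _).mpr rfl
  have h2 := conj_mem_of_normalizer (h.nY (h.B₁ hB)) h1
  rw [p.ja_e2] at h2
  exact one_ne_zero ((p.mem_Y _).mp h2)

theorem jb_not (h : Hex P₁ P₂ B U H V R W Y D n₁ n₂ q r) : jb ∉ B := by
  intro hB
  have h1 : X (e4 1) ∈ R := (p.mem_R _).mpr ⟨rfl, rfl, rfl, rfl, rfl⟩
  have h2 := conj_mem_of_normalizer (h.nR (h.B₂ hB)) h1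
  rw [p.jb_e4] at h2
  exact one_ne_zero ((p.mem_R _).mp h2).2.1

/-- the stabiliser of the apartment -/
theorem ja_T (h : Hex P₁ P₂ B U H V R W Y D n₁ n₂ q r) {t : G} (ht : t ∈ B ⊓ normalizer (H : Set G)) :
    ja * t * ja ∈ B ⊓ normalizer (H : Set G) := by
  have key : ∀ g ∈ P₂, g ∈ normalizer (H : Set G) → g ∈ B ∨ n₂⁻¹ * g ∈ B := fun g hg hgN =>
    h.two₂ g hg fun x hx => h.HB (conj_inv_mem_of_normalizer hgN hx)
  have h1 : n₂⁻¹ * ja ∈ B := (key ja p.ja_mem p.ja_H).resolve_left (p.ja_not h)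
  have h2 : n₂⁻¹ * (t * ja) ∈ B := by
    refine (key (t * ja) (P₂.mul_mem (h.B₂ ht.1) p.ja_mem) (mul_mem ht.2 p.ja_H)).resolve_left fun hc => ?_
    exact p.ja_not h ((B.mul_mem_cancel_left ht.1).1 hc)
  have h3 : ja * t * ja = (n₂⁻¹ * ja)⁻¹ * (n₂⁻¹ * (t * ja)) := by
    calc ja * t * ja = ja⁻¹ * t * ja := by rw [p.ja_inv]
      _ = _ := by group
  refine ⟨?_, mul_mem (mul_mem p.ja_H ht.2) p.ja_H⟩
  rw [h3]
  exact B.mul_mem (B.inv_mem h1) h2

theorem jb_T (h : Hex P₁ P₂ B U H V R W Y D n₁ n₂ q r) {t : G} (ht : t ∈ B ⊓ normalizer (H : Set G)) :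
    jb * t * jb ∈ B ⊓ normalizer (H : Set G) := by
  have key : ∀ g ∈ P₁, g ∈ normalizer (H : Set G) → g ∈ B ∨ n₁⁻¹ * g ∈ B := fun g hg hgN =>
    h.two₁ g hg fun x hx => h.HB (conj_inv_mem_of_normalizer hgN hx)
  have h1 : n₁⁻¹ * jb ∈ B := (key jb p.jb_mem p.jb_H).resolve_left (p.jb_not h)
  have h2 : n₁⁻¹ * (t * jb) ∈ B := by
    refine (key (t * jb) (P₁.mul_mem (h.B₁ ht.1) p.jb_mem) (mul_mem ht.2 p.jb_H)).resolve_left fun hc => ?_
    exact p.jb_not h ((B.mul_mem_cancel_left ht.1).1 hc)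
  have h3 : jb * t * jb = (n₁⁻¹ * jb)⁻¹ * (n₁⁻¹ * (t * jb)) := by
    calc jb * t * jb = jb⁻¹ * t * jb := by rw [p.jb_inv]
      _ = _ := by group
  refine ⟨?_, mul_mem (mul_mem p.jb_H ht.2) p.jb_H⟩
  rw [h3]
  exact B.mul_mem (B.inv_mem h1) h2

/-- `U ∩ N(H) = 1` -/
theorem U_inf (h : Hex P₁ P₂ B U H V R W Y D n₁ n₂ q r) [Finite G] {x : G} (hx : x ∈ U)
    (hN : x ∈ normalizer (H : Set G)) : x = 1 := by
  have hF := p.card
  have h2 := two hF
  obtain ⟨w, hw⟩ := exists_w hF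
  have hw3 : w ^ 3 = 1 := by linear_combination (w - 1) * hw
  have hw0 : w ≠ 0 := by rintro rfl; simp at hw
  have hw1 : w ≠ 1 := by
    rintro rfl
    apply one_ne_zero (α := F)
    linear_combination hw - h2
  obtain ⟨a, rfl⟩ := (p.mem_U x).mp hx
  -- `H ∩ U = 1`
  have hHU : ∀ y ∈ H, y ∈ U → y = 1 := by
    intro y hy hyU
    have h3 : orderOf y ∣ Nat.card H := Subgroup.orderOf_dvd_natCard H hy
    obtain ⟨k, hk⟩ := (IsPGroup.iff_orderOf.mp h.two) ⟨y, hyU⟩
    rw [Subgroup.orderOf_mk] at hk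
    have h4 : Odd (orderOf y) := Odd.of_dvd_nat h.oddH h3
    rw [hk] at h4
    rcases Nat.eq_zero_or_pos k with h5 | h5
    · rw [h5, pow_zero] at hk
      exact orderOf_eq_one_iff.mp hk
    · exact absurd h4 (by rw [Nat.not_odd_iff_even]; exact (Nat.even_pow.mpr ⟨even_two, by omega⟩))
  have hcom : ∀ y ∈ H, y * X a * y⁻¹ = X a := by
    intro y hy
    have h3 : y * X a * y⁻¹ * (X a)⁻¹ = 1 := by
      apply hHU
      · have h4 := conj_mem_of_normalizer hN (H.inv_mem hy)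
        have h5 : y * X a * y⁻¹ * (X a)⁻¹ = y * (X a * y⁻¹ * (X a)⁻¹) := by group
        rw [h5]
        exact H.mul_mem hy h4
      · exact U.mul_mem (conj_mem_of_normalizer (h.nU (h.HB hy)) hx) (U.inv_mem hx)
    exact mul_inv_eq_one.mp h3
  have hdg : ∀ l m : F, l ≠ 0 → m ≠ 0 → dg l m a = a := by
    intro l m hl hm
    obtain ⟨y, hy, hyX⟩ := p.diag' l m hl hm
    exact p.inj ((hyX a).symm.trans (hcom y hy))
  have k1 := hdg w 1 hw0 one_ne_zero
  have k2 := hdg 1 w one_ne_zero hw0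
  have hz : ∀ c b : F, c ≠ 1 → c * b = b → b = 0 := by
    intro c b hc hb
    by_contra hb0
    exact hc (mul_right_cancel₀ hb0 (hb.trans (one_mul b).symm))
  have hw2 : w ^ 2 ≠ 1 := by
    intro hc
    apply hw1
    rw [pow_succ, hc, one_mul] at hw3
    exact hw3
  have : a = one0 := by
    have c1 := congrArg Tup.a1 k1
    have c3 := congrArg Tup.a3 k1
    have c5 := congrArg Tup.a5 k1
    have c2 := congrArg Tup.a2 k2
    have c4 := congrArg Tup.a4 k2
    have c6 := congrArg Tup.a6 k2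
    simp only [dg] at c1 c2 c3 c4 c5 c6
    rw [mul_one] at c3 c5
    ext
    · exact hz _ _ hw1 c1
    · exact hz _ _ hw1 c2
    · exact hz _ _ hw2 c3
    · exact hz _ _ hw2 c4
    · exact hz _ _ hw1 c5
    · exact hz _ _ hw1 c6
  rw [this, p.X_one]

/-- an element of `H` centralising `U` is trivial -/
theorem H_cen (h : Hex P₁ P₂ B U H V R W Y D n₁ n₂ q r) [Finite G] (hc : B ⊓ centralizer (U : Set G) ≤ U)
    {t : G} (ht : t ∈ B ⊓ normalizer (H : Set G)) (hX : ∀ a, t * X a = X a * t) : t = 1 := by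
  refine p.U_inf h (hc ⟨ht.1, mem_centralizer_iff.mpr fun x hx => ?_⟩) ht.2
  obtain ⟨a, rfl⟩ := (p.mem_U x).mp hx
  exact (hX a).symm

omit p in
theorem eq_zero_of {c b : F} (hc : c ≠ 1) (hb : c * b = b) : b = 0 := by
  by_contra hb0
  exact hc (mul_right_cancel₀ hb0 (hb.trans (one_mul b).symm))

omit p in
theorem eq_one_of_mul {c b : F} (hb0 : b ≠ 0) (hb : c * b = b) : c = 1 :=
  mul_right_cancel₀ hb0 (hb.trans (one_mul b).symm)

/-- the action of `t` : the parameters of a conjugate of an element of the torus -/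
theorem conj_par (h : Hex P₁ P₂ B U H V R W Y D n₁ n₂ q r) [Finite G]
    (hc : B ⊓ centralizer (U : Set G) ≤ U) {t : G} (ht : t ∈ B ⊓ normalizer (H : Set G)) {l m : F}
    (hl : l ≠ 0) (hm : m ≠ 0) (hlm : ¬ (l = 1 ∧ m = 1)) {a : Tup F F} (ha : dg l m a = a)
    {b : Tup F F} (hb : t * X a * t⁻¹ = X b) :
    ∃ l' m' : F, l' ≠ 0 ∧ m' ≠ 0 ∧ ¬ (l' = 1 ∧ m' = 1) ∧ dg l' m' b = b := by
  obtain ⟨x, hx, hxX⟩ := p.diag' l m hl hm
  have hxH : t * x * t⁻¹ ∈ H := conj_mem_of_normalizer ht.2 hx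
  obtain ⟨l', m', hl', hm', hlm'⟩ := p.diag _ hxH
  refine ⟨l', m', hl', hm', ?_, ?_⟩
  · rintro ⟨rfl, rfl⟩
    have h1 : t * x * t⁻¹ = 1 := by
      refine p.H_cen h hc ⟨h.HB hxH, le_normalizer hxH⟩ fun c => ?_
      rw [← mul_inv_eq_iff_eq_mul, hlm']
      congr 1
      ext <;> simp [dg]
    have h2 : x = 1 := by
      have h3 : t * x = t := by rw [← mul_inv_eq_one]; exact h1
      exact mul_eq_left.mp h3
    have h3 : ∀ c, dg l m c = c := fun c => by
      apply p.inj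
      rw [← hxX, h2]; group
    apply hlm
    constructor
    · have := congrArg Tup.a1 (h3 (e1 1))
      simpa [dg, e1] using this
    · have := congrArg Tup.a2 (h3 (e2 1))
      simpa [dg, e2] using this
  · apply p.inj
    rw [← hlm', ← hb]
    calc t * x * t⁻¹ * (t * X a * t⁻¹) * (t * x * t⁻¹)⁻¹ = t * (x * X a * x⁻¹) * t⁻¹ := by group
      _ = t * X a * t⁻¹ := by rw [hxX, ha]

section T

variable (h : Hex P₁ P₂ B U H V R W Y D n₁ n₂ q r) [Finite G] (hc : B ⊓ centralizer (U : Set G) ≤ U)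
  {t : G} (ht : t ∈ B ⊓ normalizer (H : Set G))
include h hc ht

omit hc [Finite G] in
theorem exists_tup (a : Tup F F) : ∃ b, t * X a * t⁻¹ = X b := by
  obtain ⟨b, hb⟩ := (p.mem_U _).mp (conj_mem_of_normalizer (h.nU ht.1) (p.X_mem a))
  exact ⟨b, hb.symm⟩

omit hc [Finite G] p in
/-- `t` moves no normalised subgroup -/
theorem mem_iff_of {K : Subgroup G} (hK : B ≤ normalizer (K : Set G)) {x y : G} (hxy : t * x * t⁻¹ = y) :
    y ∈ K ↔ x ∈ K := by
  rw [← hxy]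
  exact (mem_normalizer_iff.mp (hK ht.1) x).symm

theorem T1 (a : F) : ∃ b, t * X (e1 a) * t⁻¹ = X (e1 b) := by
  have hF := p.card
  obtain ⟨w, hw⟩ := exists_w hF
  have hw3 : w ^ 3 = 1 := by linear_combination (w - 1) * hw
  have hw0 : w ≠ 0 := by rintro rfl; simp at hw
  have hw1 : w ≠ 1 := by
    rintro rfl
    apply one_ne_zero (α := F)
    linear_combination hw - two hF
  by_cases ha : a = 0
  · subst ha
    refine ⟨0, ?_⟩
    have : (e1 0 : Tup F F) = one0 := rfl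
    rw [this, p.X_one]; group
  obtain ⟨b, hb⟩ := p.exists_tup h ht (e1 a)
  obtain ⟨l, m, hl, hm, hlm, hd⟩ := p.conj_par h hc ht (l := 1) (m := w) one_ne_zero hw0
    (fun hh => hw1 hh.2) (a := e1 a) (by ext <;> simp [dg, e1]) hb
  have hbW : b.a1 ≠ 0 := by
    rw [Ne, ← p.mem_W, mem_iff_of h ht (h.B₂.trans h.nW) hb, p.mem_W]
    exact ha
  have d1 := congrArg Tup.a1 hd
  have d2 := congrArg Tup.a2 hd
  have d3 := congrArg Tup.a3 hd
  have d4 := congrArg Tup.a4 hd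
  have d5 := congrArg Tup.a5 hd
  have d6 := congrArg Tup.a6 hd
  simp only [dg] at d1 d2 d3 d4 d5 d6
  have l1 : l = 1 := eq_one_of_mul hbW d1
  have m1 : m ≠ 1 := fun hh => hlm ⟨l1, hh⟩
  have m3 := cube hF hm
  have m2 : m ^ 2 ≠ 1 := by
    intro hh
    apply m1
    rw [pow_succ, hh, one_mul] at m3
    exact m3
  subst l1
  rw [one_pow, one_mul] at d3
  rw [one_mul] at d5
  have hbb : b = e1 b.a1 := by
    ext
    · rfl
    · exact eq_zero_of m1 d2
    · exact eq_zero_of m1 d3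
    · exact eq_zero_of m2 d4
    · exact eq_zero_of m1 d5
    · exact eq_zero_of m1 d6
  exact ⟨b.a1, by rw [hb, hbb]; rfl⟩

theorem T3 (a : F) : ∃ b, t * X (e3 a) * t⁻¹ = X (e3 b) := by
  have hF := p.card
  obtain ⟨w, hw⟩ := exists_w hF
  have hw3 : w ^ 3 = 1 := by linear_combination (w - 1) * hw
  have hw0 : w ≠ 0 := by rintro rfl; simp at hw
  have hw1 : w ≠ 1 := by
    rintro rfl
    apply one_ne_zero (α := F)
    linear_combination hw - two hF
  by_cases ha : a = 0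
  · subst ha
    refine ⟨0, ?_⟩
    have : (e3 0 : Tup F F) = one0 := rfl
    rw [this, p.X_one]; group
  obtain ⟨b, hb⟩ := p.exists_tup h ht (e3 a)
  obtain ⟨l, m, hl, hm, hlm, hd⟩ := p.conj_par h hc ht (l := w) (m := w) hw0 hw0
    (fun hh => hw1 hh.2) (a := e3 a) (by
      ext <;> simp only [dg, e3, mul_zero]
      rw [← pow_succ, hw3, one_mul]) hb
  have hbD : b.a1 = 0 ∧ b.a5 = 0 ∧ b.a6 = 0 := by
    rw [← p.mem_D, mem_iff_of h ht (h.B₁.trans h.nD) hb, p.mem_D]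
    exact ⟨rfl, rfl, rfl⟩
  have hbV : b.a3 ≠ 0 := by
    intro h3
    have : X b ∈ V := (p.mem_V _).mpr ⟨hbD.1, h3, hbD.2.1, hbD.2.2⟩
    rw [mem_iff_of h ht (h.B₁.trans h.nV) hb, p.mem_V] at this
    exact ha this.2.1
  have d2 := congrArg Tup.a2 hd
  have d3 := congrArg Tup.a3 hd
  have d4 := congrArg Tup.a4 hd
  simp only [dg] at d2 d3 d4
  have l1 : l ^ 2 * m = 1 := eq_one_of_mul hbV d3
  have m3 := cube hF hm
  have l3 := cube hF hl
  have ml : m = l := by linear_combination l * l1 - m * l3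
  have m1 : m ≠ 1 := fun hh => hlm ⟨ml.symm.trans hh, hh⟩
  have m2 : m ^ 2 ≠ 1 := by
    intro hh
    apply m1
    rw [pow_succ, hh, one_mul] at m3
    exact m3
  have hbb : b = e3 b.a3 := by
    ext
    · exact hbD.1
    · exact eq_zero_of m1 d2
    · rfl
    · exact eq_zero_of m2 d4
    · exact hbD.2.1
    · exact hbD.2.2
  exact ⟨b.a3, by rw [hb, hbb]; rfl⟩

theorem T5 (a : F) : ∃ b, t * X (e5 a) * t⁻¹ = X (e5 b) := by
  have hF := p.card
  obtain ⟨w, hw⟩ := exists_w hF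
  have hw3 : w ^ 3 = 1 := by linear_combination (w - 1) * hw
  have hw0 : w ≠ 0 := by rintro rfl; simp at hw
  have hw1 : w ≠ 1 := by
    rintro rfl
    apply one_ne_zero (α := F)
    linear_combination hw - two hF
  by_cases ha : a = 0
  · subst ha
    refine ⟨0, ?_⟩
    have : (e5 0 : Tup F F) = one0 := rfl
    rw [this, p.X_one]; group
  obtain ⟨b, hb⟩ := p.exists_tup h ht (e5 a)
  obtain ⟨l, m, hl, hm, hlm, hd⟩ := p.conj_par h hc ht (l := w) (m := w ^ 2) hw0 (pow_ne_zero 2 hw0)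
    (fun hh => hw1 hh.1) (a := e5 a) (by
      ext <;> simp only [dg, e5, mul_zero]
      have : w * w ^ 2 = 1 := by linear_combination hw3
      rw [this, one_mul]) hb
  have hb1 : b.a1 = 0 := by
    rw [← p.mem_W, mem_iff_of h ht (h.B₂.trans h.nW) hb, p.mem_W]
    rfl
  have hb6 : b.a6 = 0 := by
    rw [← p.mem_Y, mem_iff_of h ht (h.B₁.trans h.nY) hb, p.mem_Y]
    rfl
  have hb5 : b.a5 ≠ 0 := by
    intro h5
    have : X b ∈ D := (p.mem_D _).mpr ⟨hb1, h5, hb6⟩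
    rw [mem_iff_of h ht (h.B₁.trans h.nD) hb, p.mem_D] at this
    exact ha this.2.1
  have d2 := congrArg Tup.a2 hd
  have d3 := congrArg Tup.a3 hd
  have d4 := congrArg Tup.a4 hd
  have d5 := congrArg Tup.a5 hd
  simp only [dg] at d2 d3 d4 d5
  have l1 : l * m = 1 := eq_one_of_mul hb5 d5
  have m3 := cube hF hm
  have l3 := cube hF hl
  have lne : l ≠ 1 := by
    intro hh
    rw [hh, one_mul] at l1
    exact hlm ⟨hh, l1⟩
  have m1 : m ≠ 1 := by
    intro hh
    rw [hh, mul_one] at l1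
    exact hlm ⟨l1, hh⟩
  have m2 : m ^ 2 ≠ 1 := by
    intro hh
    apply m1
    rw [pow_succ, hh, one_mul] at m3
    exact m3
  have hlm2 : l ^ 2 * m = l := by linear_combination l * l1
  rw [hlm2] at d3
  have hbb : b = e5 b.a5 := by
    ext
    · exact hb1
    · exact eq_zero_of m1 d2
    · exact eq_zero_of lne d3
    · exact eq_zero_of m2 d4
    · rfl
    · exact hb6
  exact ⟨b.a5, by rw [hb, hbb]; rfl⟩

theorem T2 (a : F) : ∃ b, t * X (e2 a) * t⁻¹ = X (e2 b) := by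
  obtain ⟨b, hb⟩ := p.T1 h hc ht 1
  obtain ⟨c, hc'⟩ := p.T3 h hc ht a
  have key : ∀ x y : F, X (e2 (x * y)) = (X (e1 x))⁻¹ * (X (e3 y) * X (e1 x)) * (X (e3 y))⁻¹ := by
    intro x y
    have k : X (e1 x) * X (e2 (x * y)) * X (e3 y) = X (e3 y) * X (e1 x) := by
      simp only [p.mul]
      congr 1
      ext <;> simp only [mu, e1, e2, e3] <;> ring
    rw [← k]; group
  refine ⟨b * c, ?_⟩
  have k := key 1 a
  rw [one_mul] at k
  rw [k, key b c, ← hb, ← hc']
  group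

theorem T6 (a : F) : ∃ b, t * X (e6 a) * t⁻¹ = X (e6 b) := by
  obtain ⟨b, hb⟩ := p.T2 h hc (p.ja_T h ht) a
  refine ⟨b, ?_⟩
  rw [← p.ja_e2 a, ← p.ja_e2 b, ← hb, p.ja_inv]
  have e1 : (ja * t * ja)⁻¹ = ja * t⁻¹ * ja := by
    rw [mul_inv_rev, mul_inv_rev, p.ja_inv]; group
  rw [e1]
  have hj := p.ja_sq
  calc t * (ja * X (e2 a) * ja) * t⁻¹ = (ja * ja) * t * (ja * X (e2 a) * ja) * t⁻¹ * (ja * ja) := by
        rw [hj]; group
    _ = _ := by group

end T

/-- the apartment -/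
theorem apt (h : Hex P₁ P₂ B U H V R W Y D n₁ n₂ q r) [Finite G] (hc : B ⊓ centralizer (U : Set G) ≤ U) :
    Apt X H (B ⊓ normalizer (H : Set G)) ja jb where
  card := p.card
  inj := p.inj
  mul := p.mul
  tor := p.diag
  surj := p.diag'
  HT := le_inf h.HB le_normalizer
  TH := fun _ ht _ hx => conj_mem_of_normalizer ht.2 hx
  cen := fun _ ht hX => p.H_cen h hc ht hX
  T1 := fun _ ht a => p.T1 h hc ht a
  T5 := fun _ ht a => p.T5 h hc ht a
  T6 := fun _ ht a => p.T6 h hc ht a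
  jaT := fun _ ht => p.ja_T h ht
  jbT := fun _ ht => p.jb_T h ht
  ja_sq := p.ja_sq
  jb_sq := p.jb_sq
  nA := p.nA
  nB := p.nB

/-- the 2-part of the stabiliser of the apartment has exponent two -/
theorem six (h : Hex P₁ P₂ B U H V R W Y D n₁ n₂ q r) [Finite G] (hc : B ⊓ centralizer (U : Set G) ≤ U)
    {x : G} (hx : x ∈ B ⊓ normalizer (H : Set G)) : x ^ 6 = 1 := by
  have A := p.apt h hc
  have hF := p.card
  have key : ∀ e : F → Tup F F, Function.Injective e → e 0 = one0 →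
      (∀ a, ∃ b, x * X (e a) * x⁻¹ = X (e b)) → ∀ a, x ^ 6 * X (e a) * (x ^ 6)⁻¹ = X (e a) := by
    intro e he he0 hb a
    obtain ⟨c, hc, hc'⟩ := A.root_form he he0 he he0 hb
    have c3 := cube hF hc
    have a4 := pow4 hF a
    have e6 : x ^ 6 * X (e a) * (x ^ 6)⁻¹ =
        x * (x * (x * (x * (x * (x * X (e a) * x⁻¹) * x⁻¹) * x⁻¹) * x⁻¹) * x⁻¹) * x⁻¹ := by
      simp only [pow_succ, pow_zero, one_mul, mul_inv_rev, mul_assoc]
    rcases hc' with hc' | hc'
    · rw [e6, hc', hc', hc', hc', hc', hc']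
      congr 2
      linear_combination (c ^ 3 + 1) * a * c3
    · rw [e6, hc', hc', hc', hc', hc', hc']
      have k : ∀ b : F, c * (c * b ^ 2) ^ 2 = b := by
        intro b
        have := pow4 hF b
        linear_combination b ^ 4 * c3 + this
      rw [k, k, k]
  exact A.eq_one_of (pow_mem hx 6) (key e1 e1_inj rfl fun a => p.T1 h hc hx a)
    (key e6 e6_inj rfl fun a => p.T6 h hc hx a)

/-- **No field involution**: the Sylow 2-subgroup is `U`. -/
theorem sylow_eq (h : Hex P₁ P₂ B U H V R W Y D n₁ n₂ q r) [Finite G]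
    (hc : B ⊓ centralizer (U : Set G) ≤ U) (hG : IsCharacteristicTwoType G) (S : Sylow 2 G)
    (hUS : U ≤ S) (hSB : (S : Subgroup G) ≤ B) : (S : Subgroup G) = U := by
  have A := p.apt h hc
  have hF := p.card
  obtain ⟨w, hw⟩ := exists_w hF
  have hww : w ^ 2 ≠ w := by
    intro hc
    rw [hc] at hw
    apply one_ne_zero (α := F)
    linear_combination hw - w * two hF
  -- involutions
  have hsq : ∀ x : G, x ∈ (S : Subgroup G) → x ∈ B ⊓ normalizer (H : Set G) → x * x = 1 := by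
    intro x hxS hx
    have h6 := p.six h hc hx
    obtain ⟨k, hk⟩ := (IsPGroup.iff_orderOf.mp S.isPGroup') ⟨x, hxS⟩
    rw [Subgroup.orderOf_mk] at hk
    have h7 : orderOf x ∣ 6 := orderOf_dvd_of_pow_eq_one h6
    have h8 : orderOf x ∣ 2 := by
      rw [hk] at h7 ⊢
      have h9 : Nat.Coprime (2 ^ k) 3 := Nat.Coprime.pow_left _ (by norm_num)
      exact h9.dvd_of_dvd_mul_right (by simpa using h7)
    rw [← pow_two]
    exact orderOf_dvd_iff_pow_eq_one.mp h8
  have huniq : ∀ x y : G, x ∈ (S : Subgroup G) → x ∈ B ⊓ normalizer (H : Set G) → x ≠ 1 →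
      y ∈ (S : Subgroup G) → y ∈ B ⊓ normalizer (H : Set G) → y ≠ 1 → x = y := by
    intro x y hxS hx hx1 hyS hy hy1
    by_contra hne
    have hxy : x * y ≠ 1 := by
      intro hxy
      apply hne
      have h1 := inv_eq_of_mul_eq_one_right (hsq y hyS hy)
      rw [← mul_inv_eq_one, h1, hxy]
    obtain ⟨c, -, -, -, hc1, -⟩ := A.inv_form hx (hsq x hxS hx) hx1
    obtain ⟨d, -, -, -, hd1, -⟩ := A.inv_form hy (hsq y hyS hy) hy1
    obtain ⟨e, -, he, -, he1, -⟩ := A.inv_form (mul_mem hx hy)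
      (hsq _ (mul_mem hxS hyS) (mul_mem hx hy)) hxy
    have k : ∀ a, c * (d * a ^ 2) ^ 2 = e * a ^ 2 := by
      intro a
      apply e1_inj
      apply p.inj
      rw [← hc1, ← hd1, ← he1]
      group
    have k1 := k 1
    have kw := k w
    have w4 := pow4 hF w
    apply hww
    apply mul_left_cancel₀ he
    linear_combination -kw + w ^ 4 * k1 + e * w4
  by_contra hne
  -- an involution in the stabiliser of the apartment
  obtain ⟨s, hsS, hsU⟩ : ∃ s ∈ (S : Subgroup G), s ∉ U := by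
    by_contra hcon
    push Not at hcon
    exact hne (le_antisymm hcon hUS)
  obtain ⟨u, hu, hun⟩ := h.frat s (hSB hsS)
  obtain ⟨t, htd⟩ : ∃ t, t = u⁻¹ * s := ⟨_, rfl⟩
  have htS : t ∈ (S : Subgroup G) := by rw [htd]; exact mul_mem (inv_mem (hUS hu)) hsS
  have htT : t ∈ B ⊓ normalizer (H : Set G) := ⟨hSB htS, by rw [htd]; exact hun⟩
  have ht1 : t ≠ 1 := by
    intro h1
    rw [h1] at htd
    apply hsU
    have : s = u := (inv_mul_eq_one.mp htd.symm).symm
    rw [this]; exact hu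
  have htt := hsq t htS htT
  -- the order of `S`
  have hcard : Nat.card (S : Subgroup G) ≤ Nat.card U * 2 := by
    have hf : ∀ z : U × Bool, (z.1 : G) * (bif z.2 then t else 1) ∈ (S : Subgroup G) := by
      rintro ⟨v, b⟩
      refine mul_mem (hUS v.2) ?_
      cases b
      · exact one_mem _
      · exact htS
    have h1 : Function.Surjective (fun z : U × Bool => (⟨_, hf z⟩ : (S : Subgroup G))) := by
      rintro ⟨x, hx⟩
      obtain ⟨v, hv, hvn⟩ := h.frat x (hSB hx)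
      have hyS : v⁻¹ * x ∈ (S : Subgroup G) := mul_mem (inv_mem (hUS hv)) hx
      by_cases hy1 : v⁻¹ * x = 1
      · refine ⟨(⟨v, hv⟩, false), Subtype.ext ?_⟩
        simp only [cond_false, mul_one]
        exact (inv_mul_eq_one.mp hy1)
      · have h2 := huniq _ t hyS ⟨hSB hyS, hvn⟩ hy1 htS htT ht1
        refine ⟨(⟨v, hv⟩, true), Subtype.ext ?_⟩
        simp only [cond_true]
        rw [← h2]; group
    have h2 := Nat.card_le_card_of_surjective _ h1
    rw [Nat.card_prod] at h2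
    simpa using h2
  obtain ⟨f, -, E⟩ := A.exists_dat htT htt ht1
  have hEU : E.T = U := by
    ext x
    rw [E.mem_T, p.mem_U]
    exact ⟨fun ⟨a, ha⟩ => ⟨a, ha.symm⟩, fun ⟨a, ha⟩ => ⟨a, ha.symm⟩⟩
  have hU : Nat.card U = 4096 := by rw [← hEU]; exact E.card_T
  obtain ⟨Q, hQ⟩ := E.two_S0.exists_le_sylow
  have hQS : Nat.card (Q : Subgroup G) = Nat.card (S : Subgroup G) :=
    Nat.card_congr (Sylow.equiv Q S).toEquiv
  have hQ' : (Q : Subgroup G) = E.S0 := by
    refine (eq_of_le_of_card_ge hQ ?_).symm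
    rw [hQS, E.card_S0]
    rw [hU] at hcard
    exact hcard
  exact E.false_of_field hG Q hQ'

end Pos24

end Cfsg.Agent.Omega.GTwoFour
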