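import Cfsg.Agent.Omega.GTwoFour.IdD
import Cfsg.Agent.Omega.GTwoFour.IdPos
import Cfsg.Agent.Omega.GTwoFour.OfHex

/-!
# The pair of type `G₂(4)`: the Sylow 2-subgroup of `G` is that of `G₂(4)`

`Hex … 4 4`, `Four`, `C_B(U) ≤ U`, `G` of characteristic 2 type: `S = U` has the coordinates of the Sylow
2-subgroup of `G₂(4)`.
-/

set_option autoImplicit false

namespace Cfsg.Agent.Omega.GTwoFour

open Cfsg.Agent.HexRec Subgroup Cfsg Cfsg.Agent.Omega.BTwo Cfsg.Agent.Omega.Hex Cfsg.Agent.Hex.Defs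

universe u v

/-- larger parabolic subgroups -/
theorem Pos24.mono {F : Type v} [Field F] {G : Type u} [Group G] {X₁ X₂ P₁ P₂ H U V R W Y D : Subgroup G}
    {X : Tup F F → G} {ja jb : G} (p : Pos24 X₁ X₂ H U R V D W Y X ja jb) (h₁ : X₁ ≤ P₁) (h₂ : X₂ ≤ P₂) :
    Pos24 P₁ P₂ H U R V D W Y X ja jb :=
  { card := p.card, inj := p.inj, mul := p.mul, mem_U := p.mem_U, diag := p.diag, diag' := p.diag'
    ja_mem := h₂ p.ja_mem, jb_mem := h₁ p.jb_mem, ja_sq := p.ja_sq, jb_sq := p.jb_sq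
    ja_H := p.ja_H, jb_H := p.jb_H, nA := p.nA, nB := p.nB, mem_R := p.mem_R, mem_V := p.mem_V
    mem_D := p.mem_D, mem_W := p.mem_W, mem_Y := p.mem_Y }

/-- **coordinates of the pair** -/
theorem exists_pos24 {F : Type v} [Field F] {G : Type u} [Group G] [Finite G]
    {X₁ X₂ P₁ P₂ U V R W Y D : Subgroup G} {h₁ h₂ : G} (f : Id.Four F X₁ X₂ U V R W Y D h₁ h₂)
    (hX₁ : X₁ ≤ P₁) (hX₂ : X₂ ≤ P₂) : ∃ (X : Tup F F → G) (ja jb : G),
      Pos24 P₁ P₂ (zpowers h₁ ⊔ zpowers h₂) U R V D W Y X ja jb := by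
  obtain ⟨h, w, na, nb, x1, x2, x3, x4, x5, x6, hh, f', r⟩ := f.exists_rts
  have h1 : zpowers h = zpowers h₁ := by
    rcases hh with rfl | rfl
    · rfl
    · exact zpowers_inv
  have p := (r.pos24 f').mono hX₁ hX₂
  rw [h1] at p
  exact ⟨_, _, _, p⟩

/-- **the Sylow 2-subgroup** -/
theorem exists_coord_sylow {F : Type v} [Field F] {G : Type u} [Group G] [Finite G]
    (hG : IsCharacteristicTwoType G) (S : Sylow 2 G) {X₁ X₂ P₁ P₂ B U V R W Y D : Subgroup G} {h₁ h₂ n₁ n₂ : G}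
    {q r : ℕ} (h : Hex P₁ P₂ B U (zpowers h₁ ⊔ zpowers h₂) V R W Y D n₁ n₂ q r)
    (hc : B ⊓ centralizer (U : Set G) ≤ U) (hUS : U ≤ S) (hSB : (S : Subgroup G) ≤ B)
    (f : Id.Four F X₁ X₂ U V R W Y D h₁ h₂) (hX₁ : X₁ ≤ P₁) (hX₂ : X₂ ≤ P₂)
    {F₀ : Type} [Field F₀] [Fintype F₀] (h0 : Fintype.card F₀ = 4) (h2 : (2 : F₀) = 0) :
    Nonempty (Coord (OfPair.cubic (OfPair.pair_one h2 : CubicPair (AlgEquiv.refl : F₀ ≃ₐ[F₀] F₀)))
      (S : Subgroup G)) := by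
  obtain ⟨X, ja, jb, p⟩ := exists_pos24 f hX₁ hX₂
  have hS := p.sylow_eq h hc hG S hUS hSB
  rw [hS]
  exact ToCoord.exists_coord p.card p.inj p.mul p.mem_U h0 h2

end Cfsg.Agent.Omega.GTwoFour
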