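import Cfsg.Agent.Omega.GTwoFour.Low

/-!
# The pair of type `G₂(4)`: `|O₂(C(z))| ≥ 256` for a long root involution `z`
-/

set_option autoImplicit false

namespace Cfsg.Agent.Omega.GTwoFour

open Cfsg.Agent.HexRec Subgroup Cfsg.Agent.Omega.GTwoFour.Cor Cfsg

universe u v

variable {F : Type v} [Field F] {G : Type u} [Group G] {X : Tup F F → G} {f : G} {ja jb : G}

/-- the action of `x1(t)` on `Q2` -/
def aA (t : F) (a : Tup F F) : Tup F F :=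
  ⟨0, a.a2 + a.a6 * t ^ 3 + t * a.a3 + t ^ 2 * a.a5, a.a3 + a.a6 * t ^ 2,
    a.a4 + a.a6 ^ 2 * t ^ 3 + t * a.a5 ^ 2 + a.a6 * t ^ 2 * a.a5, a.a5 + a.a6 * t, a.a6⟩

/-- the action of `ja` on `Q2` -/
def jA (a : Tup F F) : Tup F F := ⟨0, a.a6, a.a5, a.a4 + a.a2 * a.a6 + a.a3 * a.a5, a.a3, a.a2⟩

/-- the action of `x1(t) x1(t)^{ja}` on `Q2` -/
def gA (t : F) (a : Tup F F) : Tup F F := aA t (jA (aA t (jA a)))

theorem gA_one (hF : Nat.card F = 4) : gA 1 ⟨0, 0, 0, 0, 0, 1⟩ = (⟨0, 1, 1, 1, 1, 1⟩ : Tup F F) ∧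
    gA 1 ⟨0, 1, 1, 1, 1, 1⟩ = (⟨0, 1, 0, 0, 0, 0⟩ : Tup F F) ∧
    gA 1 ⟨0, 1, 0, 0, 0, 0⟩ = (⟨0, 0, 0, 0, 0, 1⟩ : Tup F F) := by
  have h2 := two hF
  refine ⟨?_, ?_, ?_⟩ <;> ext <;> simp only [gA, aA, jA] <;> grind

theorem gA_w (hF : Nat.card F = 4) {t : F} (ht : t ^ 2 + t + 1 = 0) :
    gA t ⟨0, 0, 0, 0, 0, 1⟩ = (⟨0, 1, t ^ 2, 1, t, 1⟩ : Tup F F) ∧
    gA t ⟨0, 1, t ^ 2, 1, t, 1⟩ = (⟨0, 1, t, 1, t ^ 2, 1⟩ : Tup F F) ∧
    gA t ⟨0, 1, t, 1, t ^ 2, 1⟩ = (⟨0, 1, 0, 0, 0, 0⟩ : Tup F F) ∧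
    gA t ⟨0, 1, 0, 0, 0, 0⟩ = (⟨0, 1, 1, 1, 1, 1⟩ : Tup F F) ∧
    gA t ⟨0, 1, 1, 1, 1, 1⟩ = (⟨0, 0, 0, 0, 0, 1⟩ : Tup F F) := by
  have h2 := two hF
  have h3 : t ^ 3 = 1 := by linear_combination (t - 1) * ht
  have h4 : t ^ 2 = t + 1 := by linear_combination ht - (t + 1) * h2
  refine ⟨?_, ?_, ?_, ?_, ?_⟩ <;> ext <;> simp only [gA, aA, jA] <;> grind

namespace Dat

variable (h : Dat X f ja jb)
include h

theorem z_sq : X (e4 1) * X (e4 1) = 1 := by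
  have h2 := two h.card
  rw [h.mul, ← h.X_one]
  congr 1
  ext <;> simp only [mu, e4, one0] <;> grind

theorem z_ne : X (e4 1) ≠ 1 := by
  intro hc
  have h1 := congrArg Tup.a4 (h.eq_one hc)
  simp only [e4, one0] at h1
  exact one_ne_zero h1

/-- `x4` is central in `T` -/
theorem e4_cen (a : Tup F F) (s : F) : X a * X (e4 s) = X (e4 s) * X a := by
  rw [h.mul, h.mul]
  congr 1
  ext <;> simp only [mu, e4] <;> ring

theorem S0_cen {g : G} (hg : g ∈ h.S0) : g * X (e4 1) = X (e4 1) * g := by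
  have key : ∀ x ∈ h.T, x * X (e4 1) = X (e4 1) * x := by
    rintro _ ⟨a, rfl⟩
    exact h.e4_cen a 1
  rcases hg with hg | hg
  · exact key g hg
  · have h1 := key _ hg
    have h3 : f * X (e4 1) = X (e4 1) * f := by
      rw [h.comm_iff]
      ext <;> simp only [fr, e4] <;> ring
    have h4 : f * (g * X (e4 1)) = f * (X (e4 1) * g) := by
      rw [← mul_assoc, h1, ← mul_assoc, ← mul_assoc, h3]
    exact mul_left_cancel h4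

theorem J_cen : ja * X (e4 1) = X (e4 1) * ja := by
  have := h.cA 0 0 1 0 0
  rw [mul_inv_eq_iff_eq_mul] at this
  simpa [e4] using this

/-- `{a1 = 0}` -/
def Q2 : Subgroup G where
  carrier := {g | ∃ a : Tup F F, a.a1 = 0 ∧ g = X a}
  one_mem' := ⟨one0, rfl, h.X_one.symm⟩
  mul_mem' := by
    rintro _ _ ⟨a, ha, rfl⟩ ⟨b, hb, rfl⟩
    exact ⟨mu a b, by simp [mu, ha, hb], h.mul a b⟩
  inv_mem' := by
    rintro _ ⟨a, ha, rfl⟩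
    exact ⟨iv a, ha, h.inv a⟩

theorem Q2_le : h.Q2 ≤ h.T := by
  rintro _ ⟨a, _, rfl⟩
  exact h.X_mem a

theorem Q2_J {q : G} (hq : q ∈ h.Q2) : ja * q * (ja)⁻¹ ∈ h.Q2 := by
  obtain ⟨⟨a1, a2, a3, a4, a5, a6⟩, ha, rfl⟩ := hq
  simp only at ha
  subst ha
  exact ⟨_, rfl, h.cA _ _ _ _ _⟩

theorem Q2_up (t : F) {q : G} (hq : q ∈ h.Q2) : X (e1 t) * q * (X (e1 t))⁻¹ ∈ h.Q2 := by
  obtain ⟨⟨a1, a2, a3, a4, a5, a6⟩, ha, rfl⟩ := hq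
  simp only at ha
  subst ha
  exact ⟨_, rfl, h.cj1 _ _ _ _ _ _⟩

/-- the centre of `Q2` -/
def Z4 : Subgroup G where
  carrier := {g | ∃ s : F, g = X (e4 s)}
  one_mem' := ⟨0, h.X_one.symm⟩
  mul_mem' := by
    rintro _ _ ⟨a, rfl⟩ ⟨b, rfl⟩
    refine ⟨a + b, ?_⟩
    rw [h.mul]
    congr 1
    ext <;> simp only [mu, e4] <;> ring
  inv_mem' := by
    rintro _ ⟨a, rfl⟩
    refine ⟨a, ?_⟩
    rw [h.inv]
    congr 1
    ext <;> simp only [iv, e4] <;> ring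

theorem mem_Z4 {g : G} : g ∈ h.Z4 ↔ ∃ s : F, g = X (e4 s) := Iff.rfl

variable [Finite G] (S : Sylow 2 G) (hS : (S : Subgroup G) = h.S0)
include hS

theorem N_le : R (X (e4 1)) ≤ h.S0 := by
  have h1 : h.S0 ≤ normalizer (R (X (e4 1)) : Set G) := fun p hp => Cfsg.Agent.MinSimple.VModule.le_normalizer_o2 _
    (mem_centralizer_singleton_iff.mpr (h.S0_cen hp))
  have h2 : IsPGroup 2 (R (X (e4 1)) ⊔ h.S0 : Subgroup G) :=
    (R_two _).to_sup_of_normal_left' h.two_S0 h1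
  have h3 : R (X (e4 1)) ⊔ h.S0 = S := S.is_maximal' h2 (by rw [hS]; exact le_sup_right)
  rw [← hS, ← h3]
  exact le_sup_left

/-- no element of `N` has `a1 ≠ 0` -/
theorem N_a1 {a : Tup F F} (ha : X a ∈ R (X (e4 1))) : a.a1 = 0 := by
  by_contra ht
  have h2 := two h.card
  obtain ⟨a1, a2, a3, a4, a5, a6⟩ := a
  simp only at ht
  set N := R (X (e4 1)) with hN
  have hQ : h.Q2 ≤ normalizer (N : Set G) := fun p hp => Cfsg.Agent.MinSimple.VModule.le_normalizer_o2 _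
    (mem_centralizer_singleton_iff.mpr (h.S0_cen (h.T_le_S0 (h.Q2_le hp))))
  have hW : IsPGroup 2 (N ⊔ h.Q2 : Subgroup G) :=
    (R_two _).to_sup_of_normal_left' (h.two_T.to_le h.Q2_le) hQ
  have hJ : ∀ x ∈ N ⊔ h.Q2, ja * x * ja⁻¹ ∈ N ⊔ h.Q2 := by
    have h3 : N ⊔ h.Q2 ≤ (N ⊔ h.Q2).comap (MulAut.conj ja).toMonoidHom := by
      refine sup_le ?_ ?_
      · intro n hn
        exact mem_sup_left (R_norm h.J_cen hn)
      · intro q hq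
        exact mem_sup_right (h.Q2_J hq)
    intro x hx
    exact h3 hx
  have h3 : X (e1 a1) ∈ N ⊔ h.Q2 := by
    have h4 : X (e1 a1) * X ⟨0, a2, a3, a4, a5, a6⟩ ∈ N ⊔ h.Q2 → X (e1 a1) ∈ N ⊔ h.Q2 := by
      intro h5
      have h6 := mul_mem h5 (inv_mem (mem_sup_right (S := N) (T := h.Q2) ⟨⟨0, a2, a3, a4, a5, a6⟩, rfl, rfl⟩))
      rwa [mul_inv_cancel_right] at h6
    apply h4
    rw [h.mul]
    convert mem_sup_left (S := N) (T := h.Q2) ha using 2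
    ext <;> simp only [mu, e1] <;> ring
  set g := X (e1 a1) * (ja * X (e1 a1) * ja⁻¹) with hg
  have hgN : g ∈ N ⊔ h.Q2 := mul_mem h3 (hJ _ h3)
  have hgc : ∀ b : Tup F F, b.a1 = 0 → g * X b * g⁻¹ = X (gA a1 b) := by
    rintro ⟨b1, b2, b3, b4, b5, b6⟩ hb
    simp only at hb
    subst hb
    have k1 := h.cA' b2 b3 b4 b5 b6
    have k2 := h.cj1 a1 b6 b5 (b4 + b2 * b6 + b3 * b5) b3 b2
    have k3 := h.cA (b6 + b2 * a1 ^ 3 + a1 * b5 + a1 ^ 2 * b3) (b5 + b2 * a1 ^ 2)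
      (b4 + b2 * b6 + b3 * b5 + b2 ^ 2 * a1 ^ 3 + a1 * b3 ^ 2 + b2 * a1 ^ 2 * b3) (b3 + b2 * a1) b2
    have k4 := h.cj1 a1 b2 (b3 + b2 * a1)
      (b4 + b2 * b6 + b3 * b5 + b2 ^ 2 * a1 ^ 3 + a1 * b3 ^ 2 + b2 * a1 ^ 2 * b3 +
        (b6 + b2 * a1 ^ 3 + a1 * b5 + a1 ^ 2 * b3) * b2 + (b5 + b2 * a1 ^ 2) * (b3 + b2 * a1))
      (b5 + b2 * a1 ^ 2) (b6 + b2 * a1 ^ 3 + a1 * b5 + a1 ^ 2 * b3)
    change _ = X ⟨0, _, _, _, _, _⟩
    simp only [aA, jA]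
    rw [← k4, ← k3, ← k2, ← k1, hg]
    group
  have hp : ∀ m : ℕ, Odd m → g ^ m * X ⟨0, 0, 0, 0, 0, 1⟩ = X ⟨0, 0, 0, 0, 0, 1⟩ * g ^ m →
      g * X ⟨0, 0, 0, 0, 0, 1⟩ * g⁻¹ = X ⟨0, 0, 0, 0, 0, 1⟩ := by
    intro m hm hgm
    have k5 := mem_centralizer_singleton_iff.mp
      (mem_of_odd hW hgN hm (H := centralizer ({X ⟨0, 0, 0, 0, 0, 1⟩} : Set G))
        (mem_centralizer_singleton_iff.mpr hgm))
    rw [k5, mul_inv_cancel_right]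
  have h3' := cube h.card ht
  have h4 : (a1 - 1) * (a1 ^ 2 + a1 + 1) = 0 := by linear_combination h3'
  rcases mul_eq_zero.mp h4 with h5 | h5
  · have h6 : a1 = 1 := sub_eq_zero.mp h5
    rw [h6] at hgc
    obtain ⟨k1, k2, k3⟩ := gA_one h.card
    have c1 := hgc _ (rfl : (⟨0, 0, 0, 0, 0, 1⟩ : Tup F F).a1 = 0)
    have c2 := hgc _ (rfl : (⟨0, 1, 1, 1, 1, 1⟩ : Tup F F).a1 = 0)
    have c3 := hgc _ (rfl : (⟨0, 1, 0, 0, 0, 0⟩ : Tup F F).a1 = 0)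
    rw [k1] at c1
    rw [k2] at c2
    rw [k3] at c3
    have c4 := hp 3 (by decide) (conj_three c1 c2 c3)
    rw [c1] at c4
    have c5 := congrArg Tup.a2 (h.inj c4)
    simp only at c5
    exact one_ne_zero c5
  · obtain ⟨k1, k2, k3, k4, k5⟩ := gA_w h.card h5
    have c1 := hgc _ (rfl : (⟨0, 0, 0, 0, 0, 1⟩ : Tup F F).a1 = 0)
    have c2 := hgc _ (rfl : (⟨0, 1, a1 ^ 2, 1, a1, 1⟩ : Tup F F).a1 = 0)
    have c3 := hgc _ (rfl : (⟨0, 1, a1, 1, a1 ^ 2, 1⟩ : Tup F F).a1 = 0)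
    have c4 := hgc _ (rfl : (⟨0, 1, 0, 0, 0, 0⟩ : Tup F F).a1 = 0)
    have c5 := hgc _ (rfl : (⟨0, 1, 1, 1, 1, 1⟩ : Tup F F).a1 = 0)
    rw [k1] at c1
    rw [k2] at c2
    rw [k3] at c3
    rw [k4] at c4
    rw [k5] at c5
    have c6 := hp 5 (by decide) (conj_five c1 c2 c3 c4 c5)
    rw [c1] at c6
    have c7 := congrArg Tup.a2 (h.inj c6)
    simp only at c7
    exact one_ne_zero c7

theorem N_le_Q2 : R (X (e4 1)) ≤ h.Q2 := by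
  intro n hn
  rcases h.N_le S hS hn with h1 | h1
  · obtain ⟨a, rfl⟩ := h1
    exact ⟨a, h.N_a1 S hS hn, rfl⟩
  · exfalso
    obtain ⟨a, ha⟩ := h1
    obtain ⟨w, hw⟩ := exists_w h.card
    have h2 := two h.card
    have hn' : n = f * X a := by rw [← ha, ← mul_assoc, h.ff, one_mul]
    have h3 := mul_mem (R_norm (h.e4_cen (e1 w) 1) hn) (inv_mem hn)
    have h4 : X (e1 w) * n * (X (e1 w))⁻¹ * n⁻¹ =
        X (fr (mu (mu (mu (fr (e1 w)) a) (iv (e1 w))) (iv a))) := by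
      rw [← h.fX, ← h.mul, ← h.mul, ← h.mul, ← h.inv, ← h.inv, hn', ← mul_assoc (X (e1 w)), h.Xf, mul_inv_rev,
        h.f_inv]
      group
    rw [h4] at h3
    have h5 := h.N_a1 S hS h3
    simp only [fr, mu, e1, iv] at h5
    have h6 : (1 : F) = 0 := by grind
    exact one_ne_zero h6

theorem Z4_le (hG : IsCharacteristicTwoType G) : h.Z4 ≤ R (X (e4 1)) := by
  have h2 := two h.card
  by_cases hc : R (X (e4 1)) ≤ h.Z4
  · exfalso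
    have h3 : X (e1 1) ∈ R (X (e4 1)) := by
      refine R_self hG h.z_sq h.z_ne (h.e4_cen _ _) ?_
      intro r hr
      obtain ⟨s, rfl⟩ := hc hr
      exact h.e4_cen _ _
    have h4 := h.N_a1 S hS h3
    simp only [e1] at h4
    exact one_ne_zero h4
  · obtain ⟨n, hn, hn2⟩ := SetLike.not_le_iff_exists.mp hc
    obtain ⟨⟨a1, a2, a3, a4, a5, a6⟩, ha, rfl⟩ := h.N_le_Q2 S hS hn
    simp only at ha
    subst ha
    rintro _ ⟨s, rfl⟩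
    have hcm : ∀ d e : Tup F F, X d * X ⟨0, a2, a3, a4, a5, a6⟩ * (X d)⁻¹ = X e →
        mu e (iv ⟨0, a2, a3, a4, a5, a6⟩) = e4 s → X (e4 s) ∈ R (X (e4 1)) := by
      intro d e he1 he2
      have h3 := mul_mem (R_norm (h.e4_cen d 1) hn) (inv_mem hn)
      rwa [he1, h.inv, h.mul, he2] at h3
    by_cases k2 : a2 = 0
    · by_cases k3 : a3 = 0
      · by_cases k5 : a5 = 0
        · by_cases k6 : a6 = 0
          · exfalso
            subst k2 k3 k5 k6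
            exact hn2 ⟨a4, rfl⟩
          · obtain ⟨r, hr⟩ : ∃ r : F, r * a6 = s := ⟨_, div_mul_cancel₀ _ k6⟩
            refine hcm _ _ (h.cj2 r _ _ _ _ _ _) ?_
            ext <;> simp only [mu, iv, e4] <;> grind
        · obtain ⟨r, hr⟩ : ∃ r : F, r * a5 = s := ⟨_, div_mul_cancel₀ _ k5⟩
          refine hcm _ _ (h.cj3 r _ _ _ _ _ _) ?_
          ext <;> simp only [mu, iv, e4] <;> grind
      · obtain ⟨r, hr⟩ : ∃ r : F, r * a3 = s := ⟨_, div_mul_cancel₀ _ k3⟩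
        refine hcm _ _ (h.cj5 r _ _ _ _ _ _) ?_
        ext <;> simp only [mu, iv, e4] <;> grind
    · obtain ⟨r, hr⟩ : ∃ r : F, r * a2 = s := ⟨_, div_mul_cancel₀ _ k2⟩
      refine hcm _ _ (h.cj6 r _ _ _ _ _ _) ?_
      ext <;> simp only [mu, iv, e4] <;> grind

/-- the centre of `N` lies in `Z4` -/
theorem cen_le {n : G} (hn : n ∈ R (X (e4 1))) (hc : ∀ m ∈ R (X (e4 1)), n * m = m * n) : n ∈ h.Z4 := by
  have h2 := two h.card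
  -- closure properties of the centre
  let P : G → Prop := fun x => x ∈ R (X (e4 1)) ∧ ∀ m ∈ R (X (e4 1)), x * m = m * x
  have hPc : ∀ g x, g * X (e4 1) = X (e4 1) * g → P x → P (g * x * g⁻¹) := by
    intro g x hg ⟨hx1, hx2⟩
    refine ⟨R_norm hg hx1, fun m hm => ?_⟩
    have h3 : g⁻¹ * X (e4 1) = X (e4 1) * g⁻¹ := by
      rw [inv_mul_eq_iff_eq_mul, ← mul_assoc, hg, mul_inv_cancel_right]
    have h4 := hx2 _ (R_norm h3 hm)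
    rw [inv_inv] at h4
    calc g * x * g⁻¹ * m = g * (x * (g⁻¹ * m * g)) * g⁻¹ := by group
      _ = g * ((g⁻¹ * m * g) * x) * g⁻¹ := by rw [h4]
      _ = _ := by group
  have hPm : ∀ x y, P x → P y → P (x * y) := by
    intro x y ⟨hx1, hx2⟩ ⟨hy1, hy2⟩
    refine ⟨mul_mem hx1 hy1, fun m hm => ?_⟩
    rw [mul_assoc, hy2 m hm, ← mul_assoc, hx2 m hm, mul_assoc]
  have hPi : ∀ x, P x → P x⁻¹ := by
    intro x ⟨hx1, hx2⟩
    refine ⟨inv_mem hx1, fun m hm => ?_⟩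
    rw [inv_mul_eq_iff_eq_mul, ← mul_assoc, hx2 m hm, mul_inv_cancel_right]
  have hcm : ∀ (t : F) (a e : Tup F F), P (X a) → X (e1 t) * X a * (X (e1 t))⁻¹ = X e →
      P (X (mu e (iv a))) := by
    intro t a e ha he
    have h3 := hPm _ _ (hPc _ _ (h.e4_cen (e1 t) 1) ha) (hPi _ ha)
    rwa [he, h.inv, h.mul] at h3
  -- the bad element
  have key : ∀ c2 c4 : F, c2 ≠ 0 → ¬ P (X ⟨0, c2, 0, c4, 0, 0⟩) := by
    intro c2 c4 hc2 hP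
    have h3 := hPc _ _ h.J_cen hP
    rw [h.cA] at h3
    have h4 := hP.2 _ h3.1
    rw [h.mul, h.mul] at h4
    have h5 := congrArg Tup.a4 (h.inj h4)
    simp only [mu] at h5
    apply hc2
    have h6 : c2 ^ 2 = 0 := by grind
    exact (pow_eq_zero_iff two_ne_zero).mp h6
  by_contra hn2
  obtain ⟨⟨a1, a2, a3, a4, a5, a6⟩, ha, rfl⟩ := h.N_le_Q2 S hS hn
  simp only at ha
  subst ha
  have k6 : ∀ c2 c3 c4 c5 : F, ¬ (c2 = 0 ∧ c3 = 0 ∧ c5 = 0) → ¬ P (X ⟨0, c2, c3, c4, c5, 0⟩) := by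
    intro c2 c3 c4 c5 hne hP
    by_cases k5 : c5 = 0
    · subst k5
      by_cases k3 : c3 = 0
      · subst k3
        exact key c2 c4 (fun hc' => hne ⟨hc', rfl, rfl⟩) hP
      · have h3 := hcm 1 _ _ hP (h.cj1 _ _ _ _ _ _)
        refine key c3 0 k3 ?_
        convert h3 using 2
        ext <;> simp only [mu, iv] <;> grind
    · obtain ⟨t, ht⟩ : ∃ t : F, t * c3 + t ^ 2 * c5 ≠ 0 := by
        by_contra hcon
        push Not at hcon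
        obtain ⟨w, hw⟩ := exists_w h.card
        have q1 := hcon 1
        have q2 := hcon w
        apply k5
        have q3 : c3 = c5 := by grind
        subst q3
        have q4 : w ^ 2 + w = 1 := by grind
        linear_combination q2 - c3 * q4
      have h3 := hcm t _ _ hP (h.cj1 _ _ _ _ _ _)
      refine key (t * c3 + t ^ 2 * c5) (t * c5 ^ 2) ht ?_
      convert h3 using 2
      ext <;> simp only [mu, iv] <;> grind
  by_cases k6' : a6 = 0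
  · subst k6'
    refine k6 a2 a3 a4 a5 ?_ ⟨hn, hc⟩
    rintro ⟨rfl, rfl, rfl⟩
    exact hn2 ⟨a4, rfl⟩
  · have h3 := hcm 1 _ _ ⟨hn, hc⟩ (h.cj1 _ _ _ _ _ _)
    have h4 : mu ⟨0, a2 + a6 * 1 ^ 3 + 1 * a3 + 1 ^ 2 * a5, a3 + a6 * 1 ^ 2,
      a4 + a6 ^ 2 * 1 ^ 3 + 1 * a5 ^ 2 + a6 * 1 ^ 2 * a5, a5 + a6 * 1, a6⟩ (iv ⟨0, a2, a3, a4, a5, a6⟩) =
      ⟨0, (mu ⟨0, a2 + a6 * 1 ^ 3 + 1 * a3 + 1 ^ 2 * a5, a3 + a6 * 1 ^ 2,
      a4 + a6 ^ 2 * 1 ^ 3 + 1 * a5 ^ 2 + a6 * 1 ^ 2 * a5, a5 + a6 * 1, a6⟩ (iv ⟨0, a2, a3, a4, a5, a6⟩)).a2,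
      (mu ⟨0, a2 + a6 * 1 ^ 3 + 1 * a3 + 1 ^ 2 * a5, a3 + a6 * 1 ^ 2,
      a4 + a6 ^ 2 * 1 ^ 3 + 1 * a5 ^ 2 + a6 * 1 ^ 2 * a5, a5 + a6 * 1, a6⟩ (iv ⟨0, a2, a3, a4, a5, a6⟩)).a3,
      (mu ⟨0, a2 + a6 * 1 ^ 3 + 1 * a3 + 1 ^ 2 * a5, a3 + a6 * 1 ^ 2,
      a4 + a6 ^ 2 * 1 ^ 3 + 1 * a5 ^ 2 + a6 * 1 ^ 2 * a5, a5 + a6 * 1, a6⟩ (iv ⟨0, a2, a3, a4, a5, a6⟩)).a4,
      a6, 0⟩ := by
      ext <;> simp only [mu, iv] <;> grind
    rw [h4] at h3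
    exact k6 _ _ _ _ (fun hc' => k6' hc'.2.2) h3

end Dat

end Cfsg.Agent.Omega.GTwoFour
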