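import Cfsg.Agent.Omega.GTwoFour.Size
import Cfsg.Agent.Omega.GTwoFour.Cor

/-!
# The pair of type `G₂(4)`: `O₂(C(f)) ∩ T = 1`, `f` is fused into `T`
-/

set_option autoImplicit false

namespace Cfsg.Agent.Omega.GTwoFour

open Cfsg.Agent.HexRec Subgroup Cfsg.Agent.Omega.GTwoFour.Cor

universe u v

variable {F : Type v} [Field F] {G : Type u} [Group G] {X : Tup F F → G} {f : G} {ja jb : G}

/-- a 2-element of order dividing three is trivial -/
theorem eq_one_of_cube {N : Subgroup G} (hN : IsPGroup 2 N) {x : G} (hx : x ∈ N) (h3 : x ^ 3 = 1) : x = 1 := by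
  obtain ⟨k, hk⟩ := hN ⟨x, hx⟩
  have hk' : x ^ 2 ^ k = 1 := congrArg Subtype.val hk
  have h1 := orderOf_dvd_of_pow_eq_one hk'
  have h2 := orderOf_dvd_of_pow_eq_one h3
  have h4 : Nat.Coprime (2 ^ k) 3 := Nat.Coprime.pow_left k (by norm_num)
  have h5 := Nat.eq_one_of_dvd_coprimes h4 h1 h2
  exact orderOf_eq_one_iff.mp h5

theorem eq_one_of_fifth {N : Subgroup G} (hN : IsPGroup 2 N) {x : G} (hx : x ∈ N) (h3 : x ^ 5 = 1) : x = 1 := by
  obtain ⟨k, hk⟩ := hN ⟨x, hx⟩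
  have hk' : x ^ 2 ^ k = 1 := congrArg Subtype.val hk
  have h1 := orderOf_dvd_of_pow_eq_one hk'
  have h2 := orderOf_dvd_of_pow_eq_one h3
  have h4 : Nat.Coprime (2 ^ k) 5 := Nat.Coprime.pow_left k (by norm_num)
  have h5 := Nat.eq_one_of_dvd_coprimes h4 h1 h2
  exact orderOf_eq_one_iff.mp h5

/-- a 2-element whose cube lies in `H` lies in `H` -/
theorem mem_of_cube {N H : Subgroup G} (hN : IsPGroup 2 N) {x : G} (hx : x ∈ N) (h3 : x ^ 3 ∈ H) : x ∈ H := by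
  obtain ⟨k, hk⟩ := hN ⟨x, hx⟩
  have hk' : x ^ 2 ^ k = 1 := congrArg Subtype.val hk
  have h4 : Nat.gcd 3 (2 ^ k) = 1 := Nat.Coprime.pow_right k (by norm_num)
  have h5 := Nat.gcd_eq_gcd_ab 3 (2 ^ k)
  rw [h4] at h5
  have h6 : x = (x ^ 3) ^ (Nat.gcdA 3 (2 ^ k)) := by
    conv_lhs => rw [← zpow_one x]
    have h7 : (1 : ℤ) = 3 * Nat.gcdA 3 (2 ^ k) + ((2 ^ k : ℕ) : ℤ) * Nat.gcdB 3 (2 ^ k) := by
      exact_mod_cast h5
    rw [h7, zpow_add, zpow_mul, zpow_mul, zpow_natCast x (2 ^ k), hk', one_zpow, mul_one,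
      zpow_ofNat]
  rw [h6]
  exact zpow_mem h3 _

/-- a 2-element with an odd power in `H` lies in `H` -/
theorem mem_of_odd {N H : Subgroup G} (hN : IsPGroup 2 N) {x : G} (hx : x ∈ N) {m : ℕ} (hm : Odd m)
    (h3 : x ^ m ∈ H) : x ∈ H := by
  obtain ⟨k, hk⟩ := hN ⟨x, hx⟩
  have hk' : x ^ 2 ^ k = 1 := congrArg Subtype.val hk
  have h4 : Nat.gcd m (2 ^ k) = 1 := Nat.Coprime.pow_right k (Nat.coprime_two_right.mpr hm)
  have h5 := Nat.gcd_eq_gcd_ab m (2 ^ k)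
  rw [h4] at h5
  have h6 : x = (x ^ m) ^ (Nat.gcdA m (2 ^ k)) := by
    conv_lhs => rw [← zpow_one x]
    have h7 : (1 : ℤ) = m * Nat.gcdA m (2 ^ k) + ((2 ^ k : ℕ) : ℤ) * Nat.gcdB m (2 ^ k) := by
      exact_mod_cast h5
    rw [h7, zpow_add, zpow_mul, zpow_mul, zpow_natCast x (2 ^ k), hk', one_zpow, mul_one,
      zpow_natCast]
  rw [h6]
  exact zpow_mem h3 _

/-- iterated conjugation -/
theorem conj_three {g p q r : G} (h1 : g * p * g⁻¹ = q) (h2 : g * q * g⁻¹ = r) (h3 : g * r * g⁻¹ = p) :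
    g ^ 3 * p = p * g ^ 3 := by
  have h4 : g ^ 3 * p * (g ^ 3)⁻¹ = p := by
    calc g ^ 3 * p * (g ^ 3)⁻¹ = g * (g * (g * p * g⁻¹) * g⁻¹) * g⁻¹ := by
          simp only [pow_succ, pow_zero, one_mul, mul_inv_rev, mul_assoc]
      _ = p := by rw [h1, h2, h3]
  exact mul_inv_eq_iff_eq_mul.mp h4

theorem conj_five {g p q r s t : G} (h1 : g * p * g⁻¹ = q) (h2 : g * q * g⁻¹ = r) (h3 : g * r * g⁻¹ = s)
    (h4 : g * s * g⁻¹ = t) (h5 : g * t * g⁻¹ = p) : g ^ 5 * p = p * g ^ 5 := by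
  have h6 : g ^ 5 * p * (g ^ 5)⁻¹ = p := by
    calc g ^ 5 * p * (g ^ 5)⁻¹ = g * (g * (g * (g * (g * p * g⁻¹) * g⁻¹) * g⁻¹) * g⁻¹) * g⁻¹ := by
          simp only [pow_succ, pow_zero, one_mul, mul_inv_rev, mul_assoc]
      _ = p := by rw [h1, h2, h3, h4, h5]
  exact mul_inv_eq_iff_eq_mul.mp h6

namespace Dat

variable (h : Dat X f ja jb)
include h

theorem cA' (a2 a3 a4 a5 a6 : F) : ja⁻¹ * X ⟨0, a2, a3, a4, a5, a6⟩ * ja =
    X ⟨0, a6, a5, a4 + a2 * a6 + a3 * a5, a3, a2⟩ := by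
  have h2 := two h.card
  rw [mul_assoc, inv_mul_eq_iff_eq_mul, h.nA]
  congr 2
  ext <;> simp only <;> grind

theorem cB' (a1 a2 a3 a4 a5 : F) : jb⁻¹ * X ⟨a1, a2, a3, a4, a5, 0⟩ * jb =
    X ⟨a5, a4 + a3 * a5 + a1 * a5 ^ 2, a3, a2 + a1 * a3 + a1 ^ 2 * a5, a1, 0⟩ := by
  have h2 := two h.card
  rw [mul_assoc, inv_mul_eq_iff_eq_mul, h.nB]
  congr 2
  ext <;> simp only <;> grind

/-- the action of `x6(t) x6(t)^{jb}` on `V` -/
theorem gV (t a2 a4 : F) : (X (e6 t) * (jb * X (e6 t) * jb⁻¹)) * X ⟨0, a2, 0, a4, 0, 0⟩ *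
    (X (e6 t) * (jb * X (e6 t) * jb⁻¹))⁻¹ = X ⟨0, a2 + t * a4, 0, a4 + t * (a2 + t * a4), 0, 0⟩ := by
  have h2 := two h.card
  have k1 := h.cB' 0 a2 0 a4 0
  have k2 := h.cj6 t 0 (a4 + 0 * 0 + 0 * 0 ^ 2) 0 (a2 + 0 * 0 + 0 ^ 2 * 0) 0 0
  have q2 : (⟨0, a4 + 0 * 0 + 0 * 0 ^ 2 + t * 0 ^ 3, 0 + t * 0 ^ 2,
      a2 + 0 * 0 + 0 ^ 2 * 0 + t ^ 2 * 0 ^ 3 + t * (a4 + 0 * 0 + 0 * 0 ^ 2) + t * 0 * 0, 0 + t * 0, 0⟩ :
      Tup F F) = ⟨0, a4, 0, a2 + t * a4, 0, 0⟩ := by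
    ext <;> simp only <;> ring
  rw [q2] at k2
  have k3 := h.cB 0 a4 0 (a2 + t * a4) 0
  have q3 : (⟨0, a2 + t * a4 + 0 * 0 + 0 * 0 ^ 2, 0, a4 + 0 * 0 + 0 ^ 2 * 0, 0, 0⟩ :
      Tup F F) = ⟨0, a2 + t * a4, 0, a4, 0, 0⟩ := by
    ext <;> simp only <;> ring
  rw [q3] at k3
  have k4 := h.cj6 t 0 (a2 + t * a4) 0 a4 0 0
  have q4 : (⟨0, a2 + t * a4 + t * 0 ^ 3, 0 + t * 0 ^ 2,
      a4 + t ^ 2 * 0 ^ 3 + t * (a2 + t * a4) + t * 0 * 0, 0 + t * 0, 0⟩ :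
      Tup F F) = ⟨0, a2 + t * a4, 0, a4 + t * (a2 + t * a4), 0, 0⟩ := by
    ext <;> simp only <;> ring
  rw [q4] at k4
  rw [← k4, ← k3, ← k2, ← k1]
  group

/-- no 2-group contains `x6(1)` and its conjugate under `jb` -/
theorem no_pair_b {N : Subgroup G} (hN : IsPGroup 2 N) (h1 : X (e6 1) ∈ N)
    (h2 : jb * X (e6 1) * jb⁻¹ ∈ N) : False := by
  have h2' := two h.card
  have k1 := h.gV 1 1 0
  have k2 := h.gV 1 1 1
  have k3 := h.gV 1 0 1
  set g := X (e6 1) * (jb * X (e6 1) * jb⁻¹) with hg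
  have q1 : (⟨0, 1 + 1 * 0, 0, 0 + 1 * (1 + 1 * 0), 0, 0⟩ : Tup F F) = ⟨0, 1, 0, 1, 0, 0⟩ := by
    ext <;> simp only <;> ring
  have q2 : (⟨0, 1 + 1 * 1, 0, 1 + 1 * (1 + 1 * 1), 0, 0⟩ : Tup F F) = ⟨0, 0, 0, 1, 0, 0⟩ := by
    ext <;> simp only <;> grind
  have q3 : (⟨0, 0 + 1 * 1, 0, 1 + 1 * (0 + 1 * 1), 0, 0⟩ : Tup F F) = ⟨0, 1, 0, 0, 0, 0⟩ := by
    ext <;> simp only <;> grind
  rw [q1] at k1
  rw [q2] at k2
  rw [q3] at k3
  have k4 := conj_three k1 k2 k3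
  have k5 : g ∈ centralizer ({X ⟨0, 1, 0, 0, 0, 0⟩} : Set G) :=
    mem_of_odd hN (mul_mem h1 h2) (m := 3) (by decide) (mem_centralizer_singleton_iff.mpr k4)
  have k6 := mem_centralizer_singleton_iff.mp k5
  rw [k6, mul_inv_cancel_right] at k1
  have k7 := congrArg Tup.a4 (h.inj k1)
  simp only at k7
  exact one_ne_zero k7.symm

/-- the long root element in a subgroup normalised by `C_T(f)` -/
theorem exists_e4 {N : Subgroup G} (hN : ∀ n ∈ N, n * f = f * n)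
    (hc : ∀ g, g * f = f * g → ∀ n ∈ N, g * n * g⁻¹ ∈ N) {a : Tup F F} (ha : X a ∈ N) (h1 : a ≠ one0) :
    X (e4 1) ∈ N := by
  have h2 := two h.card
  have hF1 : ∀ c : Tup F F, X c ∈ N → fr c = c := fun c hc' => h.comm_iff.mp (hN _ hc').symm
  have hfr : ∀ c : Tup F F, fr c = c → X c * f = f * X c := fun c hc' => (h.comm_iff.mpr hc').symm
  -- scalars
  have hs4 : ∀ s : F, s ≠ 0 → X (e4 s) ∈ N → X (e4 1) ∈ N := by
    intro s hs hX
    have h3 := congrArg Tup.a4 (hF1 _ hX)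
    simp only [fr, e4] at h3
    have : s = 1 := by
      have h4 : s * (s - 1) = 0 := by linear_combination h3
      rcases mul_eq_zero.mp h4 with h5 | h5
      · exact absurd h5 hs
      · exact sub_eq_zero.mp h5
    rwa [this] at hX
  -- commutators
  have hcm : ∀ c d : Tup F F, fr d = d → X c ∈ N → ∀ e, X d * X c * (X d)⁻¹ = X e → X e * (X c)⁻¹ ∈ N := by
    intro c d hd hX e he
    rw [← he]
    exact mul_mem (hc _ (hfr d hd) _ hX) (inv_mem hX)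
  -- the case `a1 = 0`
  have key : ∀ c : Tup F F, X c ∈ N → c ≠ one0 → c.a1 = 0 → X (e4 1) ∈ N := by
    rintro ⟨c1, c2, c3, c4, c5, c6⟩ hX hne h0
    simp only at h0
    subst h0
    by_cases k2 : c2 = 0
    · by_cases k3 : c3 = 0
      · by_cases k5 : c5 = 0
        · by_cases k6 : c6 = 0
          · subst k2 k3 k5 k6
            refine hs4 c4 ?_ hX
            rintro rfl
            exact hne rfl
          · have h3 := hcm _ (e2 1) (by ext <;> simp [fr, e2]) hX _ (h.cj2 1 _ _ _ _ _ _)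
            rw [h.inv, h.mul] at h3
            refine hs4 c6 k6 ?_
            convert h3 using 2
            ext <;> simp only [mu, iv, e4] <;> grind
        · have h3 := hcm _ (e3 1) (by ext <;> simp [fr, e3]) hX _ (h.cj3 1 _ _ _ _ _ _)
          rw [h.inv, h.mul] at h3
          refine hs4 c5 k5 ?_
          convert h3 using 2
          ext <;> simp only [mu, iv, e4] <;> grind
      · have h3 := hcm _ (e5 1) (by ext <;> simp [fr, e5]) hX _ (h.cj5 1 _ _ _ _ _ _)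
        rw [h.inv, h.mul] at h3
        refine hs4 c3 k3 ?_
        convert h3 using 2
        ext <;> simp only [mu, iv, e4] <;> grind
    · have h3 := hcm _ (e6 1) (by ext <;> simp [fr, e6]) hX _ (h.cj6 1 _ _ _ _ _ _)
      rw [h.inv, h.mul] at h3
      refine hs4 c2 k2 ?_
      convert h3 using 2
      ext <;> simp only [mu, iv, e4] <;> grind
  by_cases k1 : a.a1 = 0
  · exact key a ha h1 k1
  · obtain ⟨a1, a2, a3, a4, a5, a6⟩ := a
    have h3 := hcm _ (e5 1) (by ext <;> simp [fr, e5]) ha _ (h.cj5 1 _ _ _ _ _ _)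
    rw [h.inv, h.mul] at h3
    refine key _ h3 ?_ ?_
    · intro hc'
      have h4 := congrArg Tup.a2 hc'
      simp only [mu, iv, one0] at h4 k1
      apply k1
      have h5 : a1 ^ 2 = 0 := by grind
      exact pow_eq_zero_iff (two_ne_zero) |>.mp h5
    · simp only [mu, iv]
      grind

/-- `O₂(C(f)) ∩ T = 1` -/
theorem R_inf {x : G} (hx : x ∈ R f) (hxT : x ∈ h.T) : x = 1 := by
  by_contra hne
  obtain ⟨a, rfl⟩ := hxT
  have h1 : a ≠ one0 := fun hc => hne (by rw [hc, h.X_one])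
  have hc : ∀ g, g * f = f * g → ∀ n ∈ R f, g * n * g⁻¹ ∈ R f := fun g hg n hn => R_norm hg hn
  have h4 := h.exists_e4 (N := R f) (fun n hn => R_cen hn) hc hx h1
  have h5 := hc _ h.fB.symm _ h4
  have e5 : jb * X (e4 1) * (jb)⁻¹ = X (e2 1) := by
    have := h.cB 0 0 0 1 0
    simpa [e4, e2] using this
  rw [e5] at h5
  have h6 := hc _ h.fA.symm _ h5
  have e6' : ja * X (e2 1) * (ja)⁻¹ = X (e6 1) := by
    have := h.cA 1 0 0 0 0
    simpa [e2, e6] using this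
  rw [e6'] at h6
  exact h.no_pair_b (R_two f) h6 (hc _ h.fB.symm _ h6)

/-- `C_T(f)` -/
def T1 : Subgroup G := h.T ⊓ centralizer ({f} : Set G)

theorem mem_T1 {x : G} : x ∈ h.T1 ↔ ∃ a, fr a = a ∧ x = X a := by
  rw [T1, mem_inf, mem_centralizer_singleton_iff]
  constructor
  · rintro ⟨⟨a, rfl⟩, h2⟩
    exact ⟨a, h.comm_iff.mp h2.symm, rfl⟩
  · rintro ⟨a, h1, rfl⟩
    exact ⟨⟨a, rfl⟩, (h.comm_iff.mpr h1).symm⟩

theorem card_T1 : Nat.card h.T1 = 64 := by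
  classical
  let c : Bool → F := fun b => if b then 1 else 0
  have hc : Function.Injective c := by
    intro a b hab
    cases a <;> cases b <;> simp [c] at hab <;> rfl
  have hc2 : ∀ x : F, x ^ 2 = x → ∃ b, c b = x := by
    intro x hx
    have h1 : x * (x - 1) = 0 := by linear_combination hx
    rcases mul_eq_zero.mp h1 with h2 | h2
    · exact ⟨false, by simp [c, h2]⟩
    · exact ⟨true, by simp [c, sub_eq_zero.mp h2]⟩
  have hc3 : ∀ b, (c b) ^ 2 = c b := by intro b; cases b <;> simp [c]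
  let φ : (Bool × Bool × Bool × Bool × Bool × Bool) → h.T1 := fun p =>
    ⟨X ⟨c p.1, c p.2.1, c p.2.2.1, c p.2.2.2.1, c p.2.2.2.2.1, c p.2.2.2.2.2⟩,
      h.mem_T1.mpr ⟨_, by ext <;> exact hc3 _, rfl⟩⟩
  have hφ : Function.Bijective φ := by
    constructor
    · rintro ⟨p1, p2, p3, p4, p5, p6⟩ ⟨q1, q2, q3, q4, q5, q6⟩ hpq
      have h1 := h.inj (congrArg Subtype.val hpq)
      have k1 := hc (congrArg Tup.a1 h1)
      have k2 := hc (congrArg Tup.a2 h1)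
      have k3 := hc (congrArg Tup.a3 h1)
      have k4 := hc (congrArg Tup.a4 h1)
      have k5 := hc (congrArg Tup.a5 h1)
      have k6 := hc (congrArg Tup.a6 h1)
      simp only at k1 k2 k3 k4 k5 k6
      subst k1 k2 k3 k4 k5 k6
      rfl
    · rintro ⟨x, hx⟩
      obtain ⟨a, ha, rfl⟩ := h.mem_T1.mp hx
      obtain ⟨b1, k1⟩ := hc2 a.a1 (congrArg Tup.a1 ha)
      obtain ⟨b2, k2⟩ := hc2 a.a2 (congrArg Tup.a2 ha)
      obtain ⟨b3, k3⟩ := hc2 a.a3 (congrArg Tup.a3 ha)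
      obtain ⟨b4, k4⟩ := hc2 a.a4 (congrArg Tup.a4 ha)
      obtain ⟨b5, k5⟩ := hc2 a.a5 (congrArg Tup.a5 ha)
      obtain ⟨b6, k6⟩ := hc2 a.a6 (congrArg Tup.a6 ha)
      refine ⟨(b1, b2, b3, b4, b5, b6), Subtype.ext ?_⟩
      simp only [φ, k1, k2, k3, k4, k5, k6]
  rw [← Nat.card_congr (Equiv.ofBijective φ hφ)]
  simp [Nat.card_eq_fintype_card]

/-- `|O₂(C(f))| · 64 ≤ |C(f)|₂` -/
theorem card_R_le [Finite G] {n : ℕ}
    (hn : ∀ Q : Subgroup G, IsPGroup 2 Q → (∀ q ∈ Q, q * f = f * q) → Nat.card Q ≤ n) :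
    Nat.card (R f) * 64 ≤ n := by
  rw [← h.card_T1]
  refine card_mul_le (h.two_T.to_le inf_le_left) (fun p hp => mem_centralizer_singleton_iff.mp hp.2) ?_ hn
  intro x hx hx1
  exact h.R_inf hx hx1.1

/-- `C_S(y)` has `C_T(y)` as a subgroup of index at most two -/
theorem card_cent_S0 [Finite G] (y : G) : Nat.card (h.S0 ⊓ centralizer ({y} : Set G) : Subgroup G) ≤
    2 * Nat.card (h.T ⊓ centralizer ({y} : Set G) : Subgroup G) := by
  have h1 : (h.T ⊓ centralizer ({y} : Set G)).relIndex (h.S0 ⊓ centralizer ({y} : Set G)) ≤ 2 := by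
    have h2 := Subgroup.relIndex_inf_le (H := h.T) (K := centralizer ({y} : Set G))
      (L := h.S0 ⊓ centralizer ({y} : Set G))
    have h3 : (centralizer ({y} : Set G)).relIndex (h.S0 ⊓ centralizer ({y} : Set G)) = 1 :=
      relIndex_eq_one.mpr inf_le_right
    have h4 : h.T.relIndex (h.S0 ⊓ centralizer ({y} : Set G)) ≤ h.T.relIndex h.S0 :=
      relIndex_le_of_le_right inf_le_left (by rw [h.relIndex_T]; norm_num)
    rw [h3, mul_one] at h2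
    exact h2.trans (h4.trans h.relIndex_T.le)
  have h5 : h.T ⊓ centralizer ({y} : Set G) ≤ h.S0 ⊓ centralizer ({y} : Set G) :=
    inf_le_inf_right _ h.T_le_S0
  have h6 := Subgroup.card_mul_index
    ((h.T ⊓ centralizer ({y} : Set G)).subgroupOf (h.S0 ⊓ centralizer ({y} : Set G)))
  rw [Nat.card_congr (subgroupOfEquivOfLe h5).toEquiv] at h6
  change _ * (h.T ⊓ centralizer ({y} : Set G)).relIndex (h.S0 ⊓ centralizer ({y} : Set G)) = _ at h6
  rw [← h6, mul_comm 2]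
  exact Nat.mul_le_mul_left _ h1

end Dat

end Cfsg.Agent.Omega.GTwoFour
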