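import Cfsg.Agent.Omega.GTwoFour.Low

/-!
# The pair of type `G₂(4)`: `|O₂(C(u))| > 8` for a short root involution `u`
-/

set_option autoImplicit false

namespace Cfsg.Agent.Omega.GTwoFour

open Cfsg.Agent.HexRec Subgroup Cfsg.Agent.Omega.GTwoFour.Cor Cfsg

universe u v

variable {F : Type v} [Field F] {G : Type u} [Group G] {X : Tup F F → G} {f : G} {ja jb : G}

/-- an automorphism of order dividing five of a 2-group of order at most eight is trivial -/
theorem triv_of_fifth {N : Subgroup G} [Finite N] (hN : IsPGroup 2 N) (hc : Nat.card N ≤ 8) {m : G}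
    (hm : ∀ n ∈ N, m * n * m⁻¹ ∈ N) (h5 : ∀ n ∈ N, m ^ 5 * n = n * m ^ 5) : ∀ n ∈ N, m * n = n * m := by
  classical
  have hp : Fact (Nat.Prime 5) := ⟨by norm_num⟩
  have := Fintype.ofFinite N
  let φ : Function.End N := fun n => ⟨m * n * m⁻¹, hm n n.2⟩
  have hφk : ∀ k : ℕ, ∀ n : N, (((φ ^ k) n : N) : G) = m ^ k * n * (m ^ k)⁻¹ := by
    intro k
    induction k with
    | zero =>
      intro n
      simp only [pow_zero, one_mul, inv_one, mul_one]
      rfl
    | succ k ih =>
      intro n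
      have h1 : (φ ^ (k + 1)) n = φ ((φ ^ k) n) := by
        rw [pow_succ']; rfl
      rw [h1]
      change m * (((φ ^ k) n : N) : G) * m⁻¹ = _
      rw [ih]
      group
  have hφ : φ ^ 5 ^ 1 = 1 := by
    funext n
    apply Subtype.ext
    rw [hφk, pow_one, h5 n n.2, mul_inv_cancel_right]
    rfl
  have h1 := Equiv.Perm.card_fixedPoints_modEq hφ
  -- the fixed points
  let K : Subgroup N := (centralizer ({m} : Set G)).subgroupOf N
  have h2 : Fintype.card φ.fixedPoints = Nat.card K := by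
    rw [← Nat.card_eq_fintype_card]
    refine Nat.card_congr (Equiv.subtypeEquivRight fun n => ?_)
    rw [mem_subgroupOf, mem_centralizer_singleton_iff]
    constructor
    · intro h3
      have h4 : m * (n : G) * m⁻¹ = n := congrArg Subtype.val h3
      rw [mul_inv_eq_iff_eq_mul] at h4
      exact h4.symm
    · intro h3
      apply Subtype.ext
      change m * (n : G) * m⁻¹ = n
      rw [mul_inv_eq_iff_eq_mul]
      exact h3.symm
  rw [h2, ← Nat.card_eq_fintype_card] at h1
  have h3 : Nat.card K ∣ Nat.card N := Subgroup.card_subgroup_dvd_card K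
  obtain ⟨k, hk⟩ := IsPGroup.iff_card.mp hN
  have h4 : k ≤ 3 := by
    by_contra hcon
    have h6 : 2 ^ 4 ≤ 2 ^ k := Nat.pow_le_pow_right (by norm_num) (by omega)
    omega
  have h7 : Nat.card K = Nat.card N := by
    have h8 : 0 < Nat.card K := Nat.card_pos
    have h9 : Nat.card K ≤ Nat.card N := Nat.le_of_dvd Nat.card_pos h3
    generalize Nat.card K = c at *
    rw [hk] at h1 h3 h9 ⊢
    interval_cases k
    all_goals
      norm_num at h1 h3 h9 ⊢
      unfold Nat.ModEq at h1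
      interval_cases c <;> omega
  have h8 : K = ⊤ := Subgroup.eq_top_of_card_eq K h7
  intro n hn
  have h9 : (⟨n, hn⟩ : N) ∈ K := by rw [h8]; exact mem_top _
  rw [mem_subgroupOf, mem_centralizer_singleton_iff] at h9
  exact h9.symm

/-- the power `m ^ 8!` of an element acting on a set of at most eight elements acts trivially -/
theorem factorial_triv {N : Subgroup G} [Finite N] (hc : Nat.card N ≤ 8) {m : G}
    (hm : ∀ n ∈ N, m * n * m⁻¹ ∈ N) : ∀ n ∈ N, m ^ 40320 * n = n * m ^ 40320 := by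
  classical
  have := Fintype.ofFinite N
  let σ0 : N → N := fun n => ⟨m * n * m⁻¹, hm n n.2⟩
  have hinj : Function.Injective σ0 := by
    intro a b hab
    have h1 : m * (a : G) * m⁻¹ = m * (b : G) * m⁻¹ := congrArg Subtype.val hab
    exact Subtype.ext (mul_left_cancel (mul_right_cancel h1))
  let σ : Equiv.Perm N := Equiv.ofBijective σ0 (Finite.injective_iff_bijective.mp hinj)
  have hσ : ∀ k : ℕ, ∀ n : N, (((σ ^ k) n : N) : G) = m ^ k * n * (m ^ k)⁻¹ := by
    intro k
    induction k with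
    | zero =>
      intro n
      simp only [pow_zero, one_mul, inv_one, mul_one]
      rfl
    | succ k ih =>
      intro n
      have h1 : (σ ^ (k + 1)) n = σ ((σ ^ k) n) := by
        rw [pow_succ']; rfl
      rw [h1]
      change m * (((σ ^ k) n : N) : G) * m⁻¹ = _
      rw [ih]
      group
  have h1 : σ ^ 40320 = 1 := by
    have h2 : Fintype.card (Equiv.Perm N) ∣ 40320 := by
      rw [Fintype.card_perm]
      have h3 : Fintype.card N ≤ 8 := by rwa [← Nat.card_eq_fintype_card]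
      exact (Nat.factorial_dvd_factorial h3).trans (by decide)
    exact orderOf_dvd_iff_pow_eq_one.mp ((orderOf_dvd_card).trans h2)
  intro n hn
  have h2 := hσ 40320 ⟨n, hn⟩
  rw [h1] at h2
  have h3 : n = m ^ 40320 * n * (m ^ 40320)⁻¹ := h2
  exact (mul_inv_eq_iff_eq_mul.mp h3.symm)

namespace Dat

variable (h : Dat X f ja jb)
include h

theorem card_R_u [Finite G] (hG : IsCharacteristicTwoType G) {s : F} (hs : s ≠ 0) :
    8 < Nat.card (R (X (e3 s))) := by
  by_contra hcon
  push Not at hcon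
  have h2 := two h.card
  obtain ⟨w, hw⟩ := exists_w h.card
  have hJ : jb * X (e3 s) = X (e3 s) * jb := by
    have := h.cB 0 0 s 0 0
    rw [mul_inv_eq_iff_eq_mul] at this
    simpa [e3] using this
  have hU : X (e6 w) * X (e3 s) = X (e3 s) * X (e6 w) := by
    have := h.cj6 w 0 0 s 0 0 0
    rw [mul_inv_eq_iff_eq_mul] at this
    simpa [e3] using this
  set g := X (e6 w) * (jb * X (e6 w) * jb⁻¹) with hg
  have hM : g * X (e3 s) = X (e3 s) * g := by
    have c1 : Commute jb (X (e3 s)) := hJ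
    have c2 : Commute (X (e6 w)) (X (e3 s)) := hU
    exact (c2.mul_left ((c1.mul_left c2).mul_left c1.inv_left))
  have hu2 : X (e3 s) * X (e3 s) = 1 := by
    rw [h.mul, ← h.X_one]
    congr 1
    ext <;> simp only [mu, e3, one0] <;> grind
  have hu1 : X (e3 s) ≠ 1 := by
    intro hc
    have h1 := congrArg Tup.a3 (h.eq_one hc)
    simp only [e3, one0] at h1
    exact hs h1
  -- `g` acts on `V` with order five
  have k0 := h.gV w 1 0
  have k1 := h.gV w 1 w
  have k2 := h.gV w w 1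
  have k3 := h.gV w 0 1
  have k4 := h.gV w w w
  rw [← hg] at k0 k1 k2 k3 k4
  have q0 : (⟨0, 1 + w * 0, 0, 0 + w * (1 + w * 0), 0, 0⟩ : Tup F F) = ⟨0, 1, 0, w, 0, 0⟩ := by
    ext <;> simp only <;> ring
  have q1 : (⟨0, 1 + w * w, 0, w + w * (1 + w * w), 0, 0⟩ : Tup F F) = ⟨0, w, 0, 1, 0, 0⟩ := by
    ext <;> simp only <;> grind
  have q2 : (⟨0, w + w * 1, 0, 1 + w * (w + w * 1), 0, 0⟩ : Tup F F) = ⟨0, 0, 0, 1, 0, 0⟩ := by
    ext <;> simp only <;> grind
  have q3 : (⟨0, 0 + w * 1, 0, 1 + w * (0 + w * 1), 0, 0⟩ : Tup F F) = ⟨0, w, 0, w, 0, 0⟩ := by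
    ext <;> simp only <;> grind
  have q4 : (⟨0, w + w * w, 0, w + w * (w + w * w), 0, 0⟩ : Tup F F) = ⟨0, 1, 0, 0, 0, 0⟩ := by
    ext <;> simp only <;> grind
  rw [q0] at k0
  rw [q1] at k1
  rw [q2] at k2
  rw [q3] at k3
  rw [q4] at k4
  have k5 := conj_five k0 k1 k2 k3 k4
  -- the power `m`
  have hgR : ∀ j : ℕ, ∀ n ∈ R (X (e3 s)), g ^ j * n * (g ^ j)⁻¹ ∈ R (X (e3 s)) := by
    intro j n hn
    exact R_norm ((show Commute g (X (e3 s)) from hM).pow_left j) hn
  have h40 := factorial_triv hcon (fun n hn => R_norm hM hn)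
  have h6 := triv_of_fifth (R_two (X (e3 s))) hcon (m := g ^ 8064) (hgR 8064)
    (fun n hn => by rw [← pow_mul]; exact h40 n hn)
  have h7 := R_self hG hu2 hu1 ((show Commute g (X (e3 s)) from hM).pow_left 8064) h6
  -- `g ^ 64512 = 1`
  have h8 : (g ^ 8064) ^ 8 = 1 := by
    obtain ⟨k, hk⟩ := IsPGroup.iff_card.mp (R_two (X (e3 s)))
    have h9 : k ≤ 3 := by
      by_contra hcon'
      have h6 : 2 ^ 4 ≤ 2 ^ k := Nat.pow_le_pow_right (by norm_num) (by omega)
      omega
    have h10 : Nat.card (R (X (e3 s))) ∣ 2 ^ 3 := by rw [hk]; exact pow_dvd_pow 2 h9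
    have h11 : (⟨g ^ 8064, h7⟩ : R (X (e3 s))) ^ 8 = 1 :=
      orderOf_dvd_iff_pow_eq_one.mp ((_root_.orderOf_dvd_natCard _).trans h10)
    exact congrArg Subtype.val h11
  have h9 : g * X ⟨0, 1, 0, 0, 0, 0⟩ = X ⟨0, 1, 0, 0, 0, 0⟩ * g := by
    have c1 : Commute (g ^ 5) (X ⟨0, 1, 0, 0, 0, 0⟩) := k5
    have c2 : (g ^ 5) ^ 38707 * g = 1 := by
      rw [← pow_mul, ← pow_succ, show 5 * 38707 + 1 = 8064 * 8 * 3 from by norm_num, pow_mul, pow_mul, h8,
        one_pow]
    have c3 : g = ((g ^ 5) ^ 38707)⁻¹ := (inv_eq_of_mul_eq_one_right c2).symm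
    have c4 : Commute ((g ^ 5) ^ 38707)⁻¹ (X ⟨0, 1, 0, 0, 0, 0⟩) := (c1.pow_left 38707).inv_left
    rw [← c3] at c4
    exact c4
  rw [h9, mul_inv_cancel_right] at k0
  have h10 := congrArg Tup.a4 (h.inj k0)
  simp only at h10
  rw [← h10] at hw
  simp at hw

end Dat

end Cfsg.Agent.Omega.GTwoFour
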