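import Cfsg.Agent.Omega.GTwoFour.Big
import Cfsg.Agent.Omega.GTwoFour.Short

/-!
# No group of characteristic 2 type has a Sylow 2-subgroup of type `G₂(4)⟨f⟩`

`Dat.false_of_field` : a finite group of characteristic 2 type whose Sylow 2-subgroup is the Sylow
2-subgroup `T = X(F⁶)` of a pair of type `G₂(4)` extended by a field involution `f` does not exist.
-/

set_option autoImplicit false

namespace Cfsg.Agent.Omega.GTwoFour

open Cfsg.Agent.HexRec Subgroup Cfsg.Agent.Omega.GTwoFour.Cor Cfsg

universe u v

variable {F : Type v} [Field F] {G : Type u} [Group G] {X : Tup F F → G} {f : G} {ja jb : G}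

namespace Dat

variable (h : Dat X f ja jb)
include h

theorem f_ne : f ≠ 1 := fun hc => h.f_not one0 (hc.trans h.X_one.symm)

/-- `|O₂(C(f))| > 2` -/
theorem card_R_f [Finite G] (hG : IsCharacteristicTwoType G) : 2 < Nat.card (R f) := by
  by_contra hcon
  push Not at hcon
  have h1 : f ∈ R f := y_mem_R h.ff
  -- the elements of `R f`
  have h2 : ∀ r ∈ R f, r = 1 ∨ r = f := by
    intro r hr
    by_contra hne
    push Not at hne
    have h3 : 3 ≤ Nat.card (R f) := by
      classical
      have := Fintype.ofFinite (R f)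
      rw [Nat.card_eq_fintype_card]
      have h4 : ({1, ⟨f, h1⟩, ⟨r, hr⟩} : Finset (R f)).card = 3 := by
        rw [Finset.card_eq_three]
        refine ⟨_, _, _, ?_, ?_, ?_, rfl⟩
        · intro hc
          exact h.f_ne (congrArg Subtype.val hc).symm
        · intro hc
          exact hne.1 (congrArg Subtype.val hc).symm
        · intro hc
          exact hne.2 (congrArg Subtype.val hc).symm
      rw [← h4]
      exact Finset.card_le_univ _
    omega
  have h5 : f * X (e4 1) = X (e4 1) * f := by
    rw [h.comm_iff]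
    ext <;> simp only [fr, e4] <;> ring
  have h6 : X (e4 1) ∈ R f := by
    refine R_self hG h.ff h.f_ne h5.symm ?_
    intro r hr
    rcases h2 r hr with rfl | rfl
    · rw [one_mul, mul_one]
    · exact h5.symm
  have h7 := h.eq_one (h.R_inf h6 (h.X_mem _))
  have h8 := congrArg Tup.a4 h7
  simp only [e4, one0] at h8
  exact one_ne_zero h8

/-- **no field involution in the pair of type `G₂(4)`** -/
theorem false_of_field [Finite G] (hG : IsCharacteristicTwoType G) (S : Sylow 2 G)
    (hS : (S : Subgroup G) = h.S0) : False := by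
  have : Finite F := fin h.card
  obtain ⟨g, hg, hmax⟩ := extremal S h.ff
  rw [hS] at hg hmax
  have hle := h.card_R_le hmax
  set y := g * f * g⁻¹ with hy
  have hyy : y * y = 1 := conj_sq h.ff rfl
  have hRy : Nat.card (R y) = Nat.card (R f) := card_R_conj g f
  have hc := h.card_cent_S0 y
  rcases h.mem_S0.mp hg with h1 | h1
  · -- `y` in `T`
    obtain ⟨a, ha⟩ := h1
    have ha1 : a ≠ one0 := by
      intro hc'
      rw [hc', h.X_one] at ha
      apply h.f_ne
      have : g * f * g⁻¹ = 1 := ha
      rwa [mul_inv_eq_one, mul_eq_left] at this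
    rw [ha] at hyy
    rcases h.classify hyy ha1 with h2 | ⟨h2, h3⟩
    · obtain ⟨k, hk⟩ := h.ZT_one h2
      have h4 := h.card_R_z S hS hG
      rw [← hk, card_R_conj, ← ha, hRy] at h4
      have h5 : Nat.card (h.S0 ⊓ centralizer ({y} : Set G) : Subgroup G) ≤ Nat.card h.S0 :=
        Subgroup.card_le_of_le inf_le_left
      rw [h.card_S0] at h5
      omega
    · obtain ⟨k, s, hs, hk⟩ := h2
      have h4 := h.card_R_u hG hs
      rw [← hk, card_R_conj, ← ha, hRy] at h4
      have h5 := h.small hyy h3
      rw [← ha] at h5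
      omega
  · -- `y` outside `T`
    obtain ⟨a, ha⟩ := h1
    have ha' : y = f * X a := by rw [← ha, ← mul_assoc, h.ff, one_mul]
    rw [ha'] at hyy
    obtain ⟨k, hkT, hk⟩ := h.exists_conj_f hyy
    have hky : k * y * k⁻¹ = f := by rw [ha']; exact hk
    have h2 : Nat.card (h.T ⊓ centralizer ({y} : Set G) : Subgroup G) ≤ Nat.card h.T1 := by
      have hmem : ∀ x : (h.T ⊓ centralizer ({y} : Set G) : Subgroup G), k * (x : G) * k⁻¹ ∈ h.T1 := by
        intro x
        obtain ⟨hx1, hx2⟩ := mem_inf.mp x.2
        refine mem_inf.mpr ⟨h.T.mul_mem (h.T.mul_mem hkT hx1) (h.T.inv_mem hkT),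
          mem_centralizer_singleton_iff.mpr ?_⟩
        have h3 : (x : G) * y = y * (x : G) := mem_centralizer_singleton_iff.mp hx2
        calc k * (x : G) * k⁻¹ * f = k * (x : G) * k⁻¹ * (k * y * k⁻¹) := by rw [hky]
          _ = k * ((x : G) * y) * k⁻¹ := by group
          _ = k * (y * x) * k⁻¹ := by rw [h3]
          _ = (k * y * k⁻¹) * (k * (x : G) * k⁻¹) := by group
          _ = _ := by rw [hky]
      refine Nat.card_le_card_of_injective
        (fun x : (h.T ⊓ centralizer ({y} : Set G) : Subgroup G) => (⟨_, hmem x⟩ : h.T1)) ?_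
      intro a b hab
      have h8 : k * (a : G) * k⁻¹ = k * (b : G) * k⁻¹ := congrArg Subtype.val hab
      exact Subtype.ext (mul_left_cancel (mul_right_cancel h8))
    rw [h.card_T1] at h2
    have h3 := h.card_R_f hG
    omega

end Dat

end Cfsg.Agent.Omega.GTwoFour
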