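import Cfsg.Agent.Omega.GTwoFour.Inv

/-!
# The pair of type `G₂(4)`: centralizers in `T`; the involutions of `f T`
-/

set_option autoImplicit false

namespace Cfsg.Agent.Omega.GTwoFour

open Cfsg.Agent.HexRec Subgroup

variable {F : Type*} [Field F] {G : Type*} [Group G] {X : Tup F F → G} {f : G} {ja jb : G}

omit [Field F] in
/-- counting a class from below -/
theorem card_cent_le [Finite G] (hF : Nat.card F = 4) {T : Subgroup G} {y : G} (s : F → F → G)
    (hs : ∀ p q, s p q ∈ T)
    (hinj : ∀ p q p' q', s p q * y * (s p q)⁻¹ = s p' q' * y * (s p' q')⁻¹ → p = p' ∧ q = q') :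
    16 * Nat.card (T ⊓ centralizer ({y} : Set G) : Subgroup G) ≤ Nat.card T := by
  have := fin hF
  let φ : (F × F) × (T ⊓ centralizer ({y} : Set G) : Subgroup G) → T :=
    fun x => ⟨s x.1.1 x.1.2 * x.2, mul_mem (hs _ _) x.2.2.1⟩
  have hφ : Function.Injective φ := by
    rintro ⟨⟨p, q⟩, c, hc⟩ ⟨⟨p', q'⟩, c', hc'⟩ hx
    have h1 : s p q * c = s p' q' * c' := congrArg Subtype.val hx
    have hc2 := mem_centralizer_singleton_iff.mp hc.2
    have hc2' := mem_centralizer_singleton_iff.mp hc'.2
    have h2 : s p q * y * (s p q)⁻¹ = s p' q' * y * (s p' q')⁻¹ := by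
      calc s p q * y * (s p q)⁻¹ = s p q * (c * y) * (s p q * c)⁻¹ := by rw [hc2]; group
        _ = (s p q * c) * y * (s p q * c)⁻¹ := by group
        _ = (s p' q' * c') * y * (s p' q' * c')⁻¹ := by rw [h1]
        _ = s p' q' * (c' * y) * (s p' q' * c')⁻¹ := by group
        _ = s p' q' * y * (s p' q')⁻¹ := by rw [hc2']; group
    obtain ⟨rfl, rfl⟩ := hinj _ _ _ _ h2
    have h3 : c = c' := mul_left_cancel h1
    subst h3
    rfl
  have h1 := Nat.card_le_card_of_injective φ hφ
  rw [Nat.card_prod, Nat.card_prod, hF] at h1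
  omega

namespace Dat

variable (h : Dat X f ja jb)
include h

/-- involutions of `T` outside `V` have at least 16 conjugates in `T` -/
theorem small [Finite G] {a : Tup F F} (ha : X a * X a = 1)
    (hV : ¬ (a.a1 = 0 ∧ a.a3 = 0 ∧ a.a5 = 0 ∧ a.a6 = 0)) :
    Nat.card (h.T ⊓ centralizer ({X a} : Set G) : Subgroup G) ≤ 256 := by
  have h2 := two h.card
  obtain ⟨q1, q2, q3⟩ := h.sq_eqs ha
  suffices hh : 16 * Nat.card (h.T ⊓ centralizer ({X a} : Set G) : Subgroup G) ≤ Nat.card h.T by
    rw [h.card_T] at hh
    omega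
  obtain ⟨a1, a2, a3, a4, a5, a6⟩ := a
  simp only at q1 q2 q3 hV
  by_cases c1 : a1 = 0
  · subst c1
    by_cases c6 : a6 = 0
    · subst c6
      by_cases c5 : a5 = 0
      · subst c5
        have c3 : a3 ≠ 0 := fun hc => hV ⟨rfl, hc, rfl, rfl⟩
        refine card_cent_le h.card (fun p q => X (e5 q) * X (e1 p))
          (fun p q => mul_mem (h.X_mem _) (h.X_mem _)) ?_
        intro p q p' q' he
        rw [trans_conj (h.cj1 p _ _ _ _ _) (h.cj5 q _ _ _ _ _ _),
          trans_conj (h.cj1 p' _ _ _ _ _) (h.cj5 q' _ _ _ _ _ _)] at he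
        have he' := h.inj he
        have e2 := congrArg Tup.a2 he'
        have e4 := congrArg Tup.a4 he'
        simp only at e2 e4
        have hp : p = p' := by
          have : (p - p') * a3 = 0 := by linear_combination e2
          rcases mul_eq_zero.mp this with hc | hc
          · exact sub_eq_zero.mp hc
          · exact absurd hc c3
        subst hp
        refine ⟨rfl, ?_⟩
        have : (q - q') * a3 = 0 := by linear_combination e4
        rcases mul_eq_zero.mp this with hc | hc
        · exact sub_eq_zero.mp hc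
        · exact absurd hc c3
      · have c3 : a3 = 0 := by
          have q4 : a3 * a5 = 0 := by linear_combination q3
          rcases mul_eq_zero.mp q4 with hc | hc
          · exact hc
          · exact absurd hc c5
        subst c3
        refine card_cent_le h.card (fun p q => X (e3 q) * X (e1 p))
          (fun p q => mul_mem (h.X_mem _) (h.X_mem _)) ?_
        intro p q p' q' he
        rw [trans_conj (h.cj1 p _ _ _ _ _) (h.cj3 q _ _ _ _ _ _),
          trans_conj (h.cj1 p' _ _ _ _ _) (h.cj3 q' _ _ _ _ _ _)] at he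
        have he' := h.inj he
        have e2 := congrArg Tup.a2 he'
        have e4 := congrArg Tup.a4 he'
        simp only at e2 e4
        have hp : p = p' := by
          have : (p - p') * ((p - p') * a5) = 0 := by grind
          rcases mul_eq_zero.mp this with hc | hc
          · exact sub_eq_zero.mp hc
          · rcases mul_eq_zero.mp hc with hc | hc
            · exact sub_eq_zero.mp hc
            · exact absurd hc c5
        subst hp
        refine ⟨rfl, ?_⟩
        have : (q - q') * a5 = 0 := by linear_combination e4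
        rcases mul_eq_zero.mp this with hc | hc
        · exact sub_eq_zero.mp hc
        · exact absurd hc c5
    · refine card_cent_le h.card (fun p q => X (e2 q) * X (e1 p))
        (fun p q => mul_mem (h.X_mem _) (h.X_mem _)) ?_
      intro p q p' q' he
      rw [trans_conj (h.cj1 p _ _ _ _ _) (h.cj2 q _ _ _ _ _ _),
        trans_conj (h.cj1 p' _ _ _ _ _) (h.cj2 q' _ _ _ _ _ _)] at he
      have he' := h.inj he
      have e5 := congrArg Tup.a5 he'
      have e4 := congrArg Tup.a4 he'
      simp only at e5 e4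
      have hp : p = p' := by
        have : (p - p') * a6 = 0 := by linear_combination e5
        rcases mul_eq_zero.mp this with hc | hc
        · exact sub_eq_zero.mp hc
        · exact absurd hc c6
      subst hp
      refine ⟨rfl, ?_⟩
      have : (q - q') * a6 = 0 := by linear_combination e4
      rcases mul_eq_zero.mp this with hc | hc
      · exact sub_eq_zero.mp hc
      · exact absurd hc c6
  · have c6 : a6 = 0 := by
      rcases mul_eq_zero.mp q1 with hc | hc
      · exact hc
      · exact absurd hc c1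
    subst c6
    refine card_cent_le h.card (fun p q => X (e6 p) * X (e3 q))
      (fun p q => mul_mem (h.X_mem _) (h.X_mem _)) ?_
    intro p q p' q' he
    rw [trans_conj (h.cj3 q _ _ _ _ _ _) (h.cj6 p _ _ _ _ _ _),
      trans_conj (h.cj3 q' _ _ _ _ _ _) (h.cj6 p' _ _ _ _ _ _)] at he
    have he' := h.inj he
    have e5 := congrArg Tup.a5 he'
    have e2 := congrArg Tup.a2 he'
    simp only at e5 e2
    have hp : p = p' := by
      have : (p - p') * a1 = 0 := by linear_combination e5
      rcases mul_eq_zero.mp this with hc | hc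
      · exact sub_eq_zero.mp hc
      · exact absurd hc c1
    subst hp
    refine ⟨rfl, ?_⟩
    have : (q - q') * a1 = 0 := by linear_combination e2
    rcases mul_eq_zero.mp this with hc | hc
    · exact sub_eq_zero.mp hc
    · exact absurd hc c1

/-! ### involutions of `f T` -/

theorem step {e a : Tup F F} (he : mu e e = one0) (ha : f * X a * (f * X a) = 1) :
    f * X (mu (mu (fr e) a) e) * (f * X (mu (mu (fr e) a) e)) = 1 ∧
      X e * (f * X a) * (X e)⁻¹ = f * X (mu (mu (fr e) a) e) := by
  have h1 : X e * X e = 1 := by rw [h.mul, he, h.X_one]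
  have h2 : (X e)⁻¹ = X e := inv_eq_of_mul_eq_one_right h1
  have h3 : X e * (f * X a) * (X e)⁻¹ = f * X (mu (mu (fr e) a) e) := by
    rw [h2, ← mul_assoc, h.Xf, ← h.mul, ← h.mul, mul_assoc, mul_assoc, mul_assoc]
  exact ⟨by rw [← h3]; exact conj_sq ha rfl, h3⟩

theorem feq {a : Tup F F} (ha : f * X a * (f * X a) = 1) : mu (fr a) a = one0 := by
  rw [← mul_assoc, h.fX, h.mul] at ha
  exact h.eq_one ha

/-- every involution of `f T` is conjugate to `f` -/
theorem exists_conj_f {a : Tup F F} (ha : f * X a * (f * X a) = 1) :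
    ∃ g ∈ h.T, g * (f * X a) * g⁻¹ = f := by
  have hF := h.card
  have h2 := two hF
  -- x1
  obtain ⟨s, hs⟩ := exists_tr hF (c := a.a1) (by
    have := congrArg Tup.a1 (h.feq ha); simpa [mu, fr, one0] using this)
  obtain ⟨hb, kb⟩ := h.step (e := e1 s) (by ext <;> simp only [mu, e1, one0] <;> grind) ha
  set b := mu (mu (fr (e1 s)) a) (e1 s) with hbdef
  have b1 : b.a1 = 0 := by simp only [hbdef, mu, fr, e1]; grind
  clear_value b
  -- x6
  obtain ⟨s, hs⟩ := exists_tr hF (c := b.a6) (by
    have := congrArg Tup.a6 (h.feq hb); simpa [mu, fr, one0] using this)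
  obtain ⟨hc, kc⟩ := h.step (e := e6 s) (by ext <;> simp only [mu, e6, one0] <;> grind) hb
  set c := mu (mu (fr (e6 s)) b) (e6 s) with hcdef
  have c1 : c.a1 = 0 := by simp only [hcdef, mu, fr, e6]; grind
  have c6 : c.a6 = 0 := by simp only [hcdef, mu, fr, e6]; grind
  clear_value c
  -- x5
  obtain ⟨s, hs⟩ := exists_tr hF (c := c.a5) (by
    have := congrArg Tup.a5 (h.feq hc); simpa [mu, fr, one0, c1, c6] using this)
  obtain ⟨hd, kd⟩ := h.step (e := e5 s) (by ext <;> simp only [mu, e5, one0] <;> grind) hc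
  set d := mu (mu (fr (e5 s)) c) (e5 s) with hddef
  have d1 : d.a1 = 0 := by simp only [hddef, mu, fr, e5]; grind
  have d6 : d.a6 = 0 := by simp only [hddef, mu, fr, e5]; grind
  have d5 : d.a5 = 0 := by simp only [hddef, mu, fr, e5]; grind
  clear_value d
  -- x3
  obtain ⟨s, hs⟩ := exists_tr hF (c := d.a3) (by
    have := congrArg Tup.a3 (h.feq hd); simpa [mu, fr, one0, d1, d6, d5] using this)
  obtain ⟨hp, kp⟩ := h.step (e := e3 s) (by ext <;> simp only [mu, e3, one0] <;> grind) hd
  set p := mu (mu (fr (e3 s)) d) (e3 s) with hpdef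
  have p1 : p.a1 = 0 := by simp only [hpdef, mu, fr, e3]; grind
  have p6 : p.a6 = 0 := by simp only [hpdef, mu, fr, e3]; grind
  have p5 : p.a5 = 0 := by simp only [hpdef, mu, fr, e3]; grind
  have p3 : p.a3 = 0 := by simp only [hpdef, mu, fr, e3]; grind
  clear_value p
  -- x2
  obtain ⟨s, hs⟩ := exists_tr hF (c := p.a2) (by
    have := congrArg Tup.a2 (h.feq hp); simpa [mu, fr, one0, p1, p6, p5, p3] using this)
  obtain ⟨hq, kq⟩ := h.step (e := e2 s) (by ext <;> simp only [mu, e2, one0] <;> grind) hp
  set q := mu (mu (fr (e2 s)) p) (e2 s) with hqdef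
  have q1 : q.a1 = 0 := by simp only [hqdef, mu, fr, e2]; grind
  have q6 : q.a6 = 0 := by simp only [hqdef, mu, fr, e2]; grind
  have q5 : q.a5 = 0 := by simp only [hqdef, mu, fr, e2]; grind
  have q3 : q.a3 = 0 := by simp only [hqdef, mu, fr, e2]; grind
  have q2 : q.a2 = 0 := by simp only [hqdef, mu, fr, e2]; grind
  clear_value q
  -- x4
  obtain ⟨s, hs⟩ := exists_tr hF (c := q.a4) (by
    have := congrArg Tup.a4 (h.feq hq); simpa [mu, fr, one0, q1, q6, q5, q3, q2] using this)
  obtain ⟨hr, kr⟩ := h.step (e := e4 s) (by ext <;> simp only [mu, e4, one0] <;> grind) hq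
  have hr0 : mu (mu (fr (e4 s)) q) (e4 s) = one0 := by
    ext <;> simp only [mu, fr, e4, one0] <;> grind
  rw [hr0, h.X_one, mul_one] at kr
  refine ⟨_, ?_, trans_conj (trans_conj (trans_conj (trans_conj (trans_conj kb kc) kd) kp) kq) kr⟩
  exact mul_mem (h.X_mem _) (mul_mem (h.X_mem _) (mul_mem (h.X_mem _) (mul_mem (h.X_mem _)
    (mul_mem (h.X_mem _) (h.X_mem _)))))

end Dat

end Cfsg.Agent.Omega.GTwoFour
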